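import Cfsg.Agent.Lib.Invol.J3Type.ThreeLocal

/-!
The fusion inside the elementary abelian subgroup of order twenty-seven.
-/

set_option autoImplicit false
set_option linter.unusedSectionVars false
set_option linter.style.haveILetI false

namespace Cfsg.Agent.Invol.J3Type

open Cfsg Cfsg.Agent Cfsg.Agent.Invol.HJ

universe u

variable {G : Type u} [Group G] [Finite G] {z : G} {Q : Subgroup G} {y a b n f : G} {R : Subgroup G}

theorem card_three_five (hG : Nat.card G = 50232960) (P : Sylow 3 G) : Nat.card (P : Subgroup G) = 243 := by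
  haveI : Fact (Nat.Prime 3) := ⟨Nat.prime_three⟩
  rw [P.card_eq_multiplicity, hG]
  have e1 : (50232960 : ℕ).factorization 3 = 5 := by
    rw [show (50232960 : ℕ) = 3 ^ 5 * 206720 by norm_num, Nat.factorization_mul (by norm_num) (by norm_num),
      Finsupp.add_apply, Nat.prime_three.factorization_pow, Finsupp.single_eq_same,
      Nat.factorization_eq_zero_of_not_dvd (by norm_num)]
  rw [e1]; norm_num

/-- The subgroup of order twenty-seven is abelian. -/
theorem TData.comm (T : TData y f R) (hy : orderOf y = 3) (hY : Nat.card (Subgroup.centralizer ({y} : Set G)) = 1080)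
    (hG : Nat.card G = 50232960) : ∀ r ∈ R, ∀ s ∈ R, r * s = s * r := by
  haveI : Fact (Nat.Prime 3) := ⟨Nat.prime_three⟩
  obtain ⟨P, hP⟩ := (IsPGroup.of_card (n := 3) (by rw [T.card]; norm_num) : IsPGroup 3 R).exists_le_sylow
  haveI : Nontrivial (P : Subgroup G) :=
    Finite.one_lt_card_iff_nontrivial.1 (by rw [card_three_five hG]; norm_num)
  haveI := P.isPGroup'.center_nontrivial
  obtain ⟨⟨c, hcc⟩, hco⟩ := exists_prime_orderOf_dvd_card' (G := Subgroup.center (P : Subgroup G)) 3 (by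
    obtain ⟨q, hq⟩ := IsPGroup.iff_card.1 (P.isPGroup'.to_subgroup (Subgroup.center (P : Subgroup G)))
    rw [hq]
    refine dvd_pow_self 3 fun h0 => ?_
    have := Finite.one_lt_card (α := Subgroup.center (P : Subgroup G))
    rw [hq, h0, pow_zero] at this
    omega)
  rw [Subgroup.orderOf_mk, ← Subgroup.orderOf_coe] at hco
  have hcP : ∀ p ∈ (P : Subgroup G), p * (c : G) = c * p := fun p hp =>
    congrArg Subtype.val (Subgroup.mem_center_iff.1 hcc ⟨p, hp⟩)
  set S := (P : Subgroup G) ⊓ Subgroup.centralizer ({y} : Set G)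
  have hRS : R ≤ S := le_inf hP T.le
  have hS : Nat.card S ∣ 27 := by
    have h1 : Nat.card S ∣ 243 := card_three_five hG P ▸ Subgroup.card_dvd_of_le inf_le_left
    have h2 : Nat.card S ∣ 1080 := hY ▸ Subgroup.card_dvd_of_le inf_le_right
    exact (Nat.dvd_gcd h1 h2).trans (by norm_num)
  have hSR : R = S :=
    Subgroup.eq_of_le_of_card_ge hRS (by rw [T.card]; exact Nat.le_of_dvd (by norm_num) hS)
  have hcR : (c : G) ∈ R := by
    rw [hSR]; exact ⟨c.2, mem_cent_iff.2 (hcP y (hP T.yR)).symm⟩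
  have hcy : (c : G) ∉ Subgroup.zpowers y := by
    intro hc
    have hgen : Subgroup.zpowers (c : G) = Subgroup.zpowers y :=
      Subgroup.eq_of_le_of_card_ge (Subgroup.zpowers_le.2 hc) (by rw [Nat.card_zpowers, Nat.card_zpowers, hco, hy])
    have hle : (P : Subgroup G) ≤ Subgroup.centralizer ({y} : Set G) := fun p hp => by
      obtain ⟨i, hi⟩ := (hgen ▸ Subgroup.mem_zpowers y : y ∈ Subgroup.zpowers (c : G))
      have hi' : (c : G) ^ i = y := hi
      exact mem_cent_iff.2 (hi' ▸ ((show Commute p (c : G) from hcP p hp).zpow_right i).eq)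
    have := hY ▸ Subgroup.card_dvd_of_le hle
    rw [card_three_five hG] at this
    norm_num at this
  set Zr := Subgroup.center R
  have hyZ : (⟨y, T.yR⟩ : R) ∈ Zr :=
    Subgroup.mem_center_iff.2 fun r => Subtype.ext (mem_cent_iff.1 (T.le r.2))
  have hcZ : (⟨c, hcR⟩ : R) ∈ Zr := Subgroup.mem_center_iff.2 fun r => Subtype.ext (hcP r (hP r.2))
  have h3 : 3 < Nat.card Zr := by
    refine lt_of_lt_of_le ?_ (Subgroup.card_le_of_le (H := Subgroup.zpowers (⟨y, T.yR⟩ : R) ⊔
      Subgroup.zpowers (⟨c, hcR⟩ : R)) (sup_le (Subgroup.zpowers_le.2 hyZ) (Subgroup.zpowers_le.2 hcZ)))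
    refine lt_of_eq_of_lt (by rw [Nat.card_zpowers, Subgroup.orderOf_mk, hy] : (3 : ℕ) = Nat.card (Subgroup.zpowers (⟨y, T.yR⟩ : R))) ?_
    refine lt_of_le_of_ne (Subgroup.card_le_of_le le_sup_left) fun e => hcy ?_
    have e2 := Subgroup.eq_of_le_of_card_ge (le_sup_left : Subgroup.zpowers (⟨y, T.yR⟩ : R) ≤ _) e.ge
    obtain ⟨i, hi⟩ : (⟨c, hcR⟩ : R) ∈ Subgroup.zpowers (⟨y, T.yR⟩ : R) :=
      e2 ▸ (le_sup_right : Subgroup.zpowers (⟨c, hcR⟩ : R) ≤ _) (Subgroup.mem_zpowers _)
    exact ⟨i, by simpa using congrArg Subtype.val hi⟩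
  haveI : IsCyclic (R ⧸ Zr) := by
    have h27 := Zr.card_mul_index
    rw [T.card] at h27
    have hle := Nat.le_of_dvd (by norm_num) (Dvd.intro_left _ h27 : Zr.index ∣ 27)
    have hd : Nat.card Zr ∣ 27 := Dvd.intro _ h27
    have hz' : Nat.card Zr = 9 ∨ Nat.card Zr = 27 := by
      have := Nat.le_of_dvd (by norm_num) hd
      set cz := Nat.card Zr
      interval_cases cz <;> omega
    rcases hz' with e | e
    · exact isCyclic_of_prime_card (p := 3) (by rw [← Subgroup.index_eq_card]; rw [e] at h27; omega)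
    · haveI : Subsingleton (R ⧸ Zr) := (Nat.card_eq_one_iff_unique.1
        (by rw [← Subgroup.index_eq_card]; rw [e] at h27; omega)).1
      infer_instance
  intro r hr s hs
  exact congrArg Subtype.val (commutative_of_cyclic_center_quotient (QuotientGroup.mk' Zr)
    (by rw [QuotientGroup.ker_mk']) ⟨r, hr⟩ ⟨s, hs⟩)

/-- The inverted part. -/
def invPart (R : Subgroup G) (f : G) (hR : ∀ r ∈ R, ∀ s ∈ R, r * s = s * r) : Subgroup G where
  carrier := {r | r ∈ R ∧ f * f * r * (f * f)⁻¹ = r⁻¹}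
  one_mem' := ⟨R.one_mem, by group⟩
  mul_mem' := fun {r s} hr hs => ⟨R.mul_mem hr.1 hs.1, by
    rw [← conj_mul, hr.2, hs.2, ← mul_inv_rev, hR r hr.1 s hs.1]⟩
  inv_mem' := fun {r} hr => ⟨R.inv_mem hr.1, by rw [← conj_inv, hr.2]⟩

theorem mem_invPart {hR : ∀ r ∈ R, ∀ s ∈ R, r * s = s * r} {r : G} :
    r ∈ invPart R f hR ↔ r ∈ R ∧ f * f * r * (f * f)⁻¹ = r⁻¹ := Iff.rfl

/-- A group of order a power of three permuting eight elements in inverse pairs has a large kernel. -/
theorem lines_kernel (P : Subgroup G) (hP : Nat.card P = 243) (L : Set G) (hL : Nat.card L = 8)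
    (hinv : ∀ l ∈ L, l⁻¹ ∈ L) (hne : ∀ l ∈ L, l⁻¹ ≠ l) (hP' : ∀ g ∈ P, ∀ l ∈ L, g * l * g⁻¹ ∈ L)
    (h3 : ∀ l ∈ L, orderOf l = 3) :
    ∃ K : Subgroup G, K ≤ P ∧ 81 ∣ Nat.card K ∧ ∀ k ∈ K, ∀ l ∈ L, k * l = l * k := by
  classical
  haveI := Fintype.ofFinite G
  let S : Type u := {H : Subgroup G // ∃ l ∈ L, Subgroup.zpowers l = H}
  have hS : Nat.card S ≤ 4 := by
    have e := Finset.mul_card_image_le_card (f := fun l => Subgroup.zpowers l) L.toFinset 2 (by
      intro H hH
      obtain ⟨l, hl, rfl⟩ := Finset.mem_image.1 hH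
      rw [Set.mem_toFinset] at hl
      calc 2 = ({l, l⁻¹} : Finset G).card := (Finset.card_pair (hne l hl).symm).symm
        _ ≤ _ := Finset.card_le_card fun x hx => by
          simp only [Finset.mem_insert, Finset.mem_singleton] at hx
          rcases hx with rfl | rfl
          · exact Finset.mem_filter.2 ⟨Set.mem_toFinset.2 hl, rfl⟩
          · exact Finset.mem_filter.2 ⟨Set.mem_toFinset.2 (hinv _ hl), Subgroup.zpowers_inv⟩)
    have hcard : Nat.card S = (L.toFinset.image fun l => Subgroup.zpowers l).card := by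
      haveI : Fintype S := Fintype.ofFinite _
      rw [Nat.card_eq_fintype_card]
      exact Fintype.card_of_subtype _ fun H => by simp
    rw [← Set.ncard_eq_toFinset_card', ← Nat.card_coe_set_eq, hL] at e
    omega
  let act : P → S → S := fun g H => ⟨H.1.map (MulAut.conj (g : G)).toMonoidHom, by
    obtain ⟨l, hl, hlH⟩ := H.2
    exact ⟨(g : G) * l * (g : G)⁻¹, hP' g g.2 l hl, by rw [← hlH, MonoidHom.map_zpowers]; rfl⟩⟩
  letI : MulAction P S :=
    { smul := act
      one_smul := fun H => Subtype.ext (by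
        show H.1.map _ = H.1
        have e : (MulAut.conj ((1 : P) : G)).toMonoidHom = MonoidHom.id G := MonoidHom.ext fun x => by simp
        rw [e, Subgroup.map_id])
      mul_smul := fun g k H => Subtype.ext (by
        show H.1.map _ = (H.1.map _).map _
        rw [Subgroup.map_map]
        congr 1
        exact MonoidHom.ext fun x => by simp [mul_assoc]) }
  let φ := MulAction.toPermHom P S
  have hd : Nat.card φ.range ∣ 3 := by
    have h1 : Nat.card φ.range ∣ 243 := hP ▸ Subgroup.card_range_dvd φ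
    have h2 : Nat.card φ.range ∣ 24 := by
      refine (Subgroup.card_subgroup_dvd_card φ.range).trans ?_
      rw [Nat.card_perm]
      exact (Nat.factorial_dvd_factorial hS).trans (by decide)
    exact (Nat.dvd_gcd h1 h2).trans (by norm_num)
  refine ⟨φ.ker.map P.subtype, Subgroup.map_subtype_le _, ?_, ?_⟩
  · have h1 := φ.ker.card_mul_index
    rw [Subgroup.index_ker, hP] at h1
    rw [Subgroup.card_map_of_injective P.subtype_injective]
    obtain ⟨q, hq⟩ := hd
    refine ⟨q, Nat.eq_of_mul_eq_mul_right (Nat.card_pos : 0 < Nat.card φ.range) ?_⟩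
    rw [h1, mul_assoc, mul_comm q, ← hq]; norm_num
  · rintro _ ⟨g, hg, rfl⟩ l hl
    have e1 : (Subgroup.zpowers l).map (MulAut.conj (g : G)).toMonoidHom = Subgroup.zpowers l :=
      congrArg Subtype.val (DFunLike.congr_fun (MonoidHom.mem_ker.1 hg) (⟨_, l, hl, rfl⟩ : S))
    rw [MonoidHom.map_zpowers] at e1
    have h2 : (g : G) * l * (g : G)⁻¹ ∈ Subgroup.zpowers l := e1 ▸ Subgroup.mem_zpowers _
    obtain ⟨i, hi⟩ := h2
    have hi' : l ^ i = (g : G) * l * (g : G)⁻¹ := hi
    have hl1 : l ≠ 1 := fun e => hne l hl (by rw [e, inv_one])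
    rcases three_cases (i : ZMod 3) with r | r | r
    · show (g : G) * l = l * g
      refine mul_inv_eq_iff_eq_mul.1 ?_
      rw [← hi']
      conv_rhs => rw [← zpow_one l]
      rw [zpow_eq_zpow_iff_modEq, h3 l hl, ← ZMod.intCast_eq_intCast_iff, r, Int.cast_one]
    · have e2 : (g : G) * l * (g : G)⁻¹ = l⁻¹ := by
        rw [← hi', ← zpow_neg_one, zpow_eq_zpow_iff_modEq, h3 l hl, ← ZMod.intCast_eq_intCast_iff, r]
        push_cast; rfl
      have hsq : Commute ((g : G) ^ 2) l := by
        show (g : G) ^ 2 * l = l * (g : G) ^ 2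
        refine mul_inv_eq_iff_eq_mul.1 ?_
        calc (g : G) ^ 2 * l * ((g : G) ^ 2)⁻¹ = (g : G) * ((g : G) * l * (g : G)⁻¹) * (g : G)⁻¹ := by
              rw [pow_two]; group
          _ = l := by rw [e2, ← conj_inv, e2, inv_inv]
      have hgo : (g : G) ^ 243 = 1 := by
        have := congrArg Subtype.val (pow_card_eq_one' (x := g))
        rw [hP] at this
        simpa using this
      have h122 : ((g : G) ^ 2) ^ 122 = g := by
        rw [← pow_mul, show 2 * 122 = 243 + 1 from rfl, pow_succ, hgo, one_mul]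
      show (g : G) * l = l * g
      have := (hsq.pow_left 122).eq
      rwa [h122] at this
    · exfalso
      have h1 : (g : G) * l * (g : G)⁻¹ = 1 := by
        rw [← hi', ← zpow_zero l, zpow_eq_zpow_iff_modEq, h3 l hl, ← ZMod.intCast_eq_intCast_iff, r, Int.cast_zero]
      exact hl1 (conj_eq_one_iff.1 h1)

end Cfsg.Agent.Invol.J3Type
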