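import Mathlib
import Cfsg.Agent.Lib.Invol.SmallCent.FourFixed

/-!
# General tools for groups of Janko three type
-/

set_option autoImplicit false
set_option linter.unusedSectionVars false
set_option linter.style.haveILetI false

namespace Cfsg.Agent.Invol.J3Type

variable {G : Type*} [Group G]

theorem two_iff {x : G} : orderOf x = 2 ↔ x * x = 1 ∧ x ≠ 1 := by
  haveI : Fact (Nat.Prime 2) := ⟨Nat.prime_two⟩
  rw [orderOf_eq_prime_iff, pow_two]

theorem card_cent_conj (g x : G) : Nat.card (Subgroup.centralizer ({g * x * g⁻¹} : Set G)) =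
    Nat.card (Subgroup.centralizer ({x} : Set G)) := by
  refine (Nat.card_congr ((MulAut.conj g).toEquiv.subtypeEquiv fun h => ?_)).symm
  rw [Subgroup.mem_centralizer_singleton_iff, Subgroup.mem_centralizer_singleton_iff]
  simp only [MulEquiv.toEquiv_eq_coe, EquivLike.coe_coe, MulAut.conj_apply]
  rw [conj_mul, conj_mul, mul_left_inj, mul_right_inj]

theorem comm_conj {a b g : G} (h : a * b = b * a) :
    (g * a * g⁻¹) * (g * b * g⁻¹) = (g * b * g⁻¹) * (g * a * g⁻¹) := by
  rw [conj_mul, conj_mul, h]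

theorem orderOf_conj' (g x : G) : orderOf (g * x * g⁻¹) = orderOf x :=
  orderOf_injective (MulAut.conj g).toMonoidHom (MulAut.conj g).injective x

theorem mem_cent_iff {a b : G} : a ∈ Subgroup.centralizer ({b} : Set G) ↔ a * b = b * a :=
  Subgroup.mem_centralizer_singleton_iff

/-- The twice odd case: the elements of odd order form a subgroup. -/
theorem odd_part [Finite G] (K : Subgroup G) (h2 : 2 ∣ Nat.card K) (h4 : ¬ 4 ∣ Nat.card K) :
    ∃ O : Subgroup G, O ≤ K ∧ Odd (Nat.card O) ∧ Nat.card K = 2 * Nat.card O ∧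
      ∀ k ∈ K, (k ∈ O ↔ Odd (orderOf k)) := by
  haveI := Fact.mk Nat.prime_two
  obtain ⟨P⟩ : Nonempty (Sylow 2 K) := inferInstance
  have hP : Nat.card P = 2 := by
    rw [Sylow.card_eq_multiplicity]
    have h1 : (Nat.card K).factorization 2 = 1 := by
      refine le_antisymm ?_ ((Nat.prime_two.dvd_iff_one_le_factorization Nat.card_pos.ne').1 h2)
      by_contra hlt
      exact h4 ((Nat.prime_two.pow_dvd_iff_le_factorization Nat.card_pos.ne').2 (by omega : 2 ≤ _))
    rw [h1, pow_one]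
  have hnc : Subgroup.normalizer ((P : Subgroup K) : Set K) ≤
      Subgroup.centralizer ((P : Subgroup K) : Set K) := by
    intro g hg
    rw [Subgroup.mem_centralizer_iff]
    intro x hx
    by_cases hx1 : x = 1
    · simp [hx1]
    have hgx := (Subgroup.mem_normalizer_iff.1 hg x).1 hx
    obtain ⟨y, -, huniq⟩ := (Nat.card_eq_two_iff' (1 : P)).1 hP
    have e1 := huniq ⟨x, hx⟩ fun e => hx1 (congrArg Subtype.val e)
    have e2 := huniq ⟨g * x * g⁻¹, hgx⟩ fun e => hx1 (conj_eq_one_iff.1 (congrArg Subtype.val e))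
    have e := congrArg Subtype.val (e2.trans e1.symm)
    exact (mul_inv_eq_iff_eq_mul.1 e).symm
  have hcomp := MonoidHom.ker_transferSylow_isComplement' P hnc
  set O := (MonoidHom.transferSylow P hnc).ker
  have hcard : Nat.card K = 2 * Nat.card O := by
    have hP' : Nat.card (P : Subgroup K) = 2 := hP
    rw [← hcomp.card_mul, hP', mul_comm]
  have hodd : Odd (Nat.card O) := by
    rw [← Nat.not_even_iff_odd, even_iff_two_dvd]
    intro hd
    exact h4 (by rw [hcard]; exact mul_dvd_mul_left 2 hd)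
  refine ⟨O.map K.subtype, Subgroup.map_subtype_le _, ?_, ?_, fun k hk => ?_⟩
  · rwa [Subgroup.card_map_of_injective K.subtype_injective]
  · rwa [Subgroup.card_map_of_injective K.subtype_injective]
  · constructor
    · rintro ⟨k', hk', rfl⟩
      rw [Subgroup.coe_subtype, Subgroup.orderOf_coe]
      exact hodd.of_dvd_nat (Subgroup.orderOf_dvd_natCard _ hk')
    · intro ho
      refine ⟨⟨k, hk⟩, ?_, rfl⟩
      rw [SetLike.mem_coe, MonoidHom.mem_ker, ← orderOf_eq_one_iff]
      refine Nat.eq_one_of_dvd_coprimes (Nat.coprime_two_right.2 ho) ?_ ((orderOf_dvd_natCard _).trans (dvd_of_eq hP))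
      exact (orderOf_map_dvd _ _).trans (dvd_of_eq (Subgroup.orderOf_mk k hk))

/-- A group containing an involution with no further two-element centralizing it is twice odd. -/
theorem not_four_dvd [Finite G] {H : Subgroup G} {z : G} (hzH : z ∈ H) (hz : orderOf z = 2)
    (h : ¬ 4 ∣ Nat.card (H ⊓ Subgroup.centralizer ({z} : Set G) : Subgroup G)) : ¬ 4 ∣ Nat.card H := by
  haveI := Fact.mk Nat.prime_two
  intro h4
  have hzo : orderOf (⟨z, hzH⟩ : H) = 2 := by rw [Subgroup.orderOf_mk]; exact hz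
  have hcz : Nat.card (Subgroup.zpowers (⟨z, hzH⟩ : H)) = 2 ^ 1 := by
    rw [Nat.card_zpowers, hzo, pow_one]
  obtain ⟨S, hS, hzS⟩ := Sylow.exists_subgroup_card_pow_succ (p := 2) (n := 1) (by simpa using h4) hcz
  haveI := IsPGroup.isMulCommutative_of_card_eq_prime_sq (p := 2) (G := S) hS
  refine h ?_
  have hle : S.map H.subtype ≤ H ⊓ Subgroup.centralizer ({z} : Set G) := by
    rintro _ ⟨s, hs, rfl⟩
    refine Subgroup.mem_inf.2 ⟨s.2, mem_cent_iff.2 ?_⟩
    exact congrArg (fun u : S => ((u : H) : G)) (mul_comm' (⟨s, hs⟩ : S) ⟨_, hzS (Subgroup.mem_zpowers _)⟩)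
  have := Subgroup.card_dvd_of_le hle
  rwa [Subgroup.card_map_of_injective H.subtype_injective, hS] at this

/-- Two elements of prime order in one coset of a normalized coprime subgroup are conjugate under it. -/
theorem coset_conj_coprime [Finite G] {p : ℕ} [hp : Fact p.Prime] (Q : Subgroup G)
    (hQ : ¬ p ∣ Nat.card Q) {e e' : G} (he : orderOf e = p) (he' : orderOf e' = p)
    (hn : ∀ q ∈ Q, e * q * e⁻¹ ∈ Q) (hee : e⁻¹ * e' ∈ Q) : ∃ q ∈ Q, q * e * q⁻¹ = e' := by
  classical
  have heQ : e ∈ Subgroup.normalizer (Q : Set G) := Subgroup.mem_normalizer_fintype (h := hn)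
  set H := Q ⊔ Subgroup.zpowers e with hH
  have hZN : Subgroup.zpowers e ≤ Subgroup.normalizer (Q : Set G) := Subgroup.zpowers_le.2 heQ
  have hmemH : ∀ {g : G}, g ∈ H → ∃ q ∈ Q, ∃ j : ℤ, g = q * e ^ j := by
    intro g hg
    have hg' : g ∈ (↑(Q ⊔ Subgroup.zpowers e) : Set G) := hg
    rw [Subgroup.coe_mul_of_right_le_normalizer_left _ _ hZN] at hg'
    obtain ⟨q, hq, w, ⟨j, rfl⟩, rfl⟩ := hg'
    exact ⟨q, hq, j, rfl⟩
  have heH : e ∈ H := (le_sup_right : Subgroup.zpowers e ≤ H) (Subgroup.mem_zpowers e)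
  have he'H : e' ∈ H := by
    have := H.mul_mem heH ((le_sup_left : Q ≤ H) hee)
    rwa [mul_inv_cancel_left] at this
  have hint : ∀ j : ℤ, e ^ j ∈ Q → (p : ℤ) ∣ j := by
    intro j hj
    by_contra hcon
    have hcop : Nat.Coprime p (orderOf e) → False := fun h => by
      rw [he, Nat.coprime_self] at h; exact hp.out.ne_one h
    have ho : orderOf (e ^ j) = p := by
      have hd : orderOf (e ^ j) ∣ p := by
        refine orderOf_dvd_of_pow_eq_one ?_
        rw [← zpow_natCast, zpow_comm, zpow_natCast, ← he, pow_orderOf_eq_one, one_zpow]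
      rcases (Nat.dvd_prime hp.out).1 hd with h | h
      · exact absurd (he ▸ orderOf_dvd_iff_zpow_eq_one.2 (orderOf_eq_one_iff.1 h)) hcon
      · exact h
    exact hQ (ho ▸ Subgroup.orderOf_dvd_natCard _ hj)
  -- the two cyclic groups are Sylow subgroups of `H`
  have hcard : ∀ {f : G} (hf : f ∈ H), orderOf f = p → ∃ P : Sylow p H,
      (P : Subgroup H) = Subgroup.zpowers ⟨f, hf⟩ := by
    intro f hf hfo
    have hfp : IsPGroup p (Subgroup.zpowers (⟨f, hf⟩ : H)) :=
      IsPGroup.of_card (n := 1) (by rw [Nat.card_zpowers, Subgroup.orderOf_mk, hfo, pow_one])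
    obtain ⟨P, hP⟩ := hfp.exists_le_sylow
    refine ⟨P, (Subgroup.eq_of_le_of_card_ge hP ?_).symm⟩
    rw [Nat.card_zpowers, Subgroup.orderOf_mk, hfo]
    have hinj : Nat.card (P : Subgroup H) ≤ p := by
      let π : ↥(P : Subgroup H) → ZMod p := fun g =>
        ((hmemH g.1.2).choose_spec.2.choose : ZMod p)
      have hπ : Function.Injective π := by
        intro a b hab
        obtain ⟨hqa, hja⟩ := (⟨(hmemH a.1.2).choose_spec.1, (hmemH a.1.2).choose_spec.2.choose_spec⟩ :
          (hmemH a.1.2).choose ∈ Q ∧ ((a : H) : G) = (hmemH a.1.2).choose * e ^ (hmemH a.1.2).choose_spec.2.choose)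
        obtain ⟨hqb, hjb⟩ := (⟨(hmemH b.1.2).choose_spec.1, (hmemH b.1.2).choose_spec.2.choose_spec⟩ :
          (hmemH b.1.2).choose ∈ Q ∧ ((b : H) : G) = (hmemH b.1.2).choose * e ^ (hmemH b.1.2).choose_spec.2.choose)
        have hd : e ^ (hmemH a.1.2).choose_spec.2.choose = e ^ (hmemH b.1.2).choose_spec.2.choose := by
          rw [zpow_eq_zpow_iff_modEq, he]
          exact (ZMod.intCast_eq_intCast_iff _ _ _).1 hab
        have hm : ((a : H) : G) * ((b : H) : G)⁻¹ ∈ Q := by
          rw [hja, hjb, hd, mul_inv_rev, ← mul_assoc, mul_inv_cancel_right]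
          exact Q.mul_mem hqa (Q.inv_mem hqb)
        obtain ⟨k, hk⟩ := IsPGroup.iff_orderOf.1 P.2 (a * b⁻¹)
        have hk0 : k = 0 := by
          by_contra hk0
          refine hQ ((dvd_pow_self p hk0).trans ?_)
          rw [← hk, ← Subgroup.orderOf_coe, ← Subgroup.orderOf_coe]
          exact Subgroup.orderOf_dvd_natCard _ hm
        rw [hk0, pow_zero, orderOf_eq_one_iff] at hk
        exact mul_inv_eq_one.1 hk
      haveI : NeZero p := ⟨hp.out.ne_zero⟩
      simpa using Nat.card_le_card_of_injective π hπ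
    exact hinj
  obtain ⟨P, hP⟩ := hcard heH he
  obtain ⟨P', hP'⟩ := hcard he'H he'
  obtain ⟨g, hg⟩ := MulAction.exists_smul_eq H P P'
  obtain ⟨q, hq, j, hgq⟩ := hmemH g.2
  have hmem : g * ⟨e, heH⟩ * g⁻¹ ∈ Subgroup.zpowers (⟨e', he'H⟩ : H) := by
    rw [← hP', ← hg, Sylow.coe_subgroup_smul]
    exact ⟨_, hP ▸ Subgroup.mem_zpowers _, rfl⟩
  obtain ⟨k, hk⟩ := hmem
  have hk' : e' ^ k = q * e * q⁻¹ := by
    have e1 : (g : G) * e * (g : G)⁻¹ = e' ^ k := by
      have := congrArg Subtype.val hk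
      simpa using this.symm
    rw [← e1, hgq]
    group
  -- modulo `Q`
  refine ⟨q, hq, ?_⟩
  have hqm : ∀ {a b : G}, a⁻¹ * b ∈ Q → a ∈ Subgroup.normalizer (Q : Set G) → ∀ i : ℕ,
      (a ^ i)⁻¹ * b ^ i ∈ Q := by
    intro a b hab ha i
    induction i with
    | zero => simp
    | succ i ih =>
      have e2 : (a ^ (i + 1))⁻¹ * b ^ (i + 1) = (a⁻¹ * ((a ^ i)⁻¹ * b ^ i) * a) * (a⁻¹ * b) := by
        rw [pow_succ, pow_succ]; group
      rw [e2]
      refine Q.mul_mem ?_ hab
      have := (Subgroup.mem_normalizer_iff.1 (Subgroup.inv_mem _ ha) _).1 ih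
      rwa [inv_inv] at this
  obtain ⟨i, hi⟩ : ∃ i : ℕ, e' ^ k = e' ^ i := by
    refine ⟨(k % (p : ℤ)).toNat, ?_⟩
    rw [← zpow_natCast, Int.toNat_of_nonneg (Int.emod_nonneg _ (by exact_mod_cast hp.out.ne_zero)),
      zpow_eq_zpow_iff_modEq, he']
    exact (Int.mod_modEq k p).symm
  have h1 := hqm hee heQ i
  rw [← hi, hk'] at h1
  have h2 : (e ^ i)⁻¹ * e ∈ Q := by
    have h3 : e⁻¹ * (q * e * q⁻¹) ∈ Q := by
      have h4 := (Subgroup.mem_normalizer_iff.1 (Subgroup.inv_mem _ heQ) _).1 hq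
      rw [inv_inv] at h4
      rw [← mul_assoc, ← mul_assoc]
      exact Q.mul_mem h4 (Q.inv_mem hq)
    have h5 := Q.mul_mem h1 (Q.inv_mem h3)
    rwa [show (e ^ i)⁻¹ * (q * e * q⁻¹) * (e⁻¹ * (q * e * q⁻¹))⁻¹ = (e ^ i)⁻¹ * e by group] at h5
  have h3 : (p : ℤ) ∣ 1 - (i : ℤ) := by
    refine hint _ ?_
    rwa [zpow_sub, zpow_one, zpow_natCast, ((Commute.refl e).pow_right i).inv_right.eq]
  rw [← hk', hi]
  conv_rhs => rw [← pow_one e']
  rw [← zpow_natCast, ← zpow_natCast, zpow_eq_zpow_iff_modEq, he', Nat.cast_one]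
  exact Int.modEq_iff_dvd.2 h3

/-- Conjugates of a fixed element: the fixed element count in an odd class. -/
theorem exists_comm_conj [Finite G] {q : G} (hq : q * q = 1) (S : Set G)
    (hS : ∀ s ∈ S, q * s * q⁻¹ ∈ S)
    (hodd : ¬ 2 ∣ Nat.card S) : ∃ s ∈ S, q * s = s * q := by
  haveI := Fact.mk Nat.prime_two
  classical
  haveI := Fintype.ofFinite G
  by_contra hcon
  push Not at hcon
  refine hodd ?_
  let f : Function.End S := fun s => ⟨q * s * q⁻¹, hS s s.2⟩
  have hf : Function.Involutive f := fun s => Subtype.ext (by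
    show q * (q * (s : G) * q⁻¹) * q⁻¹ = s
    rw [show q * (q * (s : G) * q⁻¹) * q⁻¹ = (q * q) * s * (q * q)⁻¹ by group, hq]; group)
  let σ : Equiv.Perm S := Function.Involutive.toPerm f hf
  have hσ : σ ^ 2 ^ 1 = 1 := by
    refine Equiv.ext fun s => ?_
    rw [pow_one, pow_two, Equiv.Perm.mul_apply]
    exact hf s
  have hfix : ∀ s : S, σ s ≠ s := fun s e => hcon s s.2 (by
    have e' : q * (s : G) * q⁻¹ = s := congrArg Subtype.val e
    exact mul_inv_eq_iff_eq_mul.1 e')
  rw [Nat.card_eq_fintype_card]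
  by_contra h2
  obtain ⟨s, hs⟩ := Equiv.Perm.exists_fixed_point_of_prime (p := 2) (n := 1) h2 hσ
  exact hfix s hs

theorem card_cent_sub {K : Subgroup G} (x : K) : Nat.card (Subgroup.centralizer ({x} : Set K)) =
    Nat.card (K ⊓ Subgroup.centralizer ({(x : G)} : Set G) : Subgroup G) := by
  refine Nat.card_congr ⟨fun k => ⟨(k : K), Subgroup.mem_inf.2 ⟨(k : K).2, mem_cent_iff.2 ?_⟩⟩,
    fun k => ⟨⟨k, (Subgroup.mem_inf.1 k.2).1⟩, mem_cent_iff.2 (Subtype.ext ?_)⟩, fun k => rfl, fun k => rfl⟩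
  · exact congrArg Subtype.val (mem_cent_iff.1 k.2)
  · exact mem_cent_iff.1 (Subgroup.mem_inf.1 k.2).2

theorem no_order_fifteen (σ : Equiv.Perm (Fin 6)) (h : σ ^ 15 = 1) : σ ^ 3 = 1 ∨ σ ^ 5 = 1 := by
  have hd := orderOf_dvd_of_pow_eq_one h
  rw [← Equiv.Perm.lcm_cycleType] at hd
  have hparts : ∀ m ∈ σ.cycleType, m = 3 ∨ m = 5 := by
    intro m hm
    have h1 : m ∣ 15 := (Multiset.dvd_lcm hm).trans hd
    have h2 := Equiv.Perm.two_le_of_mem_cycleType hm
    have h3 : m ≤ σ.cycleType.sum := Multiset.single_le_sum (fun x _ => Nat.zero_le x) m hm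
    have h4 : σ.cycleType.sum ≤ 6 := by
      rw [Equiv.Perm.sum_cycleType]
      exact (Finset.card_le_univ _).trans (by simp)
    have h5 : m ≤ 6 := h3.trans h4
    interval_cases m <;> omega
  by_cases h5 : 5 ∈ σ.cycleType
  · by_cases h3 : 3 ∈ σ.cycleType
    · exfalso
      obtain ⟨t, ht⟩ := Multiset.exists_cons_of_mem h5
      have h3t : 3 ∈ t := by
        rw [ht, Multiset.mem_cons] at h3
        exact h3.resolve_left (by norm_num)
      have h1 : σ.cycleType.sum ≤ 6 := by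
        rw [Equiv.Perm.sum_cycleType]
        exact (Finset.card_le_univ _).trans (by simp)
      have h2 : 3 ≤ t.sum := Multiset.single_le_sum (fun x _ => Nat.zero_le x) 3 h3t
      rw [ht, Multiset.sum_cons] at h1
      omega
    · right
      refine orderOf_dvd_iff_pow_eq_one.1 ?_
      rw [← Equiv.Perm.lcm_cycleType, Multiset.lcm_dvd]
      intro m hm
      rcases hparts m hm with rfl | rfl
      · exact absurd hm h3
      · exact dvd_refl _
  · left
    refine orderOf_dvd_iff_pow_eq_one.1 ?_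
    rw [← Equiv.Perm.lcm_cycleType, Multiset.lcm_dvd]
    intro m hm
    rcases hparts m hm with rfl | rfl
    · exact dvd_refl _
    · exact absurd hm h5

end Cfsg.Agent.Invol.J3Type
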