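import Cfsg.Agent.Lib.Invol.HJ.Uniq.Simple
import Cfsg.Agent.Lib.Invol.J3Type.Tools

/-!
# The extraspecial group contains its centralizer
-/

set_option autoImplicit false
set_option linter.unusedSectionVars false
set_option linter.style.haveILetI false

namespace Cfsg.Agent.Invol.J3Type

open Cfsg
open scoped commutatorElement

variable {G : Type*} [Group G]

theorem a5_center : ∀ a : alternatingGroup (Fin 5), (∀ b, b * a = a * b) → a = 1 := by decide +kernel

theorem a5_four_abelian (H : Subgroup (alternatingGroup (Fin 5))) (hH : IsPGroup 2 H)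
    {a b : alternatingGroup (Fin 5)} (ha : a ∈ H) (hb : b ∈ H) : a * b = b * a := by
  haveI := Fact.mk Nat.prime_two
  obtain ⟨n, hn⟩ := IsPGroup.iff_card.1 hH
  have hd : 2 ^ n ∣ 60 := by
    rw [← hn]
    refine (Subgroup.card_subgroup_dvd_card H).trans (dvd_of_eq ?_)
    rw [nat_card_alternatingGroup, Nat.card_fin]
    rfl
  have hn2 : n ≤ 2 := by
    by_contra h
    have h8 : (8 : ℕ) ∣ 60 := (pow_dvd_pow 2 (by omega : 3 ≤ n)).trans hd
    norm_num at h8
  interval_cases n
  · have h1 := Subgroup.card_eq_one.1 (hn.trans (pow_zero 2))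
    rw [h1, Subgroup.mem_bot] at ha
    rw [ha, one_mul, mul_one]
  · haveI := isCyclic_of_prime_card (hn.trans (pow_one 2))
    exact congrArg Subtype.val (mul_comm' (⟨a, ha⟩ : H) ⟨b, hb⟩)
  · haveI := IsPGroup.isMulCommutative_of_card_eq_prime_sq (p := 2) (G := H) hn
    exact congrArg Subtype.val (mul_comm' (⟨a, ha⟩ : H) ⟨b, hb⟩)

/-- If the centralizer of `Q` is not contained in `Q` then `z` is isolated. -/
theorem cent_le_aux [Finite G] [IsSimpleGroup G] (z : G) (hz : orderOf z = 2) (C : Subgroup G)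
    (hCz : ∀ g : G, g ∈ C ↔ g * z = z * g) (Q : Subgroup C) [Q.Normal] (hQ : IsExtraspecial 2 Q)
    (hcard : Nat.card Q = 2 ^ 5) (e : C ⧸ Q ≃* alternatingGroup (Fin 5))
    (hcen : ∃ P : Sylow 2 G, z ∈ P ∧ ∀ x ∈ P, x * z = z * x) :
    Subgroup.centralizer (Q : Set C) ≤ Q := by
  classical
  haveI : Fact (Nat.Prime 2) := ⟨Nat.prime_two⟩
  haveI : IsSimpleGroup (alternatingGroup (Fin 5)) := alternatingGroup.isSimpleGroup (by simp)
  set π : C →* alternatingGroup (Fin 5) := e.toMonoidHom.comp (QuotientGroup.mk' Q) with hπ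
  have hπs : Function.Surjective π := e.surjective.comp (QuotientGroup.mk'_surjective Q)
  have hπk : ∀ c, π c = 1 ↔ c ∈ Q := fun c => by
    show e (QuotientGroup.mk c) = 1 ↔ _
    rw [MulEquiv.map_eq_one_iff, QuotientGroup.eq_one_iff]
  set CH := Subgroup.centralizer (Q : Set C) with hCH
  haveI hCHn : CH.Normal := by rw [hCH]; infer_instance
  haveI : (CH.map π).Normal := Subgroup.Normal.map hCHn π hπs
  rcases IsSimpleGroup.eq_bot_or_eq_top_of_normal (CH.map π) inferInstance with h | h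
  · exact fun c hc => (hπk c).1 ((Subgroup.mem_bot).1 (h ▸ Subgroup.mem_map_of_mem π hc))
  exfalso
  obtain ⟨⟨hQp, hfr, hder⟩, hc2⟩ := hQ
  have hzC : z ∈ C := (hCz z).2 rfl
  set zc : C := ⟨z, hzC⟩ with hzc
  have hzc_cen : ∀ c : C, c * zc = zc * c := fun c => Subtype.ext ((hCz _).1 c.2)
  have hzQ : zc ∈ Q := (hπk _).1 (a5_center _ fun b => by
    obtain ⟨c, rfl⟩ := hπs b
    rw [← map_mul, ← map_mul, hzc_cen c])
  have hzc1 : zc ≠ 1 := fun h' => by
    have : z = 1 := congrArg Subtype.val h'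
    rw [this, orderOf_one] at hz; omega
  have hcv : ∀ a ∈ Q, (∀ b ∈ Q, a * b = b * a) → a = 1 ∨ a = zc := by
    intro a ha hab
    have hza : (⟨zc, hzQ⟩ : Q) ∈ Subgroup.center Q :=
      Subgroup.mem_center_iff.2 fun b => Subtype.ext (hzc_cen (b : C))
    have haa : (⟨a, ha⟩ : Q) ∈ Subgroup.center Q :=
      Subgroup.mem_center_iff.2 fun b => Subtype.ext (hab b b.2).symm
    obtain ⟨u, -, huniq⟩ := (Nat.card_eq_two_iff' (1 : Subgroup.center Q)).1 hc2
    by_cases ha1 : a = 1
    · exact Or.inl ha1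
    · have h1 := huniq ⟨_, haa⟩ fun h => ha1 (congrArg (fun u : Subgroup.center Q => ((u : Q) : C)) h)
      have h2 := huniq ⟨_, hza⟩ fun h => hzc1 (congrArg (fun u : Subgroup.center Q => ((u : Q) : C)) h)
      exact Or.inr (congrArg (fun u : Subgroup.center Q => ((u : Q) : C)) (h1.trans h2.symm))
  have hQQ : ∀ a ∈ Q, ∀ b ∈ Q, ⁅a, b⁆ = 1 ∨ ⁅a, b⁆ = zc := by
    intro a ha b hb
    have h1 : ⁅(⟨a, ha⟩ : Q), (⟨b, hb⟩ : Q)⁆ ∈ Subgroup.center Q := by
      rw [← hder, commutator_def]; exact Subgroup.commutator_mem_commutator (Subgroup.mem_top _) (Subgroup.mem_top _)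
    exact hcv _ (⁅(⟨a, ha⟩ : Q), (⟨b, hb⟩ : Q)⁆ : Q).2
      fun r hr => congrArg Subtype.val (Subgroup.mem_center_iff.1 h1 ⟨r, hr⟩).symm
  have hsplit : ∀ c : C, ∃ q ∈ Q, ∃ d ∈ CH, c = q * d := by
    intro c
    obtain ⟨d, hd, hdc⟩ := Subgroup.mem_map.1 (h.symm ▸ Subgroup.mem_top (π c) : π c ∈ CH.map π)
    exact ⟨c * d⁻¹, (hπk _).1 (by rw [map_mul, map_inv, hdc, mul_inv_cancel]), d, hd,
      (inv_mul_cancel_right c d).symm⟩
  have hcm : ∀ d ∈ CH, ∀ q ∈ Q, q * d = d * q := fun d hd q hq => Subgroup.mem_centralizer_iff.1 hd q hq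
  have hzsq : zc * zc = 1 := Subtype.ext (by
    show z * z = 1
    rw [← pow_two, ← hz, pow_orderOf_eq_one])
  -- commutators inside two-subgroups of the centralizer
  have hloc : ∀ P : Subgroup C, IsPGroup 2 P → ∀ a ∈ P, ∀ b ∈ P, a * b = b * a ∨ a * b = zc * (b * a) := by
    intro P hP a ha b hb
    obtain ⟨q, hq, d, hd, rfl⟩ := hsplit a
    obtain ⟨r, hr, f, hf, rfl⟩ := hsplit b
    have hπab := a5_four_abelian (P.map π) (hP.map π) (Subgroup.mem_map_of_mem π ha) (Subgroup.mem_map_of_mem π hb)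
    rw [map_mul, map_mul, (hπk q).2 hq, (hπk r).2 hr, one_mul, one_mul] at hπab
    have hdf : ⁅d, f⁆ ∈ Q := (hπk _).1 (by rw [map_commutatorElement, commutatorElement_eq_one_iff_mul_comm]; exact hπab)
    have hdf' : ⁅d, f⁆ ∈ CH := by
      rw [commutatorElement_def]
      exact CH.mul_mem (CH.mul_mem (CH.mul_mem hd hf) (CH.inv_mem hd)) (CH.inv_mem hf)
    have e1 : ⁅q * d, r * f⁆ = ⁅q, r⁆ * ⁅d, f⁆ := by
      have h1 : d * r = r * d := (hcm d hd r hr).symm
      have h2 : d⁻¹ * r⁻¹ = r⁻¹ * d⁻¹ := by rw [← mul_inv_rev, ← mul_inv_rev, h1]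
      have h3 : q * r * q⁻¹ * r⁻¹ ∈ Q := Q.mul_mem (Q.mul_mem (Q.mul_mem hq hr) (Q.inv_mem hq)) (Q.inv_mem hr)
      have h4 := hcm _ hdf' (q⁻¹) (Q.inv_mem hq)
      have h5 := hcm _ hdf' (r⁻¹) (Q.inv_mem hr)
      rw [commutatorElement_def, commutatorElement_def] at *
      calc q * d * (r * f) * (q * d)⁻¹ * (r * f)⁻¹
          = q * (d * r) * f * d⁻¹ * q⁻¹ * f⁻¹ * r⁻¹ := by group
        _ = q * r * (d * f * d⁻¹) * (q⁻¹ * f⁻¹) * r⁻¹ := by rw [h1]; group
        _ = q * r * (d * f * d⁻¹ * f⁻¹) * q⁻¹ * r⁻¹ := by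
          rw [hcm _ (CH.inv_mem hf) _ (Q.inv_mem hq)]; group
        _ = q * r * ((d * f * d⁻¹ * f⁻¹) * q⁻¹) * r⁻¹ := by group
        _ = q * r * q⁻¹ * ((d * f * d⁻¹ * f⁻¹) * r⁻¹) := by rw [← h4]; group
        _ = _ := by rw [← h5]; group
    have hz' : ∀ u : C, u = 1 ∨ u = zc → ∀ v : C, v = 1 ∨ v = zc → u * v = 1 ∨ u * v = zc := by
      rintro u (rfl | rfl) v (rfl | rfl)
      · exact Or.inl (one_mul 1)
      · exact Or.inr (one_mul zc)
      · exact Or.inr (mul_one zc)
      · exact Or.inl hzsq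
    have hd1 : ⁅d, f⁆ = 1 ∨ ⁅d, f⁆ = zc := hcv _ hdf fun s hs => (hcm _ hdf' s hs).symm
    rcases hz' _ (hQQ q hq r hr) _ hd1 with h' | h' <;> rw [← e1] at h'
    · exact Or.inl (commutatorElement_eq_one_iff_mul_comm.1 h')
    · right
      rw [commutatorElement_def, mul_inv_eq_iff_eq_mul, mul_inv_eq_iff_eq_mul, mul_assoc] at h'
      simpa only [mul_assoc] using h'
  -- two noncommuting elements of `Q` centralizing a given element
  have hpair : ∀ c : C, ∃ a ∈ Q, ∃ b ∈ Q, a * c = c * a ∧ b * c = c * b ∧ a * b ≠ b * a := by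
    intro c
    obtain ⟨q, hq, d, hd, rfl⟩ := hsplit c
    suffices ∃ a ∈ Q, ∃ b ∈ Q, a * q = q * a ∧ b * q = q * b ∧ a * b ≠ b * a by
      obtain ⟨a, ha, b, hb, e1, e2, e3⟩ := this
      refine ⟨a, ha, b, hb, ?_, ?_, e3⟩
      · rw [← mul_assoc, e1, mul_assoc, hcm d hd a ha, mul_assoc]
      · rw [← mul_assoc, e2, mul_assoc, hcm d hd b hb, mul_assoc]
    by_contra hno
    push Not at hno
    let P : Q → Bool := fun r => decide ((r : C) * q = q * r)
    have hmul : ∀ r s : Q, P r = P s → ((r : C) * s) * q = q * ((r : C) * s) := by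
      intro r s hrs
      have hdec : ((r : C) * q = q * r) ↔ ((s : C) * q = q * s) := by simpa [P] using hrs
      have hcases : ∀ t : Q, (t : C) * q = q * t ∨ (t : C) * q = zc * (q * t) := by
        intro t
        rcases hQQ _ t.2 _ hq with h' | h'
        · exact Or.inl (commutatorElement_eq_one_iff_mul_comm.1 h')
        · rw [commutatorElement_def, mul_inv_eq_iff_eq_mul, mul_inv_eq_iff_eq_mul, mul_assoc] at h'
          exact Or.inr h'
      rcases hcases r with hr | hr <;> rcases hcases s with hs | hs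
      · rw [mul_assoc, hs, ← mul_assoc, hr, mul_assoc]
      · rw [mul_assoc, hdec.1 hr, ← mul_assoc, hr, mul_assoc]
      · rw [mul_assoc, hs, ← mul_assoc, hdec.2 hs, mul_assoc]
      · rw [mul_assoc, hs, ← mul_assoc (r : C) zc, hzc_cen, mul_assoc zc, ← mul_assoc (r : C) q, hr,
          mul_assoc zc (q * r), ← mul_assoc zc, hzsq, one_mul, mul_assoc]
    -- the centralizer of `q` in `Q` is abelian, so it is too small
    let K : Subgroup C := Q ⊓ Subgroup.centralizer ({q} : Set C)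
    have hKc : ∀ a ∈ K, ∀ b ∈ K, a * b = b * a := fun a ha b hb =>
      hno a ha.1 b hb.1 (mem_cent_iff.1 ha.2) (mem_cent_iff.1 hb.2)
    have hK16 : Nat.card Q ≤ 2 * Nat.card K := by
      by_cases hall : ∀ r : Q, (r : C) * q = q * r
      · have hQK : Q ≤ K := fun r hr => Subgroup.mem_inf.2 ⟨hr, mem_cent_iff.2 (hall ⟨r, hr⟩)⟩
        have := Subgroup.card_le_of_le hQK
        omega
      push Not at hall
      obtain ⟨r0, hr0⟩ := hall
      let f : Q → Bool × K := fun r => if hr : (r : C) * q = q * r then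
          (true, ⟨r, r.2, mem_cent_iff.2 hr⟩)
        else (false, ⟨r0 * r, Q.mul_mem r0.2 r.2, mem_cent_iff.2
          (hmul r0 r (by simp [P, hr0, hr]))⟩)
      have hf : Function.Injective f := by
        intro r s hrs
        by_cases hr : (r : C) * q = q * r <;> by_cases hs : (s : C) * q = q * s <;>
          simp [f, hr, hs] at hrs
        · exact Subtype.ext (congrArg (fun u : K => (u : C)) hrs)
        · exact Subtype.ext (mul_left_cancel (congrArg (fun u : K => (u : C)) hrs))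
      have := Nat.card_le_card_of_injective f hf
      rwa [Nat.card_prod, Nat.card_eq_fintype_card (α := Bool), Fintype.card_bool] at this
    by_cases hallK : ∀ r ∈ Q, r ∈ K
    · obtain ⟨a, ha, b, hb, hab⟩ : ∃ a ∈ Q, ∃ b ∈ Q, a * b ≠ b * a := by
        by_contra hno'
        push Not at hno'
        have hle : Nat.card Q ≤ 2 := by
          rw [← SetLike.coe_sort_coe, Nat.card_coe_set_eq]
          refine (Set.ncard_le_ncard (t := {1, zc}) (fun r hr => hcv r hr (hno' r hr)) (Set.toFinite _)).trans ?_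
          exact (Set.ncard_insert_le _ _).trans (by simp)
        omega
      exact hab (hKc a (hallK a ha) b (hallK b hb))
    push Not at hallK
    obtain ⟨r0, hr0, hr0K⟩ := hallK
    have hr0q : ¬ r0 * q = q * r0 := fun e => hr0K (Subgroup.mem_inf.2 ⟨hr0, mem_cent_iff.2 e⟩)
    have hgen : ∀ r ∈ Q, r ∈ K ∨ r0 * r ∈ K := by
      intro r hr
      by_cases hc : r * q = q * r
      · exact Or.inl (Subgroup.mem_inf.2 ⟨hr, mem_cent_iff.2 hc⟩)
      · exact Or.inr (Subgroup.mem_inf.2 ⟨Q.mul_mem hr0 hr,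
          mem_cent_iff.2 (hmul ⟨r0, hr0⟩ ⟨r, hr⟩ (by simp [P, hr0q, hc]))⟩)
    let g : K → Bool := fun k => decide ((k : C) * r0 = r0 * k)
    have hg : ∀ k l : K, g k = g l → (k : C)⁻¹ * l = 1 ∨ (k : C)⁻¹ * l = zc := by
      intro k l hkl
      have hkl' : ((k : C) * r0 = r0 * k) ↔ ((l : C) * r0 = r0 * l) := by simpa [g] using hkl
      have hcases : ∀ t : K, (t : C) * r0 = r0 * t ∨ (t : C) * r0 = zc * (r0 * t) := by
        intro t
        rcases hQQ _ t.2.1 _ hr0 with h' | h'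
        · exact Or.inl (commutatorElement_eq_one_iff_mul_comm.1 h')
        · rw [commutatorElement_def, mul_inv_eq_iff_eq_mul, mul_inv_eq_iff_eq_mul, mul_assoc] at h'
          exact Or.inr h'
      have hm : ((k : C)⁻¹ * l) * r0 = r0 * ((k : C)⁻¹ * l) := by
        rcases hcases k with hk | hk
        · rw [mul_assoc, hkl'.1 hk, ← mul_assoc, inv_mul_eq_iff_eq_mul.2 (by rw [← mul_assoc, hk, mul_assoc, mul_inv_cancel, mul_one]),
            mul_assoc]
        · rcases hcases l with hl | hl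
          · rw [mul_assoc, hl, ← mul_assoc, inv_mul_eq_iff_eq_mul.2 (by rw [← mul_assoc, hkl'.2 hl, mul_assoc, mul_inv_cancel, mul_one]),
              mul_assoc]
          · have hk' : (k : C)⁻¹ * (zc * r0) = r0 * (k : C)⁻¹ := by
              rw [inv_mul_eq_iff_eq_mul, ← mul_assoc, hk, mul_assoc, mul_assoc, mul_inv_cancel, mul_one]
            rw [mul_assoc, hl, ← mul_assoc zc, ← mul_assoc, hk', mul_assoc]
      refine hcv _ (Q.mul_mem (Q.inv_mem k.2.1) l.2.1) fun b hb => ?_
      have hkK : (k : C)⁻¹ * l ∈ K := K.mul_mem (K.inv_mem k.2) l.2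
      rcases hgen b hb with hbK | hbK
      · exact hKc _ hkK b hbK
      · have e1 := hKc _ hkK _ hbK
        rw [← mul_assoc, hm, mul_assoc, mul_assoc] at e1
        simp only [mul_assoc] at e1 ⊢
        exact mul_left_cancel e1
    haveI := Fintype.ofFinite K
    have h4 : Nat.card K ≤ 4 := by
      rw [Nat.card_eq_fintype_card, ← Finset.card_univ]
      refine le_trans (Finset.card_le_mul_card_image (f := g) Finset.univ 2 fun v hv => ?_) ?_
      · obtain ⟨k, -, rfl⟩ := Finset.mem_image.1 hv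
        refine le_trans (Finset.card_le_card_of_injOn (fun l : K => (k : C)⁻¹ * l)
          (t := ({1, zc} : Finset C)) (fun l hl => ?_) ?_) Finset.card_le_two
        · rw [Finset.mem_coe, Finset.mem_insert, Finset.mem_singleton]
          exact hg k l (Finset.mem_filter.1 hl).2.symm
        · intro x _ y _ exy
          exact Subtype.ext (mul_left_cancel exy)
      · have : (Finset.univ.image g).card ≤ 2 := (Finset.card_le_univ _).trans (by simp)
        omega
    omega
  obtain ⟨P, hzP, hPz⟩ := hcen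
  -- `z` is isolated
  have hiso : ∀ g : G, g * z * g⁻¹ ∈ P → g * z * g⁻¹ = z := by
    intro g hg
    by_contra hne
    set y : C := ⟨g * z * g⁻¹, (hCz _).2 (hPz _ hg)⟩ with hy
    obtain ⟨a, ha, b, hb, hay, hby, hab⟩ := hpair y
    have hmemC : ∀ u : C, u * y = y * u → g⁻¹ * (u : G) * g ∈ C := fun u hu => by
      have h1 : (u : G) * (g * z * g⁻¹) = (g * z * g⁻¹) * u := congrArg Subtype.val hu
      refine (hCz _).2 ?_
      calc g⁻¹ * (u : G) * g * z = g⁻¹ * ((u : G) * (g * z * g⁻¹)) * g := by group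
        _ = z * (g⁻¹ * (u : G) * g) := by rw [h1]; group
    set R : Subgroup G := (Q ⊓ Subgroup.centralizer ({y} : Set C)).map C.subtype with hR
    set R' : Subgroup G := R.map (MulAut.conj g⁻¹).toMonoidHom with hR'
    have hR'C : R' ≤ C := by
      rintro _ ⟨_, ⟨u, hu, rfl⟩, rfl⟩
      simpa using hmemC u (mem_cent_iff.1 hu.2)
    have hR2 : IsPGroup 2 (R'.subgroupOf C) :=
      ((((hQp.to_le (show Q ⊓ Subgroup.centralizer ({y} : Set C) ≤ Q from inf_le_left))).map _).map _).comap_of_injective _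
        Subtype.coe_injective
    have ha' : (⟨_, hmemC a hay⟩ : C) ∈ R'.subgroupOf C := ⟨a, ⟨a, ⟨ha, mem_cent_iff.2 hay⟩, rfl⟩, by simp⟩
    have hb' : (⟨_, hmemC b hby⟩ : C) ∈ R'.subgroupOf C := ⟨b, ⟨b, ⟨hb, mem_cent_iff.2 hby⟩, rfl⟩, by simp⟩
    rcases hloc _ hR2 _ ha' _ hb' with h' | h'
    · refine hab (Subtype.ext ?_)
      have h1 := congrArg (fun u : C => g * (u : G) * g⁻¹) h'
      simpa [mul_assoc] using h1
    · have h1 := congrArg (fun u : C => g * (u : G) * g⁻¹) h'
      have h2 : (a : G) * b = (g * z * g⁻¹) * ((b : G) * a) := by simpa [mul_assoc] using h1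
      rcases hQQ a ha b hb with h3 | h3
      · exact hab (commutatorElement_eq_one_iff_mul_comm.1 h3)
      · have h4 : (a : G) * b * (a : G)⁻¹ * (b : G)⁻¹ = z := by
          have h5 := congrArg Subtype.val h3
          rw [commutatorElement_def] at h5
          simpa using h5
        rw [h2] at h4
        exact hne (by simpa [mul_assoc] using h4)
  obtain ⟨N, hN, hodd, hcomm⟩ := Cfsg.Agent.S0215.result P z hz hzP hiso
  have hz1 : z ≠ 1 := fun e => hzc1 (Subtype.ext e)
  rcases hN.eq_bot_or_eq_top with e' | e'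
  · have hzc' : z ∈ Subgroup.center G := Subgroup.mem_center_iff.mpr fun g => by
      have := hcomm g
      rw [e', Subgroup.mem_bot, mul_inv_eq_one, mul_inv_eq_iff_eq_mul] at this
      exact this.symm
    rcases (inferInstance : (Subgroup.center G).Normal).eq_bot_or_eq_top with e'' | e''
    · exact hz1 (Subgroup.mem_bot.mp (e'' ▸ hzc'))
    · obtain ⟨a, -, b, -, -, -, hab⟩ := hpair 1
      exact hab (Subtype.ext (Subgroup.mem_center_iff.mp (e'' ▸ Subgroup.mem_top (b : G)) (a : G)))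
  · rw [e', Subgroup.card_top] at hodd
    have h2 : 2 ∣ Nat.card G := hz ▸ orderOf_dvd_natCard z
    exact Nat.not_even_iff_odd.mpr hodd (even_iff_two_dvd.mpr h2)

theorem cent_le [Finite G] [IsSimpleGroup G] (z : G) (hz : orderOf z = 2)
    (Q : Subgroup (Subgroup.centralizer ({z} : Set G))) [Q.Normal] (hQ : IsExtraspecial 2 Q)
    (hcard : Nat.card Q = 2 ^ 5)
    (e : (Subgroup.centralizer ({z} : Set G)) ⧸ Q ≃* alternatingGroup (Fin 5))
    (hcen : ∃ P : Sylow 2 G, z ∈ P ∧ ∀ x ∈ P, x * z = z * x) :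
    Subgroup.centralizer (Q : Set (Subgroup.centralizer ({z} : Set G))) ≤ Q :=
  cent_le_aux z hz _ (fun _ => Subgroup.mem_centralizer_singleton_iff) Q hQ hcard e hcen

end Cfsg.Agent.Invol.J3Type
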