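import Cfsg.Agent.Lib.Invol.J3Type.Order
import Cfsg.Agent.Lib.Invol.J3Type.Reduce
import Cfsg.Agent.Lib.Invol.HJ.Uniq.Iso

/-!
Groups with an involution centralizer of shape two to the one plus four by the alternating group of
degree five.
-/

set_option autoImplicit false
set_option linter.unusedSectionVars false
set_option linter.style.haveILetI false

namespace Cfsg.Agent.Invol.J3Type

open Cfsg Cfsg.Agent.Invol.HJ

universe u

variable {G : Type u} [Group G] [Finite G]

/-- With one class of involutions every involution is central in some Sylow subgroup. -/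
theorem two_central (hone : ∀ x y : G, orderOf x = 2 → orderOf y = 2 → IsConj x y) {t : G} (ht : orderOf t = 2) :
    ∃ P : Sylow 2 G, t ∈ P ∧ ∀ x ∈ P, x * t = t * x := by
  haveI : Fact (Nat.Prime 2) := ⟨Nat.prime_two⟩
  obtain ⟨P⟩ : Nonempty (Sylow 2 G) := inferInstance
  haveI : Nontrivial (P : Subgroup G) := Finite.one_lt_card_iff_nontrivial.1 (by
    rw [P.card_eq_multiplicity]
    refine Nat.one_lt_pow ?_ (by norm_num)
    exact (Nat.Prime.factorization_pos_of_dvd Nat.prime_two Nat.card_pos.ne' (ht ▸ orderOf_dvd_natCard t)).ne')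
  haveI := P.isPGroup'.center_nontrivial
  obtain ⟨⟨c, hcc⟩, hco⟩ := exists_prime_orderOf_dvd_card' (G := Subgroup.center (P : Subgroup G)) 2 (by
    obtain ⟨q, hq⟩ := IsPGroup.iff_card.1 (P.isPGroup'.to_subgroup (Subgroup.center (P : Subgroup G)))
    rw [hq]
    refine dvd_pow_self 2 fun h0 => ?_
    have := Finite.one_lt_card (α := Subgroup.center (P : Subgroup G))
    rw [hq, h0, pow_zero] at this
    omega)
  rw [Subgroup.orderOf_mk, ← Subgroup.orderOf_coe] at hco
  obtain ⟨g, hg⟩ := isConj_iff.1 (hone _ t hco ht)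
  have hmem : ∀ x, x ∈ ((g • P : Sylow 2 G) : Subgroup G) ↔ ∃ p ∈ (P : Subgroup G), g * p * g⁻¹ = x := fun x => by
    rw [Sylow.coe_subgroup_smul]
    exact Iff.rfl
  refine ⟨g • P, (hmem t).2 ⟨c, c.2, hg⟩, fun x hx => ?_⟩
  obtain ⟨p, hp, rfl⟩ := (hmem x).1 hx
  rw [← hg]
  exact comm_conj (congrArg Subtype.val (Subgroup.mem_center_iff.1 hcc ⟨p, hp⟩))

/-- The setting from the data of the statements. -/
theorem setting_of_one [IsSimpleGroup G] (hone : ∀ x y : G, orderOf x = 2 → orderOf y = 2 → IsConj x y) (t : G)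
    (ht : orderOf t = 2) (E : Subgroup (Subgroup.centralizer ({t} : Set G))) [E.Normal] (hE : Nat.card E = 32)
    (hX : IsExtraspecial 2 E) (e : (Subgroup.centralizer ({t} : Set G)) ⧸ E ≃* alternatingGroup (Fin 5)) :
    Setting t (E.map (Subgroup.centralizer ({t} : Set G)).subtype) :=
  ⟨HJ.Uniq.core_of_quot t ht E hX hE (cent_le t ht E hX hE e (two_central hone ht)) e,
    fun u hu => hone u t hu ht⟩

/-- The order in the case of one class. -/
theorem isJ3_of_one [IsSimpleGroup G] (hone : ∀ x y : G, orderOf x = 2 → orderOf y = 2 → IsConj x y) (t : G)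
    (ht : orderOf t = 2) (E : Subgroup (Subgroup.centralizer ({t} : Set G))) [E.Normal] (hE : Nat.card E = 32)
    (hX : IsExtraspecial 2 E) (e : (Subgroup.centralizer ({t} : Set G)) ⧸ E ≃* alternatingGroup (Fin 5)) :
    IsJ3 G :=
  ⟨inferInstance, order_eq (setting_of_one hone t ht E hE hX e)⟩

/-- The dichotomy. -/
theorem isJ2_or_isJ3 [IsSimpleGroup G] (t : G) (ht : IsTwoCentralInvolution t)
    (E : Subgroup (Subgroup.centralizer ({t} : Set G))) [E.Normal] (hE : Nat.card E = 32)
    (hX : IsExtraspecial 2 E) (e : (Subgroup.centralizer ({t} : Set G)) ⧸ E ≃* alternatingGroup (Fin 5)) :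
    IsJ2 G ∨ IsJ3 G := by
  by_cases hone : ∀ x y : G, orderOf x = 2 → orderOf y = 2 → IsConj x y
  · exact Or.inr (isJ3_of_one hone t ht.1 E hE hX e)
  · push Not at hone
    have hc := HJ.Uniq.core_of_quot t ht.1 E hX hE (cent_le t ht.1 E hX hE e ht.2) e
    exact Or.inl ⟨inferInstance, HJ.order_eq_j2 (HJ.Uniq.setting_of_simple hc hone)⟩

end Cfsg.Agent.Invol.J3Type
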