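import Mathlib

/-!
A Sylow three-subgroup of the alternating group of degree six and its normalizer.
-/

set_option autoImplicit false

namespace Cfsg.Agent.Invol.J3Type

open Equiv

/-- The first three-cycle. -/
def a6 : alternatingGroup (Fin 6) := ⟨swap 0 1 * swap 1 2, Equiv.Perm.mem_alternatingGroup.2 (by decide)⟩

/-- The second three-cycle. -/
def b6 : alternatingGroup (Fin 6) := ⟨swap 3 4 * swap 4 5, Equiv.Perm.mem_alternatingGroup.2 (by decide)⟩

/-- An element of order four normalizing the two three-cycles. -/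
def f6 : alternatingGroup (Fin 6) :=
  ⟨swap 0 3 * (swap 1 4 * swap 4 2 * swap 2 5), Equiv.Perm.mem_alternatingGroup.2 (by decide)⟩

/-- An odd permutation normalizing the two three-cycles. -/
def o6 : Perm (Fin 6) := swap 1 2

/-- Membership in the Sylow three-subgroup generated by the two three-cycles. -/
def InT (g : alternatingGroup (Fin 6)) : Prop := g * a6 = a6 * g ∧ g * b6 = b6 * g

instance (g : alternatingGroup (Fin 6)) : Decidable (InT g) := by unfold InT; infer_instance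

/-- The same condition on permutations, without the parity. -/
def InTP (g : Perm (Fin 6)) : Prop := g * a6.1 = a6.1 * g ∧ g * b6.1 = b6.1 * g

instance (g : Perm (Fin 6)) : Decidable (InTP g) := by unfold InTP; infer_instance

theorem inT_iff (g : alternatingGroup (Fin 6)) : InT g ↔ InTP g.1 := by
  simp only [InT, InTP, Subtype.ext_iff, Subgroup.coe_mul]

/-- The nine elements. -/
def t6 (p : Fin 3 × Fin 3) : alternatingGroup (Fin 6) := a6 ^ (p.1 : ℕ) * b6 ^ (p.2 : ℕ)

set_option maxRecDepth 4000 in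
theorem perm_list : ∀ g : Perm (Fin 6), InTP g → ∃ p : Fin 3 × Fin 3, g = (t6 p).1 := by decide +kernel

theorem t6_mem : ∀ p : Fin 3 × Fin 3, InTP (t6 p).1 := by decide +kernel

theorem t6_inj : ∀ p q : Fin 3 × Fin 3, (t6 p).1 = (t6 q).1 → p = q := by decide +kernel

theorem t6_list {g : alternatingGroup (Fin 6)} (hg : InT g) : ∃ p, g = t6 p := by
  obtain ⟨p, hp⟩ := perm_list g.1 ((inT_iff g).1 hg)
  exact ⟨p, Subtype.ext hp⟩

theorem t6_self : InT a6 ∧ InT b6 := by decide +kernel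

theorem t6_comm_aux : ∀ p q : Fin 3 × Fin 3, t6 p * t6 q = t6 q * t6 p ∧ t6 p * t6 p * t6 p = 1 := by
  decide +kernel

theorem t6_comm (g k : {g : alternatingGroup (Fin 6) // InT g}) :
    g.1 * k.1 = k.1 * g.1 ∧ g.1 * g.1 * g.1 = 1 := by
  obtain ⟨p, hp⟩ := t6_list g.2
  obtain ⟨q, hq⟩ := t6_list k.2
  rw [hp, hq]
  exact t6_comm_aux p q

theorem f6_pow : f6 * f6 * (f6 * f6) = 1 ∧ f6 * f6 ≠ 1 := by decide +kernel

theorem f6_norm_aux : ∀ p : Fin 3 × Fin 3, InT (f6 * t6 p * f6⁻¹) ∧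
    f6 * f6 * t6 p * (f6 * f6)⁻¹ = (t6 p)⁻¹ := by decide +kernel

theorem f6_norm (g : {g : alternatingGroup (Fin 6) // InT g}) : InT (f6 * g.1 * f6⁻¹) ∧
    f6 * f6 * g.1 * (f6 * f6)⁻¹ = g.1⁻¹ := by
  obtain ⟨p, hp⟩ := t6_list g.2
  rw [hp]
  exact f6_norm_aux p

set_option maxRecDepth 4000 in
theorem perm_normalizer : ∀ g : Perm (Fin 6), InTP (g * a6.1 * g⁻¹) → InTP (g * b6.1 * g⁻¹) →
    ∃ k : Fin 4, InTP (g * f6.1 ^ (k : ℕ)) ∨ InTP (g * o6 * f6.1 ^ (k : ℕ)) := by decide +kernel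

theorem t6_normalizer (g : alternatingGroup (Fin 6)) (ha : InT (g * a6 * g⁻¹)) (hb : InT (g * b6 * g⁻¹)) :
    ∃ k : Fin 4, InT (g * f6 ^ (k : ℕ)) := by
  rw [inT_iff, Subgroup.coe_mul, Subgroup.coe_mul, Subgroup.coe_inv] at ha hb
  obtain ⟨k, h | h⟩ := perm_normalizer g.1 ha hb
  · exact ⟨k, (inT_iff _).2 (by rw [Subgroup.coe_mul, Subgroup.coe_pow]; exact h)⟩
  · exfalso
    obtain ⟨p, hp⟩ := perm_list _ h
    have h1 : ∀ x : alternatingGroup (Fin 6), Perm.sign x.1 = 1 := fun x => Perm.mem_alternatingGroup.1 x.2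
    have e := congrArg Perm.sign hp
    rw [map_mul, map_mul, map_pow, h1, h1, h1, one_pow, mul_one, one_mul] at e
    exact absurd e (by decide)

/-- The Sylow three-subgroup as a subgroup. -/
def T6 : Subgroup (alternatingGroup (Fin 6)) :=
  Subgroup.centralizer ({a6} : Set (alternatingGroup (Fin 6))) ⊓
    Subgroup.centralizer ({b6} : Set (alternatingGroup (Fin 6)))

theorem mem_T6 {g : alternatingGroup (Fin 6)} : g ∈ T6 ↔ InT g := by
  simp only [T6, Subgroup.mem_inf, Subgroup.mem_centralizer_singleton_iff, InT]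

theorem card_T6 : Nat.card T6 = 9 := by
  have h : Function.Bijective (fun p : Fin 3 × Fin 3 => (⟨t6 p, mem_T6.2 ((inT_iff _).2 (t6_mem p))⟩ : T6)) := by
    refine ⟨fun p q e => t6_inj p q (congrArg (fun x : T6 => x.1.1) e), fun g => ?_⟩
    obtain ⟨p, hp⟩ := t6_list (mem_T6.1 g.2)
    exact ⟨p, Subtype.ext hp.symm⟩
  rw [← Nat.card_congr (Equiv.ofBijective _ h), Nat.card_prod, Nat.card_fin]

end Cfsg.Agent.Invol.J3Type
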