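import Mathlib

/-!
The finite search at the end of the character argument.
-/

set_option autoImplicit false

namespace Cfsg.Agent.Invol.J3Type

/-- One candidate of the search. -/
def cand (δ x u q : ℤ) : ℤ := (x + u) * (x + u + δ) * q

/-- The conditions that a candidate has to satisfy. -/
def admissible (δ x u q : ℤ) : Prop :=
  2 ≤ x + u ∧ 2 ≤ x + u + δ ∧ (x + u + 4 * δ) % 5 = 0 ∧ 1 + x * x + 2 * ((x + δ) * (x + δ)) ≤ 1920 ∧
    cand δ x u q % 128 = 0 ∧ cand δ x u q % 256 ≠ 0 ∧ cand δ x u q % 27 = 0 ∧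
    cand δ x u q % 5 = 0 ∧ cand δ x u q % 25 ≠ 0

instance (δ x u q : ℤ) : Decidable (admissible δ x u q) := by unfold admissible; infer_instance

/-- The two signs. -/
def sgn2 : Fin 2 → ℤ := ![1, -1]

theorem square_divisors : ∀ a < 702, a * a ∣ 491520 → ∃ i < 8, a = 2 ^ i := by decide +kernel

set_option maxRecDepth 4000 in
theorem search : ∀ s t : Fin 2, ∀ i : Fin 8, ∀ j : Fin 89,
    admissible (sgn2 s) ((j : ℕ) - 44 : ℤ) (sgn2 t * 10 * 2 ^ (i : ℕ)) (491520 / (2 ^ (i : ℕ) * 2 ^ (i : ℕ))) →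
      cand (sgn2 s) ((j : ℕ) - 44 : ℤ) (sgn2 t * 10 * 2 ^ (i : ℕ)) (491520 / (2 ^ (i : ℕ) * 2 ^ (i : ℕ))) = 50232960 ∨
      cand (sgn2 s) ((j : ℕ) - 44 : ℤ) (sgn2 t * 10 * 2 ^ (i : ℕ)) (491520 / (2 ^ (i : ℕ) * 2 ^ (i : ℕ))) = 51719040 := by
  decide +kernel

/-- The solutions of the equation for the group order. -/
theorem order_cases {N : ℕ} {δ x F : ℤ} (hδ : δ = 1 ∨ δ = -1) (hF : 2 ≤ F) (hg : 2 ≤ F + δ)
    (h5 : 5 ∣ F + 4 * δ) (h10 : 10 ∣ F - x) (hb : 1 + x * x + 2 * ((x + δ) * (x + δ)) ≤ 1920)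
    (hdF : F ∣ (N : ℤ)) (hdg : F + δ ∣ (N : ℤ)) (heq : (N : ℤ) * ((F - x) * (F - x)) = 49152000 * (F * (F + δ)))
    (h128 : 128 ∣ N) (h256 : ¬ 256 ∣ N) (h27 : 27 ∣ N) (hf : 5 ∣ N) (h25 : ¬ 25 ∣ N) :
    N = 50232960 ∨ N = 51719040 := by
  have hcop : IsCoprime F (F + δ) := ⟨-δ, δ, by rcases hδ with e | e <;> rw [e] <;> ring⟩
  obtain ⟨q, hq⟩ := hcop.mul_dvd hdF hdg
  have hP : F * (F + δ) ≠ 0 := mul_ne_zero (by omega) (by omega)
  obtain ⟨v, hv⟩ := h10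
  have hv2 : q * (v * v) = 491520 := by
    have h1 : F * (F + δ) * (100 * (q * (v * v)) - 49152000) = 0 := by
      rw [hq, hv] at heq
      linear_combination heq
    have := (mul_eq_zero.1 h1).resolve_left hP
    linarith
  have ha : v.natAbs * v.natAbs ∣ 491520 := ⟨q.natAbs, by
    have h1 := congrArg Int.natAbs hv2
    rw [Int.natAbs_mul, Int.natAbs_mul] at h1
    rw [mul_comm]; exact h1.symm⟩
  have halt : v.natAbs < 702 := by
    by_contra hge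
    have h1 := Nat.le_of_dvd (by norm_num) ha
    have h2 : 702 * 702 ≤ v.natAbs * v.natAbs := Nat.mul_le_mul (by omega) (by omega)
    omega
  obtain ⟨i, hi, hai⟩ := square_divisors _ halt ha
  obtain ⟨t, ht⟩ : ∃ t : Fin 2, F - x = sgn2 t * 10 * 2 ^ i := by
    rcases Int.natAbs_eq v with e | e
    · exact ⟨0, by rw [hv, e, hai]; simp [sgn2]⟩
    · exact ⟨1, by rw [hv, e, hai]; simp [sgn2]⟩
  obtain ⟨s, hs⟩ : ∃ s : Fin 2, δ = sgn2 s := by
    rcases hδ with e | e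
    · exact ⟨0, by simp [sgn2, e]⟩
    · exact ⟨1, by simp [sgn2, e]⟩
  have hx1 : -44 ≤ x ∧ x ≤ 44 := by
    have := mul_self_nonneg (x + δ)
    constructor <;> nlinarith
  obtain ⟨j, hj⟩ : ∃ j : Fin 89, x = ((j : ℕ) - 44 : ℤ) :=
    ⟨⟨(x + 44).toNat, by omega⟩, by simp only; omega⟩
  have hqv : q = 491520 / ((2 : ℤ) ^ i * 2 ^ i) := by
    have e : v * v = (2 : ℤ) ^ i * 2 ^ i := by
      rcases Int.natAbs_eq v with r | r <;> rw [r, hai] <;> push_cast <;> ring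
    rw [← e, ← hv2, Int.mul_ediv_cancel _ (mul_ne_zero (fun r => by rw [r] at hv2; simp at hv2) (fun r => by rw [r] at hv2; simp at hv2))]
  have hc : cand (sgn2 s) ((j : ℕ) - 44 : ℤ) (sgn2 t * 10 * 2 ^ i) (491520 / ((2 : ℤ) ^ i * 2 ^ i)) = N := by
    rw [cand, ← hj, ← hs, ← hqv, ← ht, hq, add_sub_cancel]
  have hmod : ∀ m : ℕ, ((N : ℤ) % (m : ℤ) = 0 ↔ m ∣ N) := fun m => by
    rw [← Int.dvd_iff_emod_eq_zero, Int.natCast_dvd_natCast]
  have hadm : admissible (sgn2 s) ((j : ℕ) - 44 : ℤ) (sgn2 t * 10 * 2 ^ i) (491520 / ((2 : ℤ) ^ i * 2 ^ i)) := by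
    unfold admissible
    rw [hc, ← hj, ← hs, ← ht, add_sub_cancel]
    exact ⟨hF, hg, by omega, hb, (hmod 128).2 h128, fun e => h256 ((hmod 256).1 e), (hmod 27).2 h27,
      (hmod 5).2 hf, fun e => h25 ((hmod 25).1 e)⟩
  rcases search s t ⟨i, hi⟩ j hadm with e | e <;> rw [hc] at e
  · left; exact_mod_cast e
  · right; exact_mod_cast e

end Cfsg.Agent.Invol.J3Type
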