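import Cfsg.Agent.Lib.Invol.HJ.LocalT
import Cfsg.Agent.Lib.Invol.J3Type.Tools
import Cfsg.Agent.S0516
import Cfsg.Agent.S1248

/-!
# One class of involutions: Sylow order and outside involutions
-/

set_option autoImplicit false
set_option linter.unusedSectionVars false
set_option linter.style.haveILetI false

namespace Cfsg.Agent.Invol.J3Type

open Cfsg Cfsg.Agent.Invol.HJ

variable {G : Type*} [Group G] {z : G} {Q : Subgroup G}

/-- A group of Janko three type. -/
structure Setting (z : G) (Q : Subgroup G) : Prop extends Core z Q where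
  one : ∀ u : G, orderOf u = 2 → IsConj u z

/-- An abelian subgroup has index at least four in `Q`. -/
theorem no_abelian_half {z : G} {Q : Subgroup G} [Finite G] (h : Core z Q) (A : Subgroup G)
    (hab : ∀ a ∈ A, ∀ b ∈ A, a * b = b * a) (hidx : ∀ a ∈ Q, ∀ b ∈ Q, a ∉ A → b ∉ A → a * b ∈ A) :
    False := by
  obtain ⟨M⟩ := h.model
  have hone : ∀ i j, M.a i ∈ A → M.a j ∈ A → i = j := fun i j hi hj => by
    by_contra hij
    exact M.anti i j hij (hab _ hi _ hj)
  have key : ∀ p q r, p ≠ q → p ≠ r → q ≠ r → M.a p ∉ A → M.a q ∉ A → M.a r ∉ A → False := by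
    intro p q r hpq hpr hqr hp hq hr
    have hc := hab _ (hidx _ (M.mem p).1 _ (M.mem q).1 hp hq) _ (hidx _ (M.mem p).1 _ (M.mem r).1 hp hr)
    have hanti : ∀ i j, i ≠ j → M.a i * M.a j = z * (M.a j * M.a i) := fun i j hij =>
      (h.comm _ (M.mem i).1 _ (M.mem j).1).resolve_left (M.anti i j hij)
    set a := M.a p; set b := M.a q; set c := M.a r
    have ha2 : a * a = 1 := (M.mem p).2.1
    have hzz := h.z_sq
    have hza : a * z = z * a := h.zq (M.mem p).1
    have hzb : b * z = z * b := h.zq (M.mem q).1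
    have hzc : c * z = z * c := h.zq (M.mem r).1
    -- both products
    have e1 : a * b * (a * c) = z * (b * c) := by
      calc a * b * (a * c) = (a * b) * a * c := by group
        _ = z * (b * a) * a * c := by rw [hanti p q hpq]
        _ = z * b * (a * a) * c := by group
        _ = z * (b * c) := by rw [ha2, mul_one, mul_assoc]
    have e2 : a * c * (a * b) = z * (c * b) := by
      calc a * c * (a * b) = (a * c) * a * b := by group
        _ = z * (c * a) * a * b := by rw [hanti p r hpr]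
        _ = z * c * (a * a) * b := by group
        _ = z * (c * b) := by rw [ha2, mul_one, mul_assoc]
    rw [e1, e2] at hc
    exact M.anti q r hqr (mul_left_cancel hc)
  by_cases h0 : M.a 0 ∈ A
  · exact key 1 2 3 (by decide) (by decide) (by decide)
      (fun e => absurd (hone _ _ h0 e) (by decide)) (fun e => absurd (hone _ _ h0 e) (by decide))
      (fun e => absurd (hone _ _ h0 e) (by decide))
  by_cases h1 : M.a 1 ∈ A
  · exact key 0 2 3 (by decide) (by decide) (by decide) h0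
      (fun e => absurd (hone _ _ h1 e) (by decide)) (fun e => absurd (hone _ _ h1 e) (by decide))
  by_cases h2 : M.a 2 ∈ A
  · exact key 0 1 3 (by decide) (by decide) (by decide) h0 h1 (fun e => absurd (hone _ _ h2 e) (by decide))
  exact key 0 1 2 (by decide) (by decide) (by decide) h0 h1 h2

namespace Setting

/-- A Sylow two-subgroup has order `128`. -/
theorem sylow_card [Finite G] (h : Setting z Q) (P : Sylow 2 G) : Nat.card (P : Subgroup G) = 128 := by
  haveI : Fact (Nat.Prime 2) := ⟨Nat.prime_two⟩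
  have hd : 128 ∣ Nat.card G := dvd_trans ⟨15, h.toCore.card_C.trans (by norm_num)⟩
    (Subgroup.card_subgroup_dvd_card (Subgroup.centralizer ({z} : Set G)))
  obtain ⟨n, hn⟩ := IsPGroup.iff_card.1 P.isPGroup'
  have h7 : 7 ≤ n := by
    rw [P.card_eq_multiplicity] at hn
    have := (Nat.prime_two.pow_dvd_iff_le_factorization (k := 7) Nat.card_pos.ne').1 (by simpa using hd)
    exact this.trans_eq ((Nat.pow_right_injective le_rfl) hn)
  haveI : Nontrivial (P : Subgroup G) := Finite.one_lt_card_iff_nontrivial.1 (by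
    rw [hn]; exact Nat.one_lt_two_pow (by omega))
  haveI := P.isPGroup'.center_nontrivial
  obtain ⟨⟨c, hc⟩, hco⟩ := exists_prime_orderOf_dvd_card' (G := Subgroup.center (P : Subgroup G)) 2 (by
    obtain ⟨k, hk⟩ := IsPGroup.iff_card.1 (P.isPGroup'.to_subgroup (Subgroup.center (P : Subgroup G)))
    rw [hk]
    refine dvd_pow_self 2 fun h0 => ?_
    have := Finite.one_lt_card (α := Subgroup.center (P : Subgroup G))
    rw [hk, h0, pow_zero] at this
    omega)
  rw [Subgroup.orderOf_mk, ← Subgroup.orderOf_coe] at hco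
  obtain ⟨g, hg⟩ := isConj_iff.1 (h.one _ hco)
  have hle : (P : Subgroup G) ≤ Subgroup.centralizer ({(c : G)} : Set G) := fun p hp =>
    mem_cent_iff.2 (congrArg Subtype.val (Subgroup.mem_center_iff.1 hc ⟨p, hp⟩))
  have h1 := Subgroup.card_dvd_of_le hle
  rw [← card_cent_conj g, hg, h.toCore.card_C, hn, show (1920 : ℕ) = 2 ^ 7 * 15 by norm_num] at h1
  have h3 : 2 ^ n ∣ 2 ^ 7 := ((Nat.Coprime.pow_left n (by norm_num)).dvd_of_dvd_mul_right h1)
  have : n ≤ 7 := (Nat.pow_dvd_pow_iff_le_right (by norm_num)).1 h3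
  rw [hn, show n = 7 by omega]
  norm_num

theorem order_two_part [Finite G] (h : Setting z Q) : ∃ m, Nat.card G = 128 * m ∧ ¬ 2 ∣ m := by
  haveI : Fact (Nat.Prime 2) := ⟨Nat.prime_two⟩
  obtain ⟨P⟩ : Nonempty (Sylow 2 G) := inferInstance
  exact ⟨(P : Subgroup G).index, by rw [← h.sylow_card P, Subgroup.card_mul_index], P.not_dvd_index⟩

theorem exists_noncomm [Finite G] (h : Setting z Q) : ∃ a ∈ Q, ∃ b ∈ Q, a * b ≠ b * a := by
  obtain ⟨M⟩ := h.toCore.model
  exact ⟨_, (M.mem 0).1, _, (M.mem 1).1, M.anti 0 1 (by decide)⟩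

/-- Some involution of the centralizer lies outside `Q`. -/
theorem exists_outside [Finite G] [IsSimpleGroup G] (h : Setting z Q) :
    ∃ u ∈ Subgroup.centralizer ({z} : Set G), u * u = 1 ∧ u ∉ Q := by
  classical
  haveI : Fact (Nat.Prime 2) := ⟨Nat.prime_two⟩
  by_contra hno
  push Not at hno
  have hrank : PRankLE 2 2 G := by
    intro A hA hA2
    by_cases hA1 : ∀ a ∈ A, a = 1
    · rw [(Subgroup.eq_bot_iff_forall A).2 hA1, Subgroup.card_bot]; norm_num
    push Not at hA1
    obtain ⟨v, hv, hv1⟩ := hA1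
    obtain ⟨g, hg⟩ := isConj_iff.1 (h.one v (two_iff.2 ⟨by rw [← pow_two]; exact hA2 v hv, hv1⟩))
    have hB : ∀ a ∈ A, g * a * g⁻¹ ∈ Q ∧ (g * a * g⁻¹) * (g * a * g⁻¹) = 1 := by
      intro a ha
      have h2 : (g * a * g⁻¹) * (g * a * g⁻¹) = 1 := by
        rw [conj_mul, ← pow_two, hA2 a ha, mul_one, mul_inv_cancel]
      refine ⟨hno _ (mem_cent_iff.2 ?_) h2, h2⟩
      rw [← hg]
      exact comm_conj (congrArg Subtype.val (mul_comm' (⟨a, ha⟩ : A) ⟨v, hv⟩))
    by_cases hzx : ∀ a ∈ A, g * a * g⁻¹ = 1 ∨ g * a * g⁻¹ = z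
    · have hle : Nat.card A ≤ Nat.card (Fin 2) := by
        refine Nat.card_le_card_of_injective (fun a : A => if g * (a : G) * g⁻¹ = 1 then (0 : Fin 2) else 1) ?_
        intro a b e
        have e' : g * (a : G) * g⁻¹ = g * (b : G) * g⁻¹ := by
          rcases hzx a a.2 with h1 | h1 <;> rcases hzx b b.2 with h2 | h2 <;>
            simp [h1, h2, h.toCore.ne_one] at e ⊢
        exact Subtype.ext (mul_left_cancel (mul_right_cancel e'))
      simp at hle
      omega
    push Not at hzx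
    obtain ⟨a0, ha0, h01, h0z⟩ := hzx
    have hx : g * a0 * g⁻¹ ∈ nonCentralInvol z Q := ⟨(hB a0 ha0).1, (hB a0 ha0).2, h01, h0z⟩
    set x := g * a0 * g⁻¹
    let φ : A → G := fun a => g * (a : G) * g⁻¹
    have hφ : Function.Injective φ := fun a b e => Subtype.ext (mul_left_cancel (mul_right_cancel e))
    have hsub : ∀ a : A, φ a ∈ ({1, z, x, z * x} : Finset G) := by
      intro a
      simp only [Finset.mem_insert, Finset.mem_singleton]
      by_cases h1 : φ a = 1
      · exact Or.inl h1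
      by_cases h2 : φ a = z
      · exact Or.inr (Or.inl h2)
      exact Or.inr (Or.inr ((h.toCore.ten.2 x hx (φ a) ⟨(hB a a.2).1, (hB a a.2).2, h1, h2⟩
        (comm_conj (congrArg Subtype.val (mul_comm' (⟨a0, ha0⟩ : A) a))))))
    calc Nat.card A ≤ Nat.card ({1, z, x, z * x} : Finset G) :=
          Nat.card_le_card_of_injective (fun a => ⟨φ a, hsub a⟩) fun a b e => hφ (congrArg Subtype.val e)
      _ ≤ 4 := by rw [Nat.card_eq_fintype_card, Fintype.card_coe]; exact Finset.card_le_four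
      _ = 2 ^ 2 := by norm_num
  have hna : ¬ IsMulCommutative G := fun hc => by
    obtain ⟨a, -, b, -, hab⟩ := h.exists_noncomm
    exact hab (mul_comm' a b)
  have hQ2 : IsPGroup 2 Q := h.toCore.card_two_pow
  obtain ⟨S, hQS⟩ := hQ2.exists_le_sylow
  -- no abelian subgroup of index two
  have hhalf : ∀ A : Subgroup (S : Subgroup G), (∀ a ∈ A, ∀ b ∈ A, a * b = b * a) → A.index = 2 → False := by
    intro A hA hi
    refine no_abelian_half h.toCore (A.map (S : Subgroup G).subtype) ?_ ?_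
    · rintro _ ⟨a, ha, rfl⟩ _ ⟨b, hb, rfl⟩
      exact congrArg Subtype.val (hA a ha b hb)
    · intro a ha b hb hna' hnb'
      refine ⟨⟨a, hQS ha⟩ * ⟨b, hQS hb⟩, ?_, rfl⟩
      rw [SetLike.mem_coe, Subgroup.mul_mem_iff_of_index_two hi]
      exact ⟨fun h' => absurd ⟨_, h', rfl⟩ hna', fun h' => absurd ⟨_, h', rfl⟩ hnb'⟩
  haveI : Fintype (GaloisField 2 4) := Fintype.ofFinite _
  have hF : Fintype.card (GaloisField 2 4) = 16 := by
    rw [← Nat.card_eq_fintype_card, GaloisField.card 2 4 (by norm_num)]; norm_num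
  obtain ⟨P⟩ : Nonempty (Sylow 2 (Cfsg.PSU 3 (GaloisField 2 4) 4)) := inferInstance
  have hS := h.sylow_card S
  rcases Cfsg.Agent.S0516.result hna hrank S hF P with ⟨n, hn, ⟨e⟩⟩ | hqd | hw | ⟨⟨e⟩⟩
  · haveI : NeZero n := ⟨by omega⟩
    let ψ : ↥(S : Subgroup G) → DihedralGroup n := e
    refine hhalf ((Subgroup.zpowers (DihedralGroup.r 1)).comap e.toMonoidHom) ?_ ?_
    · rintro a ⟨i, hi⟩ b ⟨j, hj⟩
      refine e.injective ?_
      rw [map_mul, map_mul, show e a = _ from hi.symm, show e b = _ from hj.symm]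
      show DihedralGroup.r 1 ^ i * DihedralGroup.r 1 ^ j = DihedralGroup.r 1 ^ j * DihedralGroup.r 1 ^ i
      rw [← zpow_add, ← zpow_add, add_comm]
    · rw [Subgroup.index_comap_of_surjective _ e.surjective]
      have h1 := (Subgroup.zpowers (DihedralGroup.r (1 : ZMod n))).card_mul_index
      rw [Nat.card_zpowers, DihedralGroup.orderOf_r_one, DihedralGroup.nat_card] at h1
      exact Nat.eq_of_mul_eq_mul_left (by omega : 0 < n) (h1.trans (mul_comm 2 n))
  · obtain ⟨n, -, hcard, x, -, hx, -, -⟩ := hqd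
    refine hhalf (Subgroup.zpowers x) ?_ ?_
    · rintro _ ⟨i, rfl⟩ _ ⟨j, rfl⟩
      show x ^ i * x ^ j = x ^ j * x ^ i
      rw [← zpow_add, ← zpow_add, add_comm]
    · have h1 := (Subgroup.zpowers x).card_mul_index
      rw [Nat.card_zpowers, hx, hcard, pow_succ] at h1
      exact Nat.eq_of_mul_eq_mul_left (by positivity : 0 < 2 ^ n) h1
  · obtain ⟨n, -, hcard, x, y, w, hx, hxy, hd, hw2, hwx⟩ := hw
    have hy : orderOf y = 2 ^ n := by rw [← hwx, orderOf_conj', hx]
    let A : Subgroup (S : Subgroup G) := Subgroup.zpowers x ⊔ Subgroup.zpowers y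
    have hAc : ∀ a ∈ A, ∀ b ∈ A, a * b = b * a := by
      have hc : IsMulCommutative (Subgroup.closure ({x, y} : Set ↥(S : Subgroup G))) := by
        refine Subgroup.isMulCommutative_closure ?_
        rintro a (rfl | rfl) b (rfl | rfl)
        · rfl
        · exact hxy
        · exact hxy.symm
        · rfl
      have hAle : A ≤ Subgroup.closure {x, y} := sup_le
        (Subgroup.zpowers_le.2 (Subgroup.subset_closure (by simp)))
        (Subgroup.zpowers_le.2 (Subgroup.subset_closure (by simp)))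
      exact fun a ha b hb => congrArg Subtype.val (mul_comm' (⟨a, hAle ha⟩ : Subgroup.closure {x, y}) ⟨b, hAle hb⟩)
    have hAlt : Nat.card (Subgroup.zpowers x) * Nat.card (Subgroup.zpowers y) ≤ Nat.card A := by
      rw [← Nat.card_prod]
      refine Nat.card_le_card_of_injective (fun p : Subgroup.zpowers x × Subgroup.zpowers y =>
        (⟨(p.1 : (S : Subgroup G)) * p.2, A.mul_mem ((le_sup_left : _ ≤ A) p.1.2) ((le_sup_right : _ ≤ A) p.2.2)⟩ : A)) ?_
      intro p q e
      have e' : (p.1 : (S : Subgroup G)) * p.2 = q.1 * q.2 := congrArg Subtype.val e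
      have h1 : (q.1 : (S : Subgroup G))⁻¹ * p.1 = q.2 * (p.2 : (S : Subgroup G))⁻¹ := by
        rw [inv_mul_eq_iff_eq_mul, ← mul_assoc, eq_mul_inv_iff_mul_eq, e']
      have h2 : (q.1 : (S : Subgroup G))⁻¹ * p.1 ∈ Subgroup.zpowers x ⊓ Subgroup.zpowers y :=
        ⟨(Subgroup.zpowers x).mul_mem ((Subgroup.zpowers x).inv_mem q.1.2) p.1.2,
          h1 ▸ (Subgroup.zpowers y).mul_mem q.2.2 ((Subgroup.zpowers y).inv_mem p.2.2)⟩
      rw [hd, Subgroup.mem_bot] at h2
      refine Prod.ext (Subtype.ext (inv_mul_eq_one.1 h2).symm) (Subtype.ext ?_)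
      exact (mul_inv_eq_one.1 (h1.symm.trans h2)).symm
    rw [Nat.card_zpowers, Nat.card_zpowers, hx, hy, ← pow_add, ← two_mul] at hAlt
    refine hhalf A hAc ?_
    have h1 := A.card_mul_index
    rw [hcard, pow_succ] at h1
    have hi1 : A.index ≠ 1 := fun e => by
      refine no_abelian_half h.toCore ((⊤ : Subgroup (S : Subgroup G)).map (S : Subgroup G).subtype) ?_
        fun a ha b hb hna' _ => absurd ⟨⟨a, hQS ha⟩, Subgroup.mem_top _, rfl⟩ hna'
      rw [Subgroup.index_eq_one] at e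
      rintro _ ⟨a, -, rfl⟩ _ ⟨b, -, rfl⟩
      exact congrArg Subtype.val (hAc a (e ▸ Subgroup.mem_top a) b (e ▸ Subgroup.mem_top b))
    have hpos : 0 < 2 ^ (2 * n) := by positivity
    have : A.index ≤ 2 := by nlinarith
    have : A.index ≠ 0 := Subgroup.index_ne_zero_of_finite
    omega
  · have := (Cfsg.Agent.S1248.result hF P).1
    rw [← Nat.card_congr e.toEquiv, hS] at this
    omega

end Setting

/-- An outside element of the centralizer never squares to `z`. -/
theorem sq_ne_z [Finite G] [IsSimpleGroup G] (h : Setting z Q) {c : G}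
    (hc : c ∈ Subgroup.centralizer ({z} : Set G)) (hcQ : c ∉ Q) : c * c ≠ z := by
  intro hcc
  obtain ⟨M⟩ := h.toCore.model
  obtain ⟨u, hu, hu2, huQ⟩ := h.exists_outside
  obtain ⟨h1, h2⟩ := M.ptA_invol (y := ⟨u, hu⟩) hu2 huQ
  set C := Subgroup.centralizer ({z} : Set G)
  have hc1 : M.ptA ⟨c, hc⟩ ≠ 1 := fun e => hcQ ((M.ptA_ker _).1 e)
  have hc2 : M.ptA ⟨c, hc⟩ * M.ptA ⟨c, hc⟩ = 1 := by
    rw [← map_mul, M.ptA_ker]
    show c * c ∈ Q
    exact hcc ▸ h.mem_z
  obtain ⟨σ, hσ⟩ := HJ.a5_invol_trans _ _ h1 h2 hc1 hc2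
  obtain ⟨d, rfl⟩ := M.ptA_surjective σ
  set y := d * ⟨u, hu⟩ * d⁻¹ with hy
  have hy2 : (y : G) * y = 1 := by
    rw [hy]; push_cast
    rw [conj_mul, hu2, mul_one, mul_inv_cancel]
  have hey : M.ptA y = M.ptA ⟨c, hc⟩ := by rw [hy, map_mul, map_mul, map_inv, hσ]
  have hyQ : (y : G) ∉ Q := fun e => hc1 (hey ▸ (M.ptA_ker y).2 e)
  set q := (y : G)⁻¹ * c with hq
  have hqQ : q ∈ Q := (M.ptA_ker (y⁻¹ * ⟨c, hc⟩)).1 (by rw [map_mul, map_inv, hey, inv_mul_cancel])
  have hcq : c = (y : G) * q := by rw [hq, mul_inv_cancel_left]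
  have hyinv : (y : G)⁻¹ = y := inv_eq_of_mul_eq_one_right hy2
  have hyqy : (y : G) * q * y = z * q⁻¹ := by
    rw [eq_mul_inv_iff_mul_eq]
    refine Eq.trans ?_ hcc
    rw [hcq]
    group
  obtain ⟨h3, h4⟩ := M.ptA_invol hy2 hyQ
  obtain ⟨i, -, -, hi, -⟩ := HJ.a5_invol_shape _ h3 h4
  rw [M.ptA_coe] at hi
  have hcomm : ∀ p : G, (y : G) * p * y = p ↔ (y : G) * p = p * y := fun p => by
    conv_lhs => rw [← hyinv, mul_inv_eq_iff_eq_mul]
    rw [hyinv]
  have hnc : ¬ (y : G) * q = q * y := by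
    intro e
    rw [(hcomm q).2 e] at hyqy
    have hqq : q * q = z := (eq_mul_inv_iff_mul_eq.1 hyqy)
    rcases M.cent_Q h.toCore hy2 hyQ hi hqQ e with e' | e' | e' | e' <;> rw [e'] at hqq
    · exact h.toCore.ne_one (by rw [← hqq, one_mul])
    · exact h.toCore.ne_one (hqq.symm.trans h.toCore.z_sq)
    · exact h.toCore.ne_one (hqq.symm.trans (M.mem i).2.1)
    · exact h.toCore.ne_one (hqq.symm.trans (h.toCore.zmul_mem (M.mem i)).2.1)
  rcases h.sq q hqQ with hq2 | hq2
  · rw [inv_eq_of_mul_eq_one_right hq2] at hyqy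
    by_cases hq1 : q = 1
    · exact hnc (by rw [hq1]; simp)
    by_cases hqz : q = z
    · exact hnc (by rw [hqz]; exact h.toCore.cz y.2)
    obtain ⟨j, hj⟩ := M.cover q ⟨hqQ, hq2, hq1, hqz⟩
    have hjj : M.pt y j = j := by
      by_contra hne
      have hv : M.vec q = ev j := by
        rcases hj with e | e <;> rw [e]
        · exact M.vec_a j
        · rw [M.vec_mul h.toCore h.mem_z (M.mem j).1, M.vec_z h.toCore, zero_add, M.vec_a]
      have h5 := M.vec_conj h.toCore y hqQ j
      rw [hyinv, hyqy, M.vec_mul h.toCore h.mem_z hqQ, M.vec_z h.toCore, zero_add, hv, ev, ev, if_neg hne, if_pos rfl] at h5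
      exact absurd h5 (by decide)
    refine hnc ?_
    have hf := M.fix_comm h.toCore hy2 hyQ hjj
    rcases hj with e | e <;> rw [e]
    · exact hf
    · rw [← mul_assoc, h.toCore.cz y.2, mul_assoc, hf, mul_assoc]
  · refine hnc ((hcomm q).1 ?_)
    rw [hyqy, inv_eq_of_mul_eq_one_right (a := q) (b := z * q) (by
      rw [← mul_assoc, h.toCore.zq hqQ, mul_assoc, hq2, h.toCore.z_sq]), ← mul_assoc, h.toCore.z_sq, one_mul]

end Cfsg.Agent.Invol.J3Type
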