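import Cfsg.Agent.Lib.Invol.J3Type.ThreeBig
import Cfsg.Agent.Lib.Invol.J3Type.Reduce
import Cfsg.Agent.Lib.Invol.J3Type.Main

/-!
The Sylow subgroups for the primes seventeen and nineteen.
-/

set_option autoImplicit false
set_option linter.unusedSectionVars false
set_option linter.style.haveILetI false

namespace Cfsg.Agent.Invol.J3Type

open Cfsg Cfsg.Agent Cfsg.Agent.Invol.HJ

universe u

variable {G : Type u} [Group G] [Finite G] {z : G} {Q : Subgroup G}

theorem a5_no_four : ∀ σ : alternatingGroup (Fin 5), σ * σ * (σ * σ) = 1 → σ * σ = 1 := by decide +kernel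

/-- No element of order sixteen. -/
theorem no_sixteen (h : Setting z Q) {s : G} (hs : orderOf s = 16) : False := by
  have hs8 : orderOf (s ^ 8) = 2 := by
    rw [orderOf_pow' s (by norm_num), hs]; norm_num
  obtain ⟨g, hg⟩ := isConj_iff.1 (h.one _ hs8)
  obtain ⟨π, -, hπ⟩ := h.toCore.quot
  set c := g * s * g⁻¹ with hc
  have hc8 : c ^ 8 = z := by rw [hc, conj_pow, hg]
  have hcC : c ∈ Subgroup.centralizer ({z} : Set G) :=
    mem_cent_iff.2 (by rw [← hc8]; exact ((Commute.refl c).pow_right 8).eq)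
  set cc : Subgroup.centralizer ({z} : Set G) := ⟨c, hcC⟩
  have hker : ∀ m : ℕ, c ^ m ∈ Q → π cc ^ m = 1 := fun m hm => by
    rw [← map_pow]; exact (hπ _).2 hm
  have h16 : π cc ^ 16 = 1 := hker 16 (by
    rw [show 16 = 8 * 2 from rfl, pow_mul, hc8, pow_two, h.toCore.z_sq]; exact Q.one_mem)
  have h8 : π cc ^ 8 = 1 := hker 8 (by rw [hc8]; exact h.mem_z)
  have h4 : π cc ^ 4 = 1 := by
    have h1 := a5_no_four (π cc ^ 2) (by
      rw [← pow_two, ← pow_two, ← pow_mul, ← pow_mul]; exact h8)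
    rw [← pow_two, ← pow_mul] at h1
    exact h1
  have h2 : π cc ^ 2 = 1 := by
    have h1 := a5_no_four (π cc) (by rw [← pow_two, ← pow_two, ← pow_mul]; exact h4)
    rw [← pow_two] at h1
    exact h1
  have hQ : c ^ 2 ∈ Q := by
    rw [← map_pow] at h2
    exact (hπ _).1 h2
  have h2z := h.sq _ hQ
  have hbad : c ^ 8 = 1 := by
    rw [show 8 = 2 * 2 * 2 from rfl, pow_mul, pow_mul, pow_two (c ^ 2)]
    rcases h2z with e | e <;> rw [e]
    · exact one_pow 2
    · rw [pow_two, h.toCore.z_sq]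
  rw [hc8] at hbad
  exact h.toCore.ne_one hbad

/-- An element of a cyclic group image of order sixteen gives an element of order sixteen. -/
theorem exists_sixteen {A B : Type u} [Group A] [Group B] [Finite A] [IsCyclic B] (f : A →* B)
    (h : Nat.card f.range = 16) : ∃ a : A, orderOf a = 16 := by
  obtain ⟨g, hg⟩ := IsCyclic.exists_generator (α := f.range)
  obtain ⟨a, ha⟩ := f.rangeRestrict_surjective g
  have h16 : 16 ∣ orderOf a := by
    have h1 := orderOf_map_dvd f.rangeRestrict a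
    rw [ha, orderOf_eq_card_of_forall_mem_zpowers hg, h] at h1
    exact h1
  exact ⟨a ^ (orderOf a / 16), orderOf_pow_orderOf_div (orderOf_pos a).ne' h16⟩

theorem factor_big : (50232960 : ℕ) = 128 * 243 * 5 * 17 * 19 := by norm_num

theorem options_seventeen : ∀ c ∈ Nat.divisors 4617, ∀ e ∈ Nat.divisors 16, e ≠ 16 →
    2954880 % (c * e) = 0 → 2954880 / (c * e) % 17 = 1 →
      (c = 1 ∧ e = 8) ∨ (2 ∣ e ∧ (c = 19 ∨ c = 171)) := by decide +kernel

theorem options_nineteen : ∀ c ∈ Nat.divisors 4131, ∀ e ∈ Nat.divisors 18,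
    2643840 % (c * e) = 0 → 2643840 / (c * e) % 19 = 1 →
      ¬ 2 ∣ e ∧ (17 ∣ c ∨ (c = 1 ∧ e = 9) ∨ (3 ∣ c ∧ c * e = 9)) := by decide +kernel

theorem count_nineteen : ∀ d ∈ Nat.divisors 1215, d % 19 = 1 → d = 1 := by decide +kernel

theorem odd_part_dvd {c k : ℕ} (h2 : ¬ 2 ∣ c) (h5 : ¬ 5 ∣ c) (h : c ∣ 640 * k) : c ∣ k := by
  refine Nat.Coprime.dvd_of_dvd_mul_left ?_ h
  rw [show (640 : ℕ) = 2 ^ 7 * 5 by norm_num]
  exact (((Nat.prime_two.coprime_iff_not_dvd).2 h2).symm.pow_right 7).mul_right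
    (((by norm_num : Nat.Prime 5).coprime_iff_not_dvd).2 h5).symm

/-- The options at nineteen. -/
theorem nineteen_options [IsSimpleGroup G] (h : Setting z Q) {x : G} (hx : orderOf x = 19) :
    ∃ c e : ℕ, Nat.card (Subgroup.centralizer ({x} : Set G)) = 19 * c ∧
      Nat.card (Subgroup.normalizer ((Subgroup.zpowers x : Subgroup G) : Set G)) = 19 * c * e ∧
      ¬ 2 ∣ c ∧ ¬ 2 ∣ e ∧ (17 ∣ c ∨ (c = 1 ∧ e = 9) ∨ (3 ∣ c ∧ c * e = 9)) := by
  have hG := order_eq h
  obtain ⟨c, e, n, hc, hN, he, hn, htot⟩ := prime_options (by norm_num) hx (by rw [hG]; norm_num)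
  obtain ⟨h2, h5⟩ := big_prime_cent h (by norm_num) (by norm_num) hx
  have hce : c * e * n = 2643840 := by rw [hG] at htot; linarith
  have hc2 : ¬ 2 ∣ c := fun d => h2 (hc ▸ dvd_mul_of_dvd_right d 19)
  have hc0 : c * e ≠ 0 := fun r => by rw [r, zero_mul] at hce; norm_num at hce
  obtain ⟨ho, hopt⟩ := options_nineteen c
    (Nat.mem_divisors.2 ⟨odd_part_dvd hc2 (fun d => h5 (hc ▸ dvd_mul_of_dvd_right d 19))
      ⟨e * n, by rw [← mul_assoc, hce]⟩, by norm_num⟩) e (Nat.mem_divisors.2 ⟨he, by norm_num⟩)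
    (Nat.mod_eq_zero_of_dvd ⟨n, hce.symm⟩) (by rw [← hce, Nat.mul_div_cancel_left _ (Nat.pos_of_ne_zero hc0)]; exact hn)
  exact ⟨c, e, hc, hN, hc2, ho, hopt⟩

/-- The options at seventeen. -/
theorem seventeen_options [IsSimpleGroup G] (h : Setting z Q) {x : G} (hx : orderOf x = 17) :
    ∃ c e : ℕ, Nat.card (Subgroup.centralizer ({x} : Set G)) = 17 * c ∧
      Nat.card (Subgroup.normalizer ((Subgroup.zpowers x : Subgroup G) : Set G)) = 17 * c * e ∧
      ((c = 1 ∧ e = 8) ∨ (2 ∣ e ∧ (c = 19 ∨ c = 171))) := by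
  haveI : Fact (Nat.Prime 17) := ⟨by norm_num⟩
  have hG := order_eq h
  obtain ⟨c, e, n, hc, hN, he, hn, htot⟩ := prime_options (by norm_num) hx (by rw [hG]; norm_num)
  obtain ⟨h2, h5⟩ := big_prime_cent h (by norm_num) (by norm_num) hx
  have hce : c * e * n = 2954880 := by rw [hG] at htot; linarith
  have hc0 : c * e ≠ 0 := fun r => by rw [r, zero_mul] at hce; norm_num at hce
  have he16 : e ≠ 16 := by
    intro e16
    set H := Subgroup.zpowers x
    haveI : IsCyclic (ZMod (Nat.card H))ˣ := by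
      rw [show Nat.card H = 17 by rw [Nat.card_zpowers, hx]]; infer_instance
    haveI : IsCyclic (MulAut H) := isCyclic_of_surjective
      (IsCyclic.mulAutMulEquiv H).symm (IsCyclic.mulAutMulEquiv H).symm.surjective
    have hr : Nat.card (H.normalizerMonoidHom).range = 16 := by
      rw [← Subgroup.index_ker, Subgroup.normalizerMonoidHom_ker, Prime.cent_zpowers]
      have h1 := ((Subgroup.centralizer ({x} : Set G)).subgroupOf (Subgroup.normalizer (H : Set G))).card_mul_index
      rw [Nat.card_congr (Subgroup.subgroupOfEquivOfLe (Prime.cen_le_nor x)).toEquiv, hc, hN, e16] at h1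
      exact Nat.eq_of_mul_eq_mul_left (by have := Nat.pos_of_ne_zero (left_ne_zero_of_mul hc0); omega) h1
    obtain ⟨s, hs⟩ := exists_sixteen _ hr
    exact no_sixteen h (s := (s : G)) (by rw [Subgroup.orderOf_coe, hs])
  exact ⟨c, e, hc, hN, options_seventeen c
    (Nat.mem_divisors.2 ⟨odd_part_dvd (fun d => h2 (hc ▸ dvd_mul_of_dvd_right d 17))
      (fun d => h5 (hc ▸ dvd_mul_of_dvd_right d 17)) ⟨e * n, by rw [← mul_assoc, hce]⟩, by norm_num⟩) e
    (Nat.mem_divisors.2 ⟨he, by norm_num⟩) he16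
    (Nat.mod_eq_zero_of_dvd ⟨n, hce.symm⟩) (by rw [← hce, Nat.mul_div_cancel_left _ (Nat.pos_of_ne_zero hc0)]; exact hn)⟩

/-- The normalizer of a subgroup of order seventeen. -/
theorem seventeen [IsSimpleGroup G] (h : Setting z Q) {x : G} (hx : orderOf x = 17) :
    Nat.card (Subgroup.centralizer ({x} : Set G)) = 17 ∧
      Nat.card (Subgroup.normalizer ((Subgroup.zpowers x : Subgroup G) : Set G)) = 136 := by
  haveI : Fact (Nat.Prime 19) := ⟨by norm_num⟩
  haveI : Fact (Nat.Prime 2) := ⟨Nat.prime_two⟩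
  obtain ⟨c, e, hc, hN, hopt⟩ := seventeen_options h hx
  rcases hopt with ⟨rfl, rfl⟩ | ⟨he2, hc19⟩
  · exact ⟨by rw [hc], by rw [hN]⟩
  exfalso
  set C := Subgroup.centralizer ({x} : Set G)
  set NX := Subgroup.normalizer ((Subgroup.zpowers x : Subgroup G) : Set G)
  obtain ⟨y, hy⟩ := exists_prime_orderOf_dvd_card' (G := C) 19 (by rw [hc]; rcases hc19 with e | e <;> rw [e] <;> norm_num)
  have hyG : orderOf (y : G) = 19 := by rw [Subgroup.orderOf_coe, hy]
  have hex : ¬ 19 * 19 ∣ Nat.card C := by rw [hc]; rcases hc19 with e | e <;> rw [e] <;> norm_num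
  obtain ⟨hidx, hmul⟩ := Prime.nor_count (C := C) (by norm_num) hy hex
  set NC := Prime.Nor y
  have hxC : x ∈ C := mem_cent_iff.2 rfl
  have hxN : (⟨x, hxC⟩ : C) ∈ NC :=
    Prime.cen_le_nor y (mem_cent_iff.2 (Subtype.ext (mem_cent_iff.1 y.2).symm))
  have h323 : 323 ∣ Nat.card NC := by
    refine Nat.Coprime.mul_dvd_of_dvd_of_dvd (m := 17) (n := 19) (by norm_num) ?_ ?_
    · have := Subgroup.orderOf_dvd_natCard _ hxN
      rwa [Subgroup.orderOf_mk, hx] at this
    · exact hy ▸ Subgroup.orderOf_dvd_natCard _ (Prime.cen_le_nor y (mem_cent_iff.2 rfl))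
  have hnC : NC = ⊤ := by
    have hi : NC.index ∣ 9 := by
      obtain ⟨q, hq⟩ := h323
      rw [hq, hc] at hmul
      rcases hc19 with e | e <;> rw [e] at hmul
      · exact ⟨9 * q, by nlinarith⟩
      · exact ⟨q, by linarith⟩
    rw [← Subgroup.index_eq_one]
    have := Nat.le_of_dvd (by norm_num) hi
    omega
  have hpow : ∀ v ∈ C, orderOf v = 19 → v ∈ Subgroup.zpowers (y : G) := by
    intro v hv hv19
    have hn : (Subgroup.zpowers y).Normal := by
      rw [← Subgroup.normalizer_eq_top_iff]; exact hnC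
    obtain ⟨P, hP⟩ := (IsPGroup.of_card (n := 1) (p := 19) (by rw [Nat.card_zpowers, Subgroup.orderOf_mk, hv19, pow_one]) :
      IsPGroup 19 (Subgroup.zpowers (⟨v, hv⟩ : C))).exists_le_sylow
    obtain ⟨P', hP'⟩ := (IsPGroup.of_card (n := 1) (p := 19) (by rw [Nat.card_zpowers, hy, pow_one]) :
      IsPGroup 19 (Subgroup.zpowers y)).exists_le_sylow
    have hP'eq : Subgroup.zpowers y = (P' : Subgroup C) := by
      refine Subgroup.eq_of_le_of_card_ge hP' ?_
      obtain ⟨j, hj⟩ := IsPGroup.iff_card.1 P'.isPGroup'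
      have hd : 19 ^ j ∣ Nat.card C := hj ▸ Subgroup.card_subgroup_dvd_card _
      rw [hj, Nat.card_zpowers, hy]
      by_contra hlt
      have hj2 : 2 ≤ j := by
        by_contra h1
        have : 19 ^ j ≤ 19 ^ 1 := Nat.pow_le_pow_right (by norm_num) (by omega)
        omega
      exact hex (pow_two 19 ▸ dvd_trans (pow_dvd_pow 19 hj2) hd)
    haveI : (P' : Subgroup C).Normal := hP'eq ▸ hn
    haveI := Sylow.unique_of_normal P' inferInstance
    have hPP : P = P' := Subsingleton.elim _ _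
    have hv' := hP (Subgroup.mem_zpowers _)
    rw [hPP, ← hP'eq] at hv'
    obtain ⟨i, hi⟩ := hv'
    exact ⟨i, by simpa using congrArg Subtype.val hi⟩
  obtain ⟨s, hs⟩ := exists_prime_orderOf_dvd_card' (G := NX) 2 (by rw [hN]; exact dvd_mul_of_dvd_right he2 _)
  rw [← Subgroup.orderOf_coe] at hs
  have hsN : (s : G) ∈ Subgroup.normalizer ((Subgroup.zpowers (y : G) : Subgroup G) : Set G) := by
    refine mem_normalizer_of ?_
    rintro _ ⟨i, rfl⟩
    show (s : G) * (y : G) ^ i * (s : G)⁻¹ ∈ _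
    rw [← conj_zpow]
    refine Subgroup.zpow_mem _ (hpow _ ?_ (by rw [orderOf_conj', hyG])) i
    refine mem_cent_iff.2 ?_
    have hx' : (s : G)⁻¹ * x * (s : G) ∈ Subgroup.zpowers x := by
      have := norm_conj_mem (inv_mem s.2) (Subgroup.mem_zpowers x)
      rwa [inv_inv] at this
    obtain ⟨j, hj⟩ := hx'
    have hj' : x ^ j = (s : G)⁻¹ * x * (s : G) := hj
    have hyx : Commute (y : G) ((s : G)⁻¹ * x * (s : G)) :=
      hj' ▸ (show Commute (y : G) x from mem_cent_iff.1 y.2).zpow_right j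
    calc (s : G) * y * (s : G)⁻¹ * x = (s : G) * ((y : G) * ((s : G)⁻¹ * x * (s : G))) * (s : G)⁻¹ := by group
      _ = x * ((s : G) * y * (s : G)⁻¹) := by rw [hyx.eq]; group
  obtain ⟨c', e', -, hN', ho1, ho2, -⟩ := nineteen_options h hyG
  have hd := Subgroup.orderOf_dvd_natCard _ hsN
  rw [hs, hN'] at hd
  rcases Nat.prime_two.dvd_mul.1 hd with r | r
  · rcases Nat.prime_two.dvd_mul.1 r with r' | r'
    · norm_num at r'
    · exact ho1 r'
  · exact ho2 r

/-- The normalizer of a subgroup of order nineteen. -/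
theorem nineteen [IsSimpleGroup G] (h : Setting z Q) {x : G} (hx : orderOf x = 19) :
    Nat.card (Subgroup.centralizer ({x} : Set G)) = 19 ∧
      Nat.card (Subgroup.normalizer ((Subgroup.zpowers x : Subgroup G) : Set G)) = 171 := by
  haveI : Fact (Nat.Prime 3) := ⟨Nat.prime_three⟩
  obtain ⟨c, e, hc, hN, -, -, hopt⟩ := nineteen_options h hx
  have no17 : ∀ {v : G}, Commute x v → orderOf v = 17 → False := by
    intro v hxv hv
    have hd := Prime.orderOf_dvd_cen (x := v) hxv.symm
    rw [hx, Prime.Cen, (seventeen h hv).1] at hd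
    norm_num at hd
  rcases hopt with h17 | ⟨rfl, rfl⟩ | ⟨h3, hce⟩
  · exfalso
    obtain ⟨v, hv, hxv⟩ := Prime.exists_commute (x := x) (by norm_num : Nat.Prime 17)
      (by rw [Prime.Cen, hc]; exact dvd_mul_of_dvd_right h17 19)
    exact no17 hxv hv
  · exact ⟨by rw [hc], by rw [hN]⟩
  · exfalso
    obtain ⟨t, ht, hxt⟩ := Prime.exists_commute (x := x) Nat.prime_three
      (by rw [Prime.Cen, hc]; exact dvd_mul_of_dvd_right h3 19)
    obtain ⟨w, k, m, N⟩ := exists_ndata h
    obtain ⟨y, a, b, n, d⟩ := exists_three_data h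
    have hY : Nat.card (Subgroup.centralizer ({y} : Set G)) = 1080 := by
      obtain ⟨g, hg⟩ := isConj_iff.1 (h.one m (two_iff.2 ⟨N.m2, N.m1⟩))
      obtain ⟨q, -, hq⟩ := d.conj3 (g * k * g⁻¹) (mem_cent_iff.2 (by rw [← hg]; exact comm_conj N.mkc.symm))
        (by rw [orderOf_conj', N.k3])
      rw [← hq, card_cent_conj, card_cent_conj, N.cent_k]
    set C := Subgroup.centralizer ({t} : Set G)
    have hxC : x ∈ C := mem_cent_iff.2 hxt.eq
    have h19 : 19 ∣ Nat.card C := hx ▸ Subgroup.orderOf_dvd_natCard _ hxC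
    have hodd : ¬ 2 ∣ Nat.card C := by
      intro h2
      obtain ⟨i, hi, hti⟩ := Prime.exists_commute (x := t) Nat.prime_two h2
      obtain ⟨g, hg⟩ := isConj_iff.1 (h.one i hi)
      obtain ⟨q, -, hq⟩ := d.conj3 (g * t * g⁻¹) (mem_cent_iff.2 (by rw [← hg]; exact comm_conj hti.eq))
        (by rw [orderOf_conj', ht])
      have e1 : Nat.card C = 1080 := by rw [← hY, ← hq, card_cent_conj, card_cent_conj]
      rw [e1] at h19
      norm_num at h19
    have h17 : ¬ 17 ∣ Nat.card C := by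
      intro h17
      obtain ⟨v, hv, htv⟩ := Prime.exists_commute (x := t) (by norm_num : Nat.Prime 17) h17
      have hd := Prime.orderOf_dvd_cen (x := v) htv.symm
      rw [ht, Prime.Cen, (seventeen h hv).1] at hd
      norm_num at hd
    have hdG : Nat.card C ∣ 128 * 17 * (19 * 1215) := by
      have := Subgroup.card_subgroup_dvd_card C
      rw [order_eq h] at this
      exact this
    have hd' : Nat.card C ∣ 19 * 1215 := by
      refine Nat.Coprime.dvd_of_dvd_mul_left ?_ hdG
      refine Nat.Coprime.mul_right ?_ (((by norm_num : Nat.Prime 17).coprime_iff_not_dvd).2 h17).symm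
      rw [show 128 = 2 ^ 7 by norm_num]
      exact Nat.Coprime.pow_right _ ((Nat.prime_two.coprime_iff_not_dvd).2 hodd).symm
    have hex : ¬ 19 * 19 ∣ Nat.card C := fun r => by
      have := dvd_trans r hd'
      norm_num at this
    obtain ⟨hidx, hmul⟩ := Prime.nor_count (C := C) (x := ⟨x, hxC⟩) (by norm_num)
      (by rw [Subgroup.orderOf_mk, hx]) hex
    have h19N : 19 ∣ Nat.card (Prime.Nor (⟨x, hxC⟩ : C)) := by
      have := Subgroup.orderOf_dvd_natCard (Prime.Nor (⟨x, hxC⟩ : C)) (Prime.cen_le_nor _ (mem_cent_iff.2 rfl))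
      rwa [Subgroup.orderOf_mk, hx] at this
    have h1215 : (Prime.Nor (⟨x, hxC⟩ : C)).index ∣ 1215 := by
      refine Nat.dvd_of_mul_dvd_mul_left (by norm_num : 0 < 19) ?_
      exact dvd_trans (hmul ▸ Nat.mul_dvd_mul_right h19N _) hd'
    have h1 := count_nineteen _ (Nat.mem_divisors.2 ⟨h1215, by norm_num⟩) hidx
    rw [h1, mul_one] at hmul
    have h27 : 27 ∣ Nat.card C := three_big h ht
    rw [← hmul] at h27
    have hd := dvd_trans h27 (Prime.nor_sub (⟨x, hxC⟩ : C))
    rw [show Prime.Nor ((⟨x, hxC⟩ : C) : G) = Subgroup.normalizer ((Subgroup.zpowers x : Subgroup G) : Set G) from rfl,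
      hN, mul_assoc, hce] at hd
    norm_num at hd

/-- Self-centralizing Sylow subgroups of prime order with cyclic automizers. -/
theorem sylow_shape {p e : ℕ} [hp : Fact p.Prime] (hex : ¬ p * p ∣ Nat.card G) (hd : p ∣ Nat.card G)
    (hall : ∀ x : G, orderOf x = p → Nat.card (Subgroup.centralizer ({x} : Set G)) = p ∧
      Nat.card (Subgroup.normalizer ((Subgroup.zpowers x : Subgroup G) : Set G)) = p * e) (X : Sylow p G) :
    Subgroup.centralizer ((X : Subgroup G) : Set G) = X ∧
      ∃ _ : ((X : Subgroup G).subgroupOf (Subgroup.normalizer ((X : Subgroup G) : Set G))).Normal,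
        IsCyclic (↥(Subgroup.normalizer ((X : Subgroup G) : Set G)) ⧸ (X : Subgroup G).subgroupOf _) ∧
        Nat.card (↥(Subgroup.normalizer ((X : Subgroup G) : Set G)) ⧸ (X : Subgroup G).subgroupOf _) = e := by
  have hX : Nat.card (X : Subgroup G) = p := by
    rw [X.card_eq_multiplicity]
    have h1 : 1 ≤ (Nat.card G).factorization p :=
      (hp.out.dvd_iff_one_le_factorization Nat.card_pos.ne').1 hd
    have h2 : (Nat.card G).factorization p < 2 := by
      by_contra hge
      push Not at hge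
      exact hex (pow_two p ▸ (hp.out.pow_dvd_iff_le_factorization Nat.card_pos.ne').2 hge)
    rw [show (Nat.card G).factorization p = 1 by omega, pow_one]
  obtain ⟨x, hx⟩ := exists_prime_orderOf_dvd_card' (G := (X : Subgroup G)) p (dvd_of_eq hX.symm)
  rw [← Subgroup.orderOf_coe] at hx
  have hgen : Subgroup.zpowers (x : G) = (X : Subgroup G) :=
    Subgroup.eq_of_le_of_card_ge (Subgroup.zpowers_le.2 x.2) (by rw [hX, Nat.card_zpowers, hx])
  obtain ⟨hC, hN⟩ := hall x hx
  rw [hgen] at hN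
  have hCX : Subgroup.centralizer ((X : Subgroup G) : Set G) = X := by
    rw [← hgen, Prime.cent_zpowers]
    refine (Subgroup.eq_of_le_of_card_ge (Subgroup.zpowers_le.2 (mem_cent_iff.2 rfl)) ?_).symm
    rw [hC, Nat.card_zpowers, hx]
  set N := Subgroup.normalizer ((X : Subgroup G) : Set G)
  have hker : ((X : Subgroup G).normalizerMonoidHom).ker = (X : Subgroup G).subgroupOf N := by
    rw [Subgroup.normalizerMonoidHom_ker]
    exact congrArg (fun K => Subgroup.subgroupOf K N) hCX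
  refine ⟨hCX, hker ▸ MonoidHom.normal_ker _, ?_, ?_⟩
  · haveI : IsCyclic (X : Subgroup G) := isCyclic_of_prime_card hX
    haveI : NeZero (Nat.card (X : Subgroup G)) := ⟨Nat.card_pos.ne'⟩
    haveI : IsCyclic (ZMod (Nat.card (X : Subgroup G)))ˣ := by rw [hX]; infer_instance
    haveI : IsCyclic (MulAut (X : Subgroup G)) := isCyclic_of_surjective
      (IsCyclic.mulAutMulEquiv (X : Subgroup G)).symm (IsCyclic.mulAutMulEquiv (X : Subgroup G)).symm.surjective
    haveI : ((X : Subgroup G).subgroupOf N).Normal := hker ▸ MonoidHom.normal_ker _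
    let g : N ⧸ (X : Subgroup G).subgroupOf N →* MulAut (X : Subgroup G) :=
      QuotientGroup.lift _ ((X : Subgroup G).normalizerMonoidHom) (le_of_eq hker.symm)
    refine isCyclic_of_injective g ?_
    refine (injective_iff_map_eq_one g).2 fun q hq => ?_
    obtain ⟨a, rfl⟩ := QuotientGroup.mk_surjective q
    rw [QuotientGroup.eq_one_iff, ← hker]
    exact hq
  · have h1 := ((X : Subgroup G).subgroupOf N).card_mul_index
    rw [Nat.card_congr (Subgroup.subgroupOfEquivOfLe Subgroup.le_normalizer).toEquiv, hX, hN] at h1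
    exact Nat.eq_of_mul_eq_mul_left hp.out.pos h1

/-- The statement on the Sylow subgroups for seventeen and nineteen. -/
theorem sylow_seventeen_nineteen [IsSimpleGroup G]
    (hone : ∀ x y : G, orderOf x = 2 → orderOf y = 2 → IsConj x y) (t : G) (ht : orderOf t = 2)
    (E A : Subgroup (Subgroup.centralizer ({t} : Set G))) [E.Normal] (hE : IsExtraspecial 2 E)
    (hE32 : Nat.card E = 32) (hEA : E.IsComplement' A) (eA : A ≃* alternatingGroup (Fin 5)) :
    (∀ X : Sylow 19 G, Subgroup.centralizer ((X : Subgroup G) : Set G) = X ∧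
        ∃ _ : ((X : Subgroup G).subgroupOf (Subgroup.normalizer ((X : Subgroup G) : Set G))).Normal,
          IsCyclic (↥(Subgroup.normalizer ((X : Subgroup G) : Set G)) ⧸ (X : Subgroup G).subgroupOf _) ∧
          Nat.card (↥(Subgroup.normalizer ((X : Subgroup G) : Set G)) ⧸ (X : Subgroup G).subgroupOf _) = 9) ∧
    (∀ Y : Sylow 17 G, Subgroup.centralizer ((Y : Subgroup G) : Set G) = Y ∧
        ∃ _ : ((Y : Subgroup G).subgroupOf (Subgroup.normalizer ((Y : Subgroup G) : Set G))).Normal,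
          IsCyclic (↥(Subgroup.normalizer ((Y : Subgroup G) : Set G)) ⧸ (Y : Subgroup G).subgroupOf _) ∧
          Nat.card (↥(Subgroup.normalizer ((Y : Subgroup G) : Set G)) ⧸ (Y : Subgroup G).subgroupOf _) = 8) := by
  have e : (Subgroup.centralizer ({t} : Set G)) ⧸ E ≃* alternatingGroup (Fin 5) :=
    hEA.symm.QuotientMulEquiv.trans eA
  have h := setting_of_one hone t ht E hE32 hE e
  have hG := order_eq h
  haveI : Fact (Nat.Prime 17) := ⟨by norm_num⟩
  haveI : Fact (Nat.Prime 19) := ⟨by norm_num⟩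
  exact ⟨fun X => sylow_shape (by rw [hG]; norm_num) (by rw [hG]; norm_num) (fun x hx => nineteen h hx) X,
    fun Y => sylow_shape (by rw [hG]; norm_num) (by rw [hG]; norm_num) (fun x hx => seventeen h hx) Y⟩

end Cfsg.Agent.Invol.J3Type
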