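import Cfsg.Agent.Lib.Invol.J3Type.CentY

/-!
# The normalizer of a subgroup of order three and the order formula inside it
-/

set_option autoImplicit false
set_option linter.unusedSectionVars false
set_option linter.style.haveILetI false

namespace Cfsg.Agent.Invol.J3Type

open Cfsg Cfsg.Agent.Invol.HJ

universe u

variable {G : Type u} [Group G] {z : G} {Q : Subgroup G} {y a b n : G}

/-- Elements sending `y` to itself or to its inverse. -/
def normThree (y : G) : Subgroup G where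
  carrier := {g | g * y * g⁻¹ = y ∨ g * y * g⁻¹ = y⁻¹}
  one_mem' := Or.inl (by group)
  mul_mem' := by
    intro g k hg hk
    have e : g * k * y * (g * k)⁻¹ = g * (k * y * k⁻¹) * g⁻¹ := by group
    rcases hk with hk | hk <;> rcases hg with hg | hg
    · exact Or.inl (by rw [e, hk, hg])
    · exact Or.inr (by rw [e, hk, hg])
    · exact Or.inr (by rw [e, hk, ← conj_inv, hg])
    · exact Or.inl (by rw [e, hk, ← conj_inv, hg, inv_inv])
  inv_mem' := by
    intro g hg
    have e : g⁻¹ * (g * y * g⁻¹) * (g⁻¹)⁻¹ = y := by group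
    rcases hg with hg | hg
    · rw [hg] at e; exact Or.inl e
    · rw [hg] at e
      refine Or.inr ?_
      conv_lhs => rw [← inv_inv y]
      rw [← conj_inv, e]

theorem mem_normThree {g : G} : g ∈ normThree y ↔ g * y * g⁻¹ = y ∨ g * y * g⁻¹ = y⁻¹ := Iff.rfl

theorem cent_le_normThree : Subgroup.centralizer ({y} : Set G) ≤ normThree y := fun g hg =>
  Or.inl (by rw [mem_cent_iff.1 hg, mul_inv_cancel_right])

theorem YData.n_mem (d : YData z Q y a b n) : n ∈ normThree y := Or.inr d.ninv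

theorem YData.n_not_mem [Finite G] (d : YData z Q y a b n) : n ∉ Subgroup.centralizer ({y} : Set G) := by
  intro hc
  have h1 := d.ninv
  rw [mem_cent_iff.1 hc, mul_inv_cancel_right] at h1
  have h2 : y ^ 2 = 1 := by rw [pow_two]; nth_rewrite 1 [h1]; exact inv_mul_cancel y
  have := orderOf_dvd_of_pow_eq_one h2
  rw [d.y3] at this
  norm_num at this

/-- The two cosets. -/
theorem YData.split (d : YData z Q y a b n) {g : G} (hg : g ∈ normThree y) :
    g ∈ Subgroup.centralizer ({y} : Set G) ∨ n * g ∈ Subgroup.centralizer ({y} : Set G) := by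
  rcases mem_normThree.1 hg with e | e
  · exact Or.inl (mem_cent_iff.2 (mul_inv_eq_iff_eq_mul.1 e))
  · refine Or.inr (mem_cent_iff.2 (mul_inv_eq_iff_eq_mul.1 (Eq.trans (?_ : n * g * y * (n * g)⁻¹ = n * (g * y * g⁻¹) * n⁻¹) ?_)))
    · group
    · rw [e, ← conj_inv, d.ninv, inv_inv]

theorem YData.card_half [Finite G] (d : YData z Q y a b n) (K : Subgroup G) (hn : n ∈ K)
    (hK : K ≤ normThree y) :
    Nat.card K = 2 * Nat.card (K ⊓ Subgroup.centralizer ({y} : Set G) : Subgroup G) := by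
  let f : Bool × ↥(K ⊓ Subgroup.centralizer ({y} : Set G)) → K := fun p =>
    ⟨(if p.1 then n else 1) * p.2, K.mul_mem (by split_ifs; exacts [hn, K.one_mem]) (Subgroup.mem_inf.1 p.2.2).1⟩
  have hf : Function.Bijective f := by
    constructor
    · rintro ⟨s, c⟩ ⟨s', c'⟩ e
      have e' : (if s then n else 1) * (c : G) = (if s' then n else 1) * c' := congrArg Subtype.val e
      have hss : s = s' := by
        by_contra hne
        have hmem : ∀ {p q : G}, p ∈ Subgroup.centralizer ({y} : Set G) → q ∈ Subgroup.centralizer ({y} : Set G) →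
            n * p = q → False := fun {p q} hp hq he => d.n_not_mem (by
          rw [← mul_inv_cancel_right n p, he]; exact mul_mem hq (inv_mem hp))
        cases s <;> cases s' <;> simp at hne e'
        · exact hmem c'.2.2 c.2.2 e'.symm
        · exact hmem c.2.2 c'.2.2 e'
      subst hss
      exact Prod.ext rfl (Subtype.ext (mul_left_cancel e'))
    · intro k
      rcases d.split (hK k.2) with h1 | h1
      · exact ⟨(false, ⟨k, k.2, h1⟩), Subtype.ext (by simp [f])⟩
      · exact ⟨(true, ⟨n * k, K.mul_mem hn k.2, h1⟩), Subtype.ext (by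
          show n * (n * (k : G)) = k
          rw [← mul_assoc, d.n2, one_mul])⟩
  rw [← Nat.card_congr (Equiv.ofBijective f hf), Nat.card_prod, Nat.card_eq_fintype_card (α := Bool), Fintype.card_bool]

theorem YData.mem_inf_list [Finite G] (d : YData z Q y a b n) (h : Core z Q) {q : G} (hq : q ∈ normThree y)
    (hqY : q ∉ Subgroup.centralizer ({y} : Set G)) (hqz : q * z = z * q) (hq2 : q * q = 1) :
    ∃ (i : ZMod 4) (j : ℕ), q = n * (d.psi h (.r i) * y ^ j) := by
  have h1 := (d.split hq).resolve_left hqY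
  obtain ⟨g, j, hg⟩ := d.exists_psi h (mul_mem d.nC (mem_cent_iff.2 hqz)) (mem_cent_iff.1 h1)
  have hqe : q = n * (d.psi h g * y ^ j) := by rw [← hg, ← mul_assoc, d.n2, one_mul]
  have hyj : n * y ^ j * n⁻¹ = (y ^ j)⁻¹ := by rw [← conj_pow, d.ninv, inv_pow]
  have hni : n⁻¹ = n := inv_eq_of_mul_eq_one_right d.n2
  have hsq : q * q = d.psi h (phi8 g * g) := by
    rw [hqe, map_mul, ← d.conj_psi h g]
    calc n * (d.psi h g * y ^ j) * (n * (d.psi h g * y ^ j))
        = n * d.psi h g * n⁻¹ * ((n * y ^ j * n⁻¹) * (n * n) * (d.psi h g * y ^ j)) := by group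
      _ = n * d.psi h g * n⁻¹ * (d.psi h g * ((y ^ j)⁻¹ * y ^ j)) := by
        rw [hyj, d.n2, mul_one, ← mul_assoc _ (d.psi h g), ← ((d.psi_comm h g).pow_right j).inv_right.eq,
          mul_assoc (d.psi h g)]
      _ = _ := by rw [inv_mul_cancel, mul_one]
  rw [hq2] at hsq
  obtain ⟨i, rfl⟩ := phi8_inverted g (d.psi_inj h (hsq.symm.trans (map_one _).symm))
  exact ⟨i, j, hqe⟩

theorem YData.list_spec [Finite G] (d : YData z Q y a b n) (h : Core z Q) (i : ZMod 4) (j : ℕ) :
    let q := n * (d.psi h (.r i) * y ^ j)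
    q ∈ normThree y ∧ q ∉ Subgroup.centralizer ({y} : Set G) ∧ q * z = z * q ∧ q * q = 1 ∧
      ∃ g ∈ Subgroup.centralizer ({y} : Set G), g * n * g⁻¹ = q := by
  intro q
  have hg0 : d.psi h (.r i) * y ^ j ∈ Subgroup.centralizer ({y} : Set G) :=
    mem_cent_iff.2 ((d.psi_comm h _).mul_left ((Commute.refl y).pow_left j)).eq
  obtain ⟨e, he⟩ := phi8_class i
  obtain ⟨k, hk⟩ : ∃ k : ℕ, y ^ j = (y ^ k)⁻¹ * (y ^ k)⁻¹ := by
    refine ⟨j, ?_⟩
    rw [eq_inv_mul_iff_mul_eq, ← mul_eq_one_iff_eq_inv, ← pow_add, ← pow_add]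
    rw [show j + j + j = 3 * j by ring, pow_mul, d.y_pow_three, one_pow]
  set g := d.psi h e * y ^ k with hgdef
  have hgY : g ∈ Subgroup.centralizer ({y} : Set G) :=
    mem_cent_iff.2 ((d.psi_comm h _).mul_left ((Commute.refl y).pow_left k)).eq
  have hgn : g * n * g⁻¹ = q := by
    have hyk : n * y ^ k * n⁻¹ = (y ^ k)⁻¹ := by rw [← conj_pow, d.ninv, inv_pow]
    have e1 : g * n * g⁻¹ = n * ((n * g * n⁻¹) * (n * n) * g⁻¹) * (n⁻¹ * n⁻¹) * (n * n) := by
      have hni : n⁻¹ = n := inv_eq_of_mul_eq_one_right d.n2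
      rw [hni]
      simp only [← mul_assoc, d.n2, one_mul, mul_assoc _ n n, mul_one]
    have e2 : n * g * n⁻¹ = d.psi h (phi8 e) * (y ^ k)⁻¹ := by
      rw [hgdef, ← conj_mul, d.conj_psi, hyk]
    have hni2 : n⁻¹ * n⁻¹ = 1 := by rw [← mul_inv_rev, d.n2, inv_one]
    rw [e1, e2, d.n2, hni2, mul_one, mul_one, mul_one]
    show _ = n * (d.psi h (.r i) * y ^ j)
    rw [← he, map_mul, map_inv, hk, hgdef]
    congr 1
    have hc : Commute ((y ^ k)⁻¹) ((d.psi h e)⁻¹) := (((d.psi_comm h e).pow_right k).symm).inv_inv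
    rw [mul_inv_rev]
    simp only [mul_assoc]
    congr 1
    rw [← mul_assoc, (hc.mul_left hc).eq]
  refine ⟨mul_mem d.n_mem (cent_le_normThree hg0), fun hc => d.n_not_mem ?_, ?_, ?_, g, hgY, hgn⟩
  · have := mul_mem hc (inv_mem hg0)
    rwa [mul_inv_cancel_right] at this
  · have hz2 : Commute (d.psi h (.r i) * y ^ j) z :=
      (d.z_comm_psi h _).mul_left ((show Commute y z from h.cz d.yC).pow_left j)
    exact ((show Commute n z from h.cz d.nC).mul_left hz2).eq
  · rw [← hgn, conj_mul, d.n2, mul_one, mul_inv_cancel]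

theorem YData.card_invol [Finite G] (d : YData z Q y a b n) (h : Setting z Q) :
    Nat.card {s : G // s ∈ Subgroup.centralizer ({y} : Set G) ∧ orderOf s = 2} * 24 =
      Nat.card (Subgroup.centralizer ({y} : Set G)) := by
  have hzY := d.z_mem h.toCore
  have e1 := S3313.card_class_mul (⟨z, hzY⟩ : Subgroup.centralizer ({y} : Set G))
  rw [card_cent_sub, d.card_inf h.toCore] at e1
  rw [← e1]
  congr 1
  refine (Nat.card_congr (α := {x : Subgroup.centralizer ({y} : Set G) // IsConj ⟨z, hzY⟩ x})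
    (β := {s : G // s ∈ Subgroup.centralizer ({y} : Set G) ∧ orderOf s = 2})
    ⟨fun s => ⟨(s.1 : G), s.1.2, ?_⟩, fun s => ⟨⟨s.1, s.2.1⟩, ?_⟩, fun s => rfl, fun s => rfl⟩).symm
  · obtain ⟨g, hg⟩ := isConj_iff.1 s.2
    rw [← hg]
    push_cast
    rw [orderOf_conj']
    exact h.hz
  · obtain ⟨g, hg, hge⟩ := d.invol_conj_z h (mem_cent_iff.1 s.2.1) s.2.2
    exact (isConj_iff.2 ⟨⟨g, hg⟩, Subtype.ext hge⟩).symm

/-- Every outer involution is conjugate to `n`. -/
theorem YData.outer_conj [Finite G] (d : YData z Q y a b n) (h : Setting z Q)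
    (h1080 : Nat.card (Subgroup.centralizer ({y} : Set G)) = 1080) {q : G} (hq : q ∈ normThree y)
    (hqY : q ∉ Subgroup.centralizer ({y} : Set G)) (hq2 : q * q = 1) :
    ∃ g ∈ Subgroup.centralizer ({y} : Set G), g * n * g⁻¹ = q := by
  set Y := Subgroup.centralizer ({y} : Set G)
  set S : Set G := {s | s ∈ Y ∧ orderOf s = 2}
  have hS : ¬ 2 ∣ Nat.card S := by
    have hh := d.card_invol h
    rw [h1080] at hh
    intro hd
    have : Nat.card S = 45 := Nat.eq_of_mul_eq_mul_right (by norm_num : 0 < 24) (hh.trans (by norm_num))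
    rw [this] at hd
    norm_num at hd
  have hnorm : ∀ s ∈ S, q * s * q⁻¹ ∈ S := fun s hs => by
    refine ⟨?_, by rw [orderOf_conj']; exact hs.2⟩
    refine mem_cent_iff.2 ?_
    rcases mem_normThree.1 (inv_mem hq) with e | e <;> rw [inv_inv] at e
    · calc q * s * q⁻¹ * y = q * (s * (q⁻¹ * y * q)) * q⁻¹ := by group
        _ = q * ((q⁻¹ * y * q) * s) * q⁻¹ := by rw [e, mem_cent_iff.1 hs.1]
        _ = y * (q * s * q⁻¹) := by group
    · calc q * s * q⁻¹ * y = q * (s * (q⁻¹ * y * q)) * q⁻¹ := by group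
        _ = q * ((q⁻¹ * y * q) * s) * q⁻¹ := by
          rw [e, ((show Commute s y from mem_cent_iff.1 hs.1).inv_right).eq]
        _ = y * (q * s * q⁻¹) := by group
  obtain ⟨s, hs, hqs⟩ := exists_comm_conj hq2 S hnorm hS
  obtain ⟨g, hgY, hge⟩ := d.invol_conj_z h (mem_cent_iff.1 hs.1) hs.2
  have hq'M : g * q * g⁻¹ ∈ normThree y :=
    mul_mem (mul_mem (cent_le_normThree hgY) hq) (inv_mem (cent_le_normThree hgY))
  have hq'Y : g * q * g⁻¹ ∉ Y := fun hc => hqY (by
    have := mul_mem (mul_mem (inv_mem hgY) hc) hgY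
    simpa [mul_assoc] using this)
  obtain ⟨i, j, hij⟩ := d.mem_inf_list h.toCore hq'M hq'Y (by rw [← hge]; exact comm_conj hqs)
    (by rw [conj_mul, hq2, mul_one, mul_inv_cancel])
  obtain ⟨-, -, -, -, k, hk, hke⟩ := d.list_spec h.toCore i j
  refine ⟨g⁻¹ * k, mul_mem (inv_mem hgY) hk, ?_⟩
  rw [← hij] at hke
  calc g⁻¹ * k * n * (g⁻¹ * k)⁻¹ = g⁻¹ * (k * n * k⁻¹) * g := by group
    _ = q := by rw [hke]; group

theorem vinv_comm {p q w : G} (hp : p * p = 1) (hq : q * q = 1) (hw2 : w * w = 1) {k : ℕ}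
    (hw : (p * q) ^ k = w) : p * w = w * p ∧ q * w = w * q := by
  have hpi : p⁻¹ = p := inv_eq_of_mul_eq_one_right hp
  have hqi : q⁻¹ = q := inv_eq_of_mul_eq_one_right hq
  have hwi : w⁻¹ = w := inv_eq_of_mul_eq_one_right hw2
  have h1 : p * w * p⁻¹ = w := by
    rw [← hw, ← conj_pow, show p * (p * q) * p⁻¹ = (p * q)⁻¹ by
      rw [mul_inv_rev, hpi, hqi, ← mul_assoc, hp, one_mul], inv_pow, hw, hwi]
  have h2 : q * w * q⁻¹ = w := by
    rw [← hw, ← conj_pow, show q * (p * q) * q⁻¹ = (p * q)⁻¹ by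
      rw [mul_inv_rev, hqi, hpi, mul_assoc, mul_assoc, hq, mul_one], inv_pow, hw, hwi]
  exact ⟨mul_inv_eq_iff_eq_mul.1 h1, mul_inv_eq_iff_eq_mul.1 h2⟩

set_option maxHeartbeats 1600000 in
/-- An element of order five of the centralizer of `y` centralized by the outer involution. -/
theorem YData.exists_five_comm [Finite G] (d : YData z Q y a b n) (h : Setting z Q)
    (h5 : 5 ∣ Nat.card (Subgroup.centralizer ({y} : Set G))) :
    ∃ v : G, orderOf v = 5 ∧ v * y = y * v ∧ v * n = n * v := by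
  classical
  obtain ⟨h1080, -⟩ := d.card_of_five h h5
  set Y := Subgroup.centralizer ({y} : Set G) with hY
  set M := normThree y with hM
  have hc := h.toCore
  have hzY := d.z_mem hc
  have hn1 : n ≠ 1 := fun e => d.nQ (e ▸ Q.one_mem)
  set H := Y ⊓ Subgroup.centralizer ({n} : Set G) with hH
  have hzH : z ∈ H := Subgroup.mem_inf.2 ⟨hzY, mem_cent_iff.2 (h.toCore.cz d.nC).symm⟩
  have hHz : ∀ g ∈ H, g * z = z * g → g = 1 ∨ g = z := by
    intro g hg hgz
    obtain ⟨e, j, rfl⟩ := d.exists_psi hc (mem_cent_iff.2 hgz) (mem_cent_iff.1 (Subgroup.mem_inf.1 hg).1)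
    have hcn := mem_cent_iff.1 (Subgroup.mem_inf.1 hg).2
    have h1 : n * (d.psi hc e * y ^ j) * n⁻¹ = d.psi hc e * y ^ j := by rw [← hcn, mul_inv_cancel_right]
    rw [← conj_mul, d.conj_psi, ← conj_pow, d.ninv, inv_pow] at h1
    obtain ⟨k, hk⟩ : ∃ k : ℕ, (y ^ j)⁻¹ = y ^ k := ⟨2 * j, by
      rw [inv_eq_iff_mul_eq_one, ← pow_add, show j + 2 * j = 3 * j by ring, pow_mul, d.y_pow_three, one_pow]⟩
    rw [hk] at h1
    obtain ⟨he, hyy⟩ := d.psi_y_inj hc h1
    rw [← hk] at hyy
    have hy1 : y ^ j = 1 := by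
      have h2 : (y ^ j) ^ 2 = 1 := by rw [pow_two]; nth_rewrite 1 [← hyy]; exact inv_mul_cancel _
      have h3 : (y ^ j) ^ 3 = 1 := by rw [← pow_mul, mul_comm, pow_mul, d.y_pow_three, one_pow]
      have h4 := pow_gcd_eq_one.2 ⟨h2, h3⟩
      rwa [show Nat.gcd 2 3 = 1 by norm_num, pow_one] at h4
    rw [hy1, mul_one]
    rcases (show ∀ g : DihedralGroup 4, phi8 g = g → g = 1 ∨ g = .r 2 by decide +kernel) e he with r | r
    · exact Or.inl (by rw [r, map_one])
    · exact Or.inr (by rw [r, d.psi_r2])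
  have hHC : Nat.card (H ⊓ Subgroup.centralizer ({z} : Set G) : Subgroup G) ≤ 2 := by
    have hsub : ((H ⊓ Subgroup.centralizer ({z} : Set G) : Subgroup G) : Set G) ⊆ {1, z} := fun g hg =>
      hHz g hg.1 (mem_cent_iff.1 hg.2)
    calc Nat.card (H ⊓ Subgroup.centralizer ({z} : Set G) : Subgroup G)
        ≤ Nat.card ({1, z} : Set G) := Nat.card_mono (Set.toFinite _) hsub
      _ ≤ 2 := by rw [Nat.card_coe_set_eq]; exact (Set.ncard_insert_le _ _).trans (by simp)
  have h4 : ¬ 4 ∣ Nat.card H := not_four_dvd hzH h.hz fun hd => by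
    have := Nat.le_of_dvd Nat.card_pos hd
    omega
  have h2 : 2 ∣ Nat.card H := h.hz ▸ Subgroup.orderOf_dvd_natCard _ hzH
  obtain ⟨O, hOH, hOodd, hHcard, hOmem⟩ := odd_part H h2 h4
  set o := Nat.card O with ho
  have hzO : z ∉ O := fun e => by
    have := (hOmem z hzH).1 e
    rw [h.hz] at this
    exact Nat.not_even_iff_odd.2 this even_two
  have hidx : (O.subgroupOf H).index = 2 := by
    have h1 := (O.subgroupOf H).card_mul_index
    rw [Nat.card_congr (Subgroup.subgroupOfEquivOfLe hOH).toEquiv, hHcard, ← ho] at h1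
    exact Nat.eq_of_mul_eq_mul_left (Nat.card_pos : 0 < o) (h1.trans (mul_comm 2 o))
  have hmul : ∀ p ∈ H, ∀ q ∈ H, p ∉ O → q ∉ O → p * q ∈ O := fun p hp q hq hpO hqO => by
    have := (Subgroup.mul_mem_iff_of_index_two hidx (a := ⟨p, hp⟩) (b := ⟨q, hq⟩)).2
      ⟨fun h' => absurd h' hpO, fun h' => absurd h' hqO⟩
    exact this
  have hzinv : ∀ k ∈ O, z * k * z⁻¹ = k⁻¹ := by
    have hnorm : ∀ k ∈ O, z * k * z⁻¹ ∈ O := fun k hk =>
      (hOmem _ (mul_mem (mul_mem hzH (hOH hk)) (inv_mem hzH))).2 (by rw [orderOf_conj']; exact (hOmem k (hOH hk)).1 hk)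
    have hfix : Nat.card ↥(O ⊓ Subgroup.centralizer ({z} : Set G)) = 1 := by
      rw [Subgroup.card_eq_one, Subgroup.eq_bot_iff_forall]
      intro k hk
      rcases hHz k (hOH hk.1) (mem_cent_iff.1 hk.2) with e | e
      · exact e
      · exact absurd (e ▸ hk.1) hzO
    have hall := SmallCent.card_eq_fixed_mul_inverted O hOodd h.toCore.z_sq hnorm
    rw [hfix, one_mul] at hall
    intro k hk
    have hset : SmallCent.inverted O z = (O : Set G) :=
      Set.eq_of_subset_of_ncard_le (fun i hi => hi.1) (by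
        rw [← Nat.card_coe_set_eq, ← Nat.card_coe_set_eq]; exact hall.le) (Set.toFinite _)
    exact (hset.symm ▸ hk : k ∈ SmallCent.inverted O z).2
  let I := {p : G // p ∈ H ∧ orderOf p = 2}
  have hI : Nat.card I = o := by
    refine (Nat.card_congr (Equiv.ofBijective (fun k : O => (⟨(k : G) * z, H.mul_mem (hOH k.2) hzH, two_iff.2 ⟨?_, ?_⟩⟩ : I))
      ⟨fun k l e => Subtype.ext (mul_right_cancel (congrArg Subtype.val e)), fun p => ?_⟩)).symm
    · calc (k : G) * z * (k * z) = (k : G) * (z * k * z⁻¹) * (z * z) := by group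
        _ = 1 := by rw [hzinv k k.2, h.toCore.z_sq, mul_one, mul_inv_cancel]
    · intro e
      exact hzO (by rw [(inv_eq_of_mul_eq_one_right e).symm]; exact inv_mem k.2)
    · have hpO : (p : G) ∉ O := fun e => by
        have := (hOmem _ p.2.1).1 e
        rw [p.2.2] at this
        exact Nat.not_even_iff_odd.2 this even_two
      refine ⟨⟨(p : G) * z, hmul _ p.2.1 _ hzH hpO hzO⟩, Subtype.ext ?_⟩
      show (p : G) * z * z = p
      rw [mul_assoc, h.toCore.z_sq, mul_one]
  -- the order formula in the normalizer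
  have hzM : z ∈ M := cent_le_normThree hzY
  let zM : M := ⟨z, hzM⟩
  let nM : M := ⟨n, d.n_mem⟩
  have hzMo : orderOf zM = 2 := by rw [Subgroup.orderOf_mk]; exact h.hz
  have hnMo : orderOf nM = 2 := by rw [Subgroup.orderOf_mk]; exact two_iff.2 ⟨d.n2, hn1⟩
  have hconjY : ∀ g ∈ M, ∀ c ∈ Y, g * c * g⁻¹ ∈ Y := by
    intro g hg c hc'
    refine mem_cent_iff.2 ?_
    rcases mem_normThree.1 (inv_mem hg) with e | e <;> rw [inv_inv] at e
    · calc g * c * g⁻¹ * y = g * (c * (g⁻¹ * y * g)) * g⁻¹ := by group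
        _ = g * ((g⁻¹ * y * g) * c) * g⁻¹ := by rw [e, mem_cent_iff.1 hc']
        _ = y * (g * c * g⁻¹) := by group
    · calc g * c * g⁻¹ * y = g * (c * (g⁻¹ * y * g)) * g⁻¹ := by group
        _ = g * ((g⁻¹ * y * g) * c) * g⁻¹ := by
          rw [e, ((show Commute c y from mem_cent_iff.1 hc').inv_right).eq]
        _ = y * (g * c * g⁻¹) := by group
  have hinY : ∀ {p : M}, IsConj zM p → (p : G) ∈ Y ∧ orderOf (p : G) = 2 := by
    intro p hp
    obtain ⟨g, rfl⟩ := isConj_iff.1 hp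
    exact ⟨hconjY g g.2 z hzY, by push_cast; rw [orderOf_conj']; exact h.hz⟩
  have hzconj : ∀ {p : M}, (p : G) ∈ Y → orderOf (p : G) = 2 → IsConj zM p := by
    intro p hp ho2
    obtain ⟨g, hg, hge⟩ := d.invol_conj_z h (mem_cent_iff.1 hp) ho2
    exact (isConj_iff.2 ⟨⟨g, cent_le_normThree hg⟩, Subtype.ext hge⟩).symm
  have houtY : ∀ {p : M}, IsConj nM p → (p : G) ∉ Y ∧ (p : G) * p = 1 := by
    intro p hp
    obtain ⟨g, rfl⟩ := isConj_iff.1 hp
    refine ⟨fun hc' => d.n_not_mem ?_, by push_cast; rw [conj_mul, d.n2, mul_one, mul_inv_cancel]⟩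
    have := hconjY _ (inv_mem g.2) _ hc'
    push_cast at this
    simpa [mul_assoc] using this
  have hnconj : ∀ {p : M}, (p : G) ∉ Y → (p : G) * p = 1 → IsConj nM p := by
    intro p hp hp2
    obtain ⟨g, hg, hge⟩ := d.outer_conj h h1080 p.2 hp hp2
    exact isConj_iff.2 ⟨⟨g, cent_le_normThree hg⟩, Subtype.ext hge⟩
  have hzn : ¬ IsConj zM nM := fun e => d.n_not_mem (hinY e).1
  have hcl : ∀ x : M, orderOf x = 2 → IsConj x zM ∨ IsConj x nM := by
    intro x hx
    rw [← Subgroup.orderOf_coe] at hx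
    by_cases hxY : (x : G) ∈ Y
    · exact Or.inl (hzconj hxY hx).symm
    · exact Or.inr (hnconj hxY (two_iff.1 hx).1).symm
  have hformula := S3313.order_formula zM nM hzMo hnMo hzn hcl
  have hM2160 : Nat.card M = 2160 := by
    rw [d.card_half M d.n_mem le_rfl, inf_of_le_right cent_le_normThree, h1080]
  have hCz : Nat.card (Subgroup.centralizer ({zM} : Set M)) = 48 := by
    rw [card_cent_sub]
    show Nat.card (M ⊓ Subgroup.centralizer ({z} : Set G) : Subgroup G) = 48
    rw [d.card_half _ (Subgroup.mem_inf.2 ⟨d.n_mem, d.nC⟩) inf_le_left]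
    have e1 : M ⊓ Subgroup.centralizer ({z} : Set G) ⊓ Y = Y ⊓ Subgroup.centralizer ({z} : Set G) := by
      apply le_antisymm
      · intro g hg; exact ⟨hg.2, hg.1.2⟩
      · intro g hg; exact ⟨⟨cent_le_normThree hg.1, hg.2⟩, hg.1⟩
    rw [e1, d.card_inf hc]
  have hCn : Nat.card (Subgroup.centralizer ({nM} : Set M)) = 4 * o := by
    rw [card_cent_sub]
    show Nat.card (M ⊓ Subgroup.centralizer ({n} : Set G) : Subgroup G) = 4 * o
    rw [d.card_half _ (Subgroup.mem_inf.2 ⟨d.n_mem, mem_cent_iff.2 rfl⟩) inf_le_left]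
    have e1 : M ⊓ Subgroup.centralizer ({n} : Set G) ⊓ Y = H := by
      apply le_antisymm
      · intro g hg; exact ⟨hg.2, hg.1.2⟩
      · intro g hg; exact ⟨⟨cent_le_normThree hg.1, hg.2⟩, hg.1⟩
    rw [e1, hHcard]; ring
  have hvG : ∀ p : M × M, ((S3313.vinv p : M) : G) =
      ((p.1 : G) * p.2) ^ (orderOf ((p.1 : G) * p.2) / 2) := by
    intro p
    rw [S3313.vinv]
    push_cast
    rw [← Subgroup.orderOf_coe]
    rfl
  -- pairs giving the outer involution
  have hAn : S3313.aCount zM nM nM = o * o := by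
    rw [S3313.aCount, ← hI, ← Nat.card_prod]
    refine Nat.card_congr (Equiv.ofBijective
      (fun p => ((⟨((p : M × M).1 : G), ?_, ?_⟩ : I), (⟨n * ((p : M × M).2 : G), ?_, ?_⟩ : I))) ⟨?_, ?_⟩)
    · obtain ⟨⟨p1, p2⟩, h1, h2', hv⟩ := p
      have hv' := hvG (p1, p2); rw [hv] at hv'
      have hp := hinY h1
      exact Subgroup.mem_inf.2 ⟨hp.1, mem_cent_iff.2
        ((vinv_comm (two_iff.1 hp.2).1 (houtY h2').2 d.n2 hv'.symm).1)⟩
    · exact (hinY p.2.1).2
    · obtain ⟨⟨p1, p2⟩, h1, h2', hv⟩ := p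
      have hv' := hvG (p1, p2); rw [hv] at hv'
      have hp := hinY h1
      have hq := houtY h2'
      exact Subgroup.mem_inf.2 ⟨(d.split p2.2).resolve_left hq.1, mem_cent_iff.2
        ((Commute.refl n).mul_left (vinv_comm (two_iff.1 hp.2).1 hq.2 d.n2 hv'.symm).2).eq⟩
    · obtain ⟨⟨p1, p2⟩, h1, h2', hv⟩ := p
      have hv' := hvG (p1, p2); rw [hv] at hv'
      have hp := hinY h1
      have hq := houtY h2'
      have hcp := (vinv_comm (two_iff.1 hp.2).1 hq.2 d.n2 hv'.symm).2
      refine two_iff.2 ⟨?_, fun e => ?_⟩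
      · calc n * (p2 : G) * (n * p2) = n * ((p2 : G) * n) * p2 := by group
          _ = (n * n) * ((p2 : G) * p2) := by rw [hcp]; group
          _ = 1 := by rw [d.n2, hq.2, one_mul]
      · have e' : (p2 : G) = n := (inv_eq_of_mul_eq_one_right e).symm.trans (inv_eq_of_mul_eq_one_right d.n2)
        have hpn : (p1 : G) * n = n * p1 := (vinv_comm (two_iff.1 hp.2).1 hq.2 d.n2 hv'.symm).1
        have h22 : orderOf ((p1 : G) * n) = 2 := by
          refine two_iff.2 ⟨?_, fun e2 => d.n_not_mem ?_⟩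
          · calc (p1 : G) * n * (p1 * n) = (p1 : G) * (n * p1) * n := by group
              _ = ((p1 : G) * p1) * (n * n) := by rw [← hpn]; group
              _ = 1 := by rw [(two_iff.1 hp.2).1, d.n2, one_mul]
          · rw [(inv_eq_of_mul_eq_one_right e2).symm]; exact inv_mem hp.1
        dsimp only at hv'
        rw [e', h22] at hv'
        norm_num at hv'
        exact (two_iff.1 hp.2).2 (mul_eq_right.1 hv'.symm)
    · intro p q e
      simp only [Prod.mk.injEq, Subtype.mk.injEq] at e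
      exact Subtype.ext (Prod.ext (Subtype.ext (congrArg (fun t : I => (t : G)) e.1))
        (Subtype.ext (mul_left_cancel (congrArg (fun t : I => (t : G)) e.2))))
    · rintro ⟨⟨p, hp, hp2⟩, ⟨q, hq, hq2⟩⟩
      have hpY := (Subgroup.mem_inf.1 hp).1
      have hqY := (Subgroup.mem_inf.1 hq).1
      have hqn := mem_cent_iff.1 (Subgroup.mem_inf.1 hq).2
      have hpn := mem_cent_iff.1 (Subgroup.mem_inf.1 hp).2
      have hnqY : n * q ∉ Y := fun e => d.n_not_mem (by
        have := mul_mem e (inv_mem hqY)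
        rwa [mul_inv_cancel_right] at this)
      have hnq2 : n * q * (n * q) = 1 := by
        calc n * q * (n * q) = n * (q * n) * q := by group
          _ = (n * n) * (q * q) := by rw [hqn]; group
          _ = 1 := by rw [d.n2, (two_iff.1 hq2).1, one_mul]
      refine ⟨⟨(⟨p, cent_le_normThree hpY⟩, ⟨n * q, mul_mem d.n_mem (cent_le_normThree hqY)⟩),
        hzconj hpY hp2, hnconj hnqY hnq2, Subtype.ext ?_⟩, by simp [← mul_assoc, d.n2]⟩
      rw [hvG]
      show (p * (n * q)) ^ (orderOf (p * (n * q)) / 2) = n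
      have hpqO : p * q ∈ O := hmul p hp q hq
        (fun e => by have := (hOmem _ hp).1 e; rw [hp2] at this; exact Nat.not_even_iff_odd.2 this even_two)
        (fun e => by have := (hOmem _ hq).1 e; rw [hq2] at this; exact Nat.not_even_iff_odd.2 this even_two)
      have e1 : p * (n * q) = n * (p * q) := by rw [← mul_assoc, hpn, mul_assoc]
      have hcomm : Commute n (p * q) := (show Commute n p from hpn.symm).mul_right hqn.symm
      have hodd := (hOmem _ (hOH hpqO)).1 hpqO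
      rw [e1, hcomm.orderOf_mul_eq_mul_orderOf_of_coprime
        (by rw [two_iff.2 ⟨d.n2, hn1⟩]; exact Nat.coprime_two_left.2 hodd),
        two_iff.2 ⟨d.n2, hn1⟩, Nat.mul_div_cancel_left _ two_pos, hcomm.mul_pow, pow_orderOf_eq_one, mul_one]
      obtain ⟨m, hm⟩ := hodd
      rw [hm, pow_succ, pow_mul, pow_two n, d.n2, one_pow, one_mul]
  -- pairs giving the inner involution
  have hAz : S3313.aCount zM nM zM = 48 := by
    have h48 : Nat.card (ZMod 4 × ZMod 4 × Fin 3) = 48 := by simp [Nat.card_eq_fintype_card]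
    rw [S3313.aCount, ← h48]
    have hsrY : ∀ k, d.psi hc (.sr k) ∈ Y := fun k => mem_cent_iff.2 (d.psi_comm hc _).eq
    have hsro : ∀ k, orderOf (d.psi hc (.sr k)) = 2 := fun k => by
      rw [orderOf_injective _ (d.psi_inj hc), DihedralGroup.orderOf_sr]
    have hls := fun (i : ZMod 4) (j : ℕ) => d.list_spec hc i j
    let f : ZMod 4 × ZMod 4 × Fin 3 → {p : M × M // IsConj zM p.1 ∧ IsConj nM p.2 ∧ S3313.vinv p = zM} := fun t =>
      ⟨(⟨d.psi hc (.sr t.1), cent_le_normThree (hsrY _)⟩,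
        ⟨n * (d.psi hc (.r t.2.1) * y ^ (t.2.2 : ℕ)), (hls _ _).1⟩),
        hzconj (hsrY _) (hsro _), hnconj (hls _ _).2.1 (hls _ _).2.2.2.1, Subtype.ext (by
          rw [hvG]
          show ((d.psi hc (.sr t.1)) * (n * (d.psi hc (.r t.2.1) * y ^ (t.2.2 : ℕ)))) ^ _ = z
          obtain ⟨e, he⟩ : ∃ e, e = phi8 (.sr t.1) * DihedralGroup.r t.2.1 := ⟨_, rfl⟩
          set yj := y ^ (t.2.2 : ℕ)
          have e1 : d.psi hc (.sr t.1) * (n * (d.psi hc (.r t.2.1) * yj)) = n * (d.psi hc e * yj) := by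
            have hni : n⁻¹ = n := inv_eq_of_mul_eq_one_right d.n2
            rw [he, map_mul, ← d.conj_psi]
            simp only [hni, ← mul_assoc]
            rw [d.n2, one_mul]
          rw [e1]
          have hyj : n * yj * n⁻¹ = yj⁻¹ := by rw [← conj_pow, d.ninv, inv_pow]
          have hsq : n * (d.psi hc e * yj) * (n * (d.psi hc e * yj)) = d.psi hc (phi8 e * e) := by
            rw [map_mul, ← d.conj_psi hc e]
            calc n * (d.psi hc e * yj) * (n * (d.psi hc e * yj))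
                = n * d.psi hc e * n⁻¹ * ((n * yj * n⁻¹) * (n * n) * (d.psi hc e * yj)) := by group
              _ = n * d.psi hc e * n⁻¹ * (d.psi hc e * (yj⁻¹ * yj)) := by
                rw [hyj, d.n2, mul_one, ← mul_assoc _ (d.psi hc e),
                  ← ((d.psi_comm hc e).pow_right _).inv_right.eq, mul_assoc (d.psi hc e)]
              _ = _ := by rw [inv_mul_cancel, mul_one]
          set u := n * (d.psi hc e * yj)
          have hu4 : u ^ 4 = z := by
            rw [show 4 = 2 * 2 from rfl, pow_mul, pow_two u, hsq, ← map_pow]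
            rcases phi8_odd t.1 t.2.1 with r | r <;> rw [← he] at r <;> rw [r]
            · rw [d8_four.1, d.psi_r2]
            · rw [d8_four.2, d.psi_r2]
          have hu8 : orderOf u = 8 := by
            haveI := Fact.mk Nat.prime_two
            refine orderOf_eq_prime_pow (p := 2) (n := 2) ?_ ?_
            · rw [show 2 ^ 2 = 4 from rfl, hu4]; exact hc.ne_one
            · rw [show 2 ^ (2 + 1) = 4 * 2 from rfl, pow_mul, hu4, pow_two, hc.z_sq]
          rw [hu8]; exact hu4)⟩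
    refine (Nat.card_congr (Equiv.ofBijective f ⟨?_, ?_⟩)).symm
    · rintro ⟨k, i, j⟩ ⟨k', i', j'⟩ e
      have e1 : d.psi hc (.sr k) = d.psi hc (.sr k') := congrArg (fun p => ((p.1.1 : M) : G)) e
      have e2 : n * (d.psi hc (.r i) * y ^ (j : ℕ)) = n * (d.psi hc (.r i') * y ^ (j' : ℕ)) :=
        congrArg (fun p => ((p.1.2 : M) : G)) e
      obtain ⟨e3, e4⟩ := d.psi_y_inj hc (mul_left_cancel e2)
      refine Prod.ext (DihedralGroup.sr.inj (d.psi_inj hc e1)) (Prod.ext (DihedralGroup.r.inj e3) (Fin.ext ?_))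
      exact pow_injOn_Iio_orderOf (by rw [Set.mem_Iio, d.y3]; exact j.2)
        (by rw [Set.mem_Iio, d.y3]; exact j'.2) e4
    · rintro ⟨⟨p, q⟩, h1, h2', hv⟩
      have hv' := hvG (p, q); rw [hv] at hv'
      have hp := hinY h1
      have hq := houtY h2'
      obtain ⟨hpz, hqz⟩ := vinv_comm (two_iff.1 hp.2).1 hq.2 hc.z_sq hv'.symm
      obtain ⟨i, j, hij⟩ := d.mem_inf_list hc q.2 hq.1 hqz hq.2
      obtain ⟨g, k, hgk⟩ := d.exists_psi hc (mem_cent_iff.2 hpz) (mem_cent_iff.1 hp.1)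
      have hgg : d.psi hc (g * g) * y ^ (k + k) = 1 := by
        rw [map_mul, pow_add, ← (two_iff.1 hp.2).1, hgk]
        exact (((d.psi_comm hc g).pow_right k).symm.mul_mul_mul_comm _ _).symm
      obtain ⟨e1, e2⟩ := d.psi_y_inj hc (g := g * g) (g' := 1) (j := k + k) (j' := 0)
        (by rw [hgg, map_one, pow_zero, one_mul])
      have hk1 : y ^ k = 1 := by
        have h3 : (y ^ k) ^ 3 = 1 := by rw [← pow_mul, mul_comm, pow_mul, d.y_pow_three, one_pow]
        have h2 : (y ^ k) ^ 2 = 1 := by rw [pow_two, ← pow_add, e2, pow_zero]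
        have h4 := pow_gcd_eq_one.2 ⟨h2, h3⟩
        rwa [show Nat.gcd 2 3 = 1 by norm_num, pow_one] at h4
      rw [hk1, mul_one] at hgk
      have hg1 : g ≠ 1 := fun r => (two_iff.1 hp.2).2 (by rw [hgk, r, map_one])
      have hgz : g ≠ .r 2 := by
        intro r
        rw [r, d.psi_r2] at hgk
        have h22 : orderOf (z * (q : G)) = 2 := by
          refine two_iff.2 ⟨?_, fun e3 => hq.1 ?_⟩
          · calc z * (q : G) * (z * q) = z * ((q : G) * z) * q := by group
              _ = (z * z) * ((q : G) * q) := by rw [hqz]; group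
              _ = 1 := by rw [hc.z_sq, hq.2, one_mul]
          · rw [(inv_eq_of_mul_eq_one_right e3).symm]; exact inv_mem hzY
        dsimp only at hv'
        rw [hgk, h22] at hv'
        norm_num at hv'
        exact hq.1 ((mul_eq_left.1 hv'.symm : (q : G) = 1) ▸ one_mem Y)
      obtain ⟨k', rfl⟩ := D8Order.d8_involution g e1 hg1 hgz
      refine ⟨(k', i, ⟨j % 3, Nat.mod_lt _ (by norm_num)⟩), Subtype.ext (Prod.ext (Subtype.ext hgk.symm) (Subtype.ext ?_))⟩
      show n * (d.psi hc (.r i) * y ^ (j % 3)) = q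
      rw [hij, ← d.y3, pow_mod_orderOf]
  rw [hM2160, hCn, hCz, hAz, hAn] at hformula
  have ho5 : o = 5 := by nlinarith
  haveI : Fact (Nat.Prime 5) := ⟨by norm_num⟩
  obtain ⟨v, hv⟩ := exists_prime_orderOf_dvd_card' (G := O) 5 (by rw [← ho, ho5])
  exact ⟨v, by rwa [Subgroup.orderOf_coe], mem_cent_iff.1 (hOH v.2).1, mem_cent_iff.1 (hOH v.2).2⟩

end Cfsg.Agent.Invol.J3Type
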