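import Cfsg.Agent.Lib.Invol.J3Type.Sixteen
import Cfsg.Agent.Lib.Invol.J3Type.Outer

/-!
# The centralizer of an element of order five
-/

set_option autoImplicit false
set_option linter.unusedSectionVars false
set_option linter.style.haveILetI false

namespace Cfsg.Agent.Invol.J3Type

open Cfsg Cfsg.Agent.Invol.HJ

universe u

variable {G : Type u} [Group G] {z : G} {Q : Subgroup G}

/-- No element of order fifteen in the centralizer of the involution. -/
theorem WData.no_fifteen [Finite G] {w n : G} (W : WData z Q w n) (h : Core z Q) {v t : G}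
    (hv : v ∈ Subgroup.centralizer ({z} : Set G)) (ht : t ∈ Subgroup.centralizer ({z} : Set G))
    (hv5 : orderOf v = 5) (ht3 : orderOf t = 3) (hvt : v * t = t * v) : False := by
  obtain ⟨c, hc, k, hk⟩ := W.conj_pow v hv hv5
  have hk' : w ^ k = c * v * c⁻¹ := hk
  obtain ⟨j, hj⟩ : ∃ j : ℤ, (w ^ k) ^ j = w := by
    haveI : Fact (Nat.Prime 5) := ⟨by norm_num⟩
    have hne : (k : ZMod 5) ≠ 0 := fun e0 => by
      have : w ^ k = w ^ (0 : ℤ) := (zpow_five W.w5).2 (by rw [e0, Int.cast_zero])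
      rw [hk', zpow_zero, conj_eq_one_iff] at this
      rw [this, orderOf_one] at hv5
      norm_num at hv5
    refine ⟨(((k : ZMod 5)⁻¹).val : ℤ), ?_⟩
    rw [← zpow_mul]
    conv_rhs => rw [← zpow_one w]
    rw [zpow_five W.w5]
    push_cast
    rw [ZMod.natCast_zmod_val, mul_inv_cancel₀ hne]
  have hcw : Commute (c * t * c⁻¹) w := by
    rw [← hj, hk']
    exact (show Commute (c * t * c⁻¹) (c * v * c⁻¹) from comm_conj hvt.symm).zpow_right j
  obtain ⟨i, e | e⟩ := W.span _ (mul_mem (mul_mem hc ht) (inv_mem hc)) hcw.eq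
  all_goals
    have h10 : (c * t * c⁻¹) ^ 10 = 1 := by
      have hw5 : w ^ 5 = 1 := W.w5 ▸ pow_orderOf_eq_one w
      rw [e]
      first
        | (rw [← pow_mul, mul_comm, pow_mul, show 10 = 5 * 2 from rfl, pow_mul, hw5, one_pow, one_pow])
        | (rw [((show Commute z w from (h.cz W.wC).symm).pow_right i).mul_pow, ← pow_mul w, mul_comm i 10,
            pow_mul w, show 10 = 5 * 2 from rfl, pow_mul w, hw5, one_pow, one_pow, mul_one,
            mul_comm 5 2, pow_mul, pow_two, h.z_sq, one_pow])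
    have := orderOf_dvd_of_pow_eq_one h10
    rw [orderOf_conj', ht3] at this
    norm_num at this

/-- The odd part of the centralizer of an element of order five. -/
structure OData (z w : G) (O : Subgroup G) : Prop where
  le : O ≤ Subgroup.centralizer ({w} : Set G)
  odd : Odd (Nat.card O)
  card : Nat.card (Subgroup.centralizer ({w} : Set G)) = 2 * Nat.card O
  mem : ∀ g ∈ Subgroup.centralizer ({w} : Set G), (g ∈ O ↔ Odd (orderOf g))
  fix : Nat.card ↥(O ⊓ Subgroup.centralizer ({z} : Set G)) = 5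

theorem WData.odata [Finite G] {w n : G} (W : WData z Q w n) (h : Core z Q) : ∃ O, OData z w O := by
  have hzW : z ∈ Subgroup.centralizer ({w} : Set G) := mem_cent_iff.2 (h.cz W.wC).symm
  have h4 : ¬ 4 ∣ Nat.card (Subgroup.centralizer ({w} : Set G)) :=
    not_four_dvd hzW h.hz (by rw [W.card]; norm_num)
  obtain ⟨O, hle, hodd, hcard, hmem⟩ := odd_part _ (h.hz ▸ Subgroup.orderOf_dvd_natCard _ hzW) h4
  refine ⟨O, hle, hodd, hcard, hmem, ?_⟩
  have hd : Nat.card ↥(O ⊓ Subgroup.centralizer ({z} : Set G)) ∣ 10 :=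
    W.card ▸ Subgroup.card_dvd_of_le (inf_le_inf_right _ hle)
  have hd5 : 5 ∣ Nat.card ↥(O ⊓ Subgroup.centralizer ({z} : Set G)) := by
    refine W.w5 ▸ Subgroup.orderOf_dvd_natCard _ (Subgroup.mem_inf.2 ⟨?_, W.wC⟩)
    exact (hmem w (mem_cent_iff.2 rfl)).2 (by rw [W.w5]; exact ⟨2, rfl⟩)
  have ho : Odd (Nat.card ↥(O ⊓ Subgroup.centralizer ({z} : Set G))) :=
    hodd.of_dvd_nat (Subgroup.card_dvd_of_le inf_le_left)
  obtain ⟨m, hm⟩ := hd5
  rw [hm] at hd ho ⊢
  have hm2 : m ∣ 2 := Nat.dvd_of_mul_dvd_mul_left (by norm_num : 0 < 5) hd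
  rcases (Nat.dvd_prime Nat.prime_two).1 hm2 with rfl | rfl
  · rfl
  · exact absurd ho (by decide)

theorem OData.norm [Finite G] {w : G} {O : Subgroup G} (D : OData z w O) {g : G}
    (hg : g * w * g⁻¹ = w ∨ g * w * g⁻¹ = w⁻¹) : ∀ x ∈ O, g * x * g⁻¹ ∈ O := by
  intro x hx
  have hxw : Commute x w := mem_cent_iff.1 (D.le hx)
  have hcent : g * x * g⁻¹ ∈ Subgroup.centralizer ({w} : Set G) := by
    refine mem_cent_iff.2 ?_
    rcases hg with e | e
    · nth_rewrite 1 [← e]
      nth_rewrite 2 [← e]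
      exact comm_conj hxw.eq
    · have h1 : Commute (g * x * g⁻¹) w⁻¹ := by rw [← e]; exact comm_conj hxw.eq
      simpa using h1.inv_right.eq
  exact (D.mem _ hcent).2 (by rw [orderOf_conj']; exact (D.mem x (D.le hx)).1 hx)

/-- The fixed points of an involution inverting `w`. -/
theorem OData.small [Finite G] {w n m : G} {O : Subgroup G} (D : OData z w O) (h : Setting z Q)
    (W : WData z Q w n) (hm : orderOf m = 2) :
    Nat.card ↥(O ⊓ Subgroup.centralizer ({m} : Set G)) = 1 ∨ Nat.card ↥(O ⊓ Subgroup.centralizer ({m} : Set G)) = 3 ∨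
      Nat.card ↥(O ⊓ Subgroup.centralizer ({m} : Set G)) = 5 := by
  set S := O ⊓ Subgroup.centralizer ({m} : Set G)
  obtain ⟨g, hg⟩ := isConj_iff.1 (h.one m hm)
  have hd : Nat.card S ∣ 1920 := by
    have := Subgroup.card_dvd_of_le (inf_le_right : S ≤ Subgroup.centralizer ({m} : Set G))
    rwa [← card_cent_conj g, hg, h.toCore.card_C] at this
  have ho : Odd (Nat.card S) := D.odd.of_dvd_nat (Subgroup.card_dvd_of_le inf_le_left)
  have h15 : Nat.card S ∣ 15 := by
    have hcop : Nat.Coprime (Nat.card S) 128 := by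
      rw [show 128 = 2 ^ 7 by norm_num]; exact Nat.Coprime.pow_right _ (Nat.coprime_two_right.2 ho)
    exact hcop.dvd_of_dvd_mul_left (by simpa using hd)
  have hne : Nat.card S ≠ 15 := by
    intro e
    haveI : Fact (Nat.Prime 5) := ⟨by norm_num⟩
    haveI : Fact (Nat.Prime 3) := ⟨by norm_num⟩
    obtain ⟨v, hv⟩ := exists_prime_orderOf_dvd_card' (G := S) 5 (by rw [e]; norm_num)
    obtain ⟨t, ht⟩ := exists_prime_orderOf_dvd_card' (G := S) 3 (by rw [e]; norm_num)
    have hi : (Subgroup.zpowers v).index = 3 := by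
      have h1 := (Subgroup.zpowers v).card_mul_index
      rw [Nat.card_zpowers, hv, e] at h1
      omega
    haveI : (Subgroup.zpowers v).Normal := Subgroup.normal_of_index_eq_minFac_card (by rw [hi, e]; norm_num)
    rw [← Subgroup.orderOf_coe] at hv ht
    have hn : (t : G) * v * (t : G)⁻¹ ∈ Subgroup.zpowers (v : G) := by
      obtain ⟨k, hk⟩ := Subgroup.Normal.conj_mem (inferInstance : (Subgroup.zpowers v).Normal) v (Subgroup.mem_zpowers v) t
      exact ⟨k, by simpa using congrArg Subtype.val hk⟩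
    have htv := conj_pow_three hv (ht ▸ pow_orderOf_eq_one (t : G)) hn
    refine W.no_fifteen h.toCore (v := g * v * g⁻¹) (t := g * t * g⁻¹) ?_ ?_ (by rw [orderOf_conj', hv])
      (by rw [orderOf_conj', ht]) (comm_conj htv.symm)
    · refine mem_cent_iff.2 ?_
      rw [← hg]
      exact comm_conj (mem_cent_iff.1 (Subgroup.mem_inf.1 v.2).2)
    · refine mem_cent_iff.2 ?_
      rw [← hg]
      exact comm_conj (mem_cent_iff.1 (Subgroup.mem_inf.1 t.2).2)
  have hle := Nat.le_of_dvd (by norm_num) h15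
  set cS := Nat.card S
  interval_cases cS <;> omega

/-- A triple: an element of order three commuting with one of order five and with an involution. -/
theorem YData.five_dvd [Finite G] {y a b n : G} (d : YData z Q y a b n) (h : Setting z Q) {v t i : G}
    (hv : orderOf v = 5) (ht : orderOf t = 3) (hi : orderOf i = 2) (hvt : v * t = t * v) (hti : t * i = i * t) :
    5 ∣ Nat.card (Subgroup.centralizer ({y} : Set G)) ∧ ∃ g : G, g * t * g⁻¹ = y := by
  obtain ⟨c, hc⟩ := isConj_iff.1 (h.one i hi)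
  obtain ⟨e, he, hey⟩ := d.conj3 (c * t * c⁻¹) (mem_cent_iff.2 (by rw [← hc]; exact comm_conj hti))
    (by rw [orderOf_conj', ht])
  have hg : e * c * t * (e * c)⁻¹ = y := Eq.trans (by group) hey
  refine ⟨?_, e * c, hg⟩
  have hmem : e * c * v * (e * c)⁻¹ ∈ Subgroup.centralizer ({y} : Set G) :=
    mem_cent_iff.2 (by rw [← hg]; exact comm_conj hvt)
  have := Subgroup.orderOf_dvd_natCard _ hmem
  rwa [orderOf_conj', hv] at this

/-- The normalizer of a subgroup of order five. -/
structure NData (z : G) (Q : Subgroup G) (w k m : G) : Prop where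
  w5 : orderOf w = 5
  k3 : orderOf k = 3
  wz : w * z = z * w
  wk : w * k = k * w
  zk : z * k * z⁻¹ = k⁻¹
  mC : m ∈ Subgroup.centralizer ({z} : Set G)
  m2 : m * m = 1
  m1 : m ≠ 1
  minv : m * w * m⁻¹ = w⁻¹
  mkc : m * k = k * m
  card : Nat.card (Subgroup.centralizer ({w} : Set G)) = 30
  not_sq : ∀ g : G, g * w * g⁻¹ ≠ w * w
  k27 : 27 ∣ Nat.card G
  five : 5 ∣ Nat.card G ∧ ¬ 25 ∣ Nat.card G
  conj5 : ∀ v : G, orderOf v = 5 → ∃ g : G, g * v * g⁻¹ ∈ Subgroup.zpowers w
  cent_k : Nat.card (Subgroup.centralizer ({k} : Set G)) = 1080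

theorem exists_ndata [Finite G] [IsSimpleGroup G] (h : Setting z Q) : ∃ w k m, NData z Q w k m := by
  classical
  haveI : Fact (Nat.Prime 5) := ⟨by norm_num⟩
  haveI : Fact (Nat.Prime 3) := ⟨by norm_num⟩
  have hc := h.toCore
  obtain ⟨w, n0, W⟩ := exists_five_data h
  obtain ⟨y, a, b, n, d⟩ := exists_three_data h
  obtain ⟨O, D⟩ := W.odata hc
  have hwW : w ∈ Subgroup.centralizer ({w} : Set G) := mem_cent_iff.2 rfl
  have hzwz : z * w * z⁻¹ = w := by rw [← hc.cz W.wC, mul_inv_cancel_right]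
  have hnz : ∀ {m}, m ∈ Subgroup.centralizer ({z} : Set G) → m * w * m⁻¹ = w⁻¹ → m * m = 1 → m ≠ 1 →
      Nat.card O = 5 * Nat.card ↥(O ⊓ Subgroup.centralizer ({m} : Set G)) *
        Nat.card ↥(O ⊓ Subgroup.centralizer ({z * m} : Set G)) := by
    intro m hmC hminv hm2 hm1
    have hf := SmallCent.card_four_fixed O D.odd hc.z_sq hm2 (hc.cz hmC).symm (D.norm (Or.inl hzwz)) (D.norm (Or.inr hminv))
    rw [D.fix] at hf
    have hone : Nat.card ↥(O ⊓ Subgroup.centralizer ({z} : Set G) ⊓ Subgroup.centralizer ({m} : Set G)) = 1 := by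
      rw [Subgroup.card_eq_one, Subgroup.eq_bot_iff_forall]
      intro g hg
      obtain ⟨hg1, hgm⟩ := Subgroup.mem_inf.1 hg
      have hO : O ⊓ Subgroup.centralizer ({z} : Set G) = Subgroup.zpowers w := by
        refine (Subgroup.eq_of_le_of_card_ge (Subgroup.zpowers_le.2 (Subgroup.mem_inf.2
          ⟨(D.mem w hwW).2 (by rw [W.w5]; exact ⟨2, rfl⟩), W.wC⟩)) ?_).symm
        rw [D.fix, Nat.card_zpowers, W.w5]
      rw [hO] at hg1
      obtain ⟨i, rfl⟩ := hg1
      have e1 : m * w ^ i * m⁻¹ = w ^ i := by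
        rw [show m * w ^ i = w ^ i * m from (mem_cent_iff.1 hgm).symm, mul_inv_cancel_right]
      rw [← conj_zpow, hminv, inv_zpow] at e1
      have h2 : (w ^ i) ^ 2 = 1 := by rw [pow_two]; nth_rewrite 1 [← e1]; exact inv_mul_cancel _
      have h5 : (w ^ i) ^ 5 = 1 := by
        rw [← zpow_natCast, ← zpow_mul, mul_comm, zpow_mul, zpow_natCast, (W.w5 ▸ pow_orderOf_eq_one w : w ^ 5 = 1), one_zpow]
      have := pow_gcd_eq_one.2 ⟨h2, h5⟩
      simpa using this
    rw [hone, one_pow, mul_one] at hf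
    exact hf
  have hn1 : n0 ≠ 1 := fun e => W.nQ (e ▸ Q.one_mem)
  set n1 := z * n0 with hn1def
  have hn1C : n1 ∈ Subgroup.centralizer ({z} : Set G) := mul_mem hc.z_mem_C W.nC
  have hn12 : n1 * n1 = 1 := by
    rw [hn1def, show z * n0 * (z * n0) = z * (n0 * z) * n0 by group, hc.cz W.nC,
      show z * (z * n0) * n0 = (z * z) * (n0 * n0) by group, hc.z_sq, W.n2, one_mul]
  have hn11 : n1 ≠ 1 := fun e => W.nQ (by
    rw [show n0 = z⁻¹ * n1 by rw [hn1def, inv_mul_cancel_left], e, mul_one]; exact inv_mem h.mem_z)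
  have hn1inv : n1 * w * n1⁻¹ = w⁻¹ := by
    calc n1 * w * n1⁻¹ = z * (n0 * w * n0⁻¹) * z⁻¹ := by rw [hn1def]; group
      _ = w⁻¹ := by rw [W.ninv, ← conj_inv, hzwz]
  -- three divides the odd part
  have hthree : ∀ t, orderOf t = 3 → t * w = w * t → 3 ∣ Nat.card O := fun t ht htw =>
    ht ▸ Subgroup.orderOf_dvd_natCard _ ((D.mem t (mem_cent_iff.2 htw)).2 (by rw [ht]; exact ⟨1, rfl⟩))
  have hpick : ∀ {m}, Nat.card ↥(O ⊓ Subgroup.centralizer ({m} : Set G)) = 3 → orderOf m = 2 →
      ∃ t, t ∈ O ∧ orderOf t = 3 ∧ t * m = m * t ∧ 5 ∣ Nat.card (Subgroup.centralizer ({y} : Set G)) ∧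
        ∃ g : G, g * t * g⁻¹ = y := by
    intro m hm hmo
    obtain ⟨t, ht⟩ := exists_prime_orderOf_dvd_card' (G := ↥(O ⊓ Subgroup.centralizer ({m} : Set G))) 3
      (dvd_of_eq hm.symm)
    rw [← Subgroup.orderOf_coe] at ht
    obtain ⟨h1, h2⟩ := Subgroup.mem_inf.1 t.2
    obtain ⟨h3, h4⟩ := d.five_dvd h W.w5 ht hmo (mem_cent_iff.1 (D.le h1)).symm (mem_cent_iff.1 h2)
    exact ⟨t, h1, ht, mem_cent_iff.1 h2, h3, h4⟩
  have hchoose : 3 ∣ Nat.card O → ∃ m, m ∈ Subgroup.centralizer ({z} : Set G) ∧ m * w * m⁻¹ = w⁻¹ ∧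
      m * m = 1 ∧ m ≠ 1 ∧ Nat.card ↥(O ⊓ Subgroup.centralizer ({m} : Set G)) = 3 := by
    intro h3
    have hA := D.small h W (two_iff.2 ⟨W.n2, hn1⟩)
    have hB := D.small h W (two_iff.2 ⟨hn12, hn11⟩)
    have hK := hnz W.nC W.ninv W.n2 hn1
    rw [hK] at h3
    rcases hA with e | e | e
    · rcases hB with f | f | f
      · rw [e, f] at h3; norm_num at h3
      · exact ⟨n1, hn1C, hn1inv, hn12, hn11, f⟩
      · rw [e, f] at h3; norm_num at h3
    · exact ⟨n0, W.nC, W.ninv, W.n2, hn1, e⟩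
    · rcases hB with f | f | f
      · rw [e, f] at h3; norm_num at h3
      · exact ⟨n1, hn1C, hn1inv, hn12, hn11, f⟩
      · rw [e, f] at h3; norm_num at h3
  have h5y : 5 ∣ Nat.card (Subgroup.centralizer ({y} : Set G)) := by
    rcases five_or_three h d W with h5 | ⟨t, ht, htw⟩
    · exact h5
    · obtain ⟨m, -, -, hm2, hm1, hm3⟩ := hchoose (hthree t ht htw)
      obtain ⟨-, -, -, -, h5, -⟩ := hpick hm3 (two_iff.2 ⟨hm2, hm1⟩)
      exact h5
  -- an element of order three centralizing `w`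
  obtain ⟨v, hv5, hvy, hvn⟩ := d.exists_five_comm h h5y
  obtain ⟨c, hcn⟩ := isConj_iff.1 (h.one n (two_iff.2 ⟨d.n2, fun e => d.nQ (e ▸ Q.one_mem)⟩))
  obtain ⟨e, he, i, hi⟩ := W.conj_pow (c * v * c⁻¹) (mem_cent_iff.2 (by rw [← hcn]; exact comm_conj hvn))
    (by rw [orderOf_conj', hv5])
  have hi' : w ^ i = e * (c * v * c⁻¹) * e⁻¹ := hi
  obtain ⟨j, hj⟩ : ∃ j : ℤ, (w ^ i) ^ j = w := by
    have hne : (i : ZMod 5) ≠ 0 := fun e0 => by
      have : w ^ i = w ^ (0 : ℤ) := (zpow_five W.w5).2 (by rw [e0, Int.cast_zero])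
      rw [hi', zpow_zero, conj_eq_one_iff, conj_eq_one_iff] at this
      rw [this, orderOf_one] at hv5
      norm_num at hv5
    refine ⟨(((i : ZMod 5)⁻¹).val : ℤ), ?_⟩
    rw [← zpow_mul]
    conv_rhs => rw [← zpow_one w]
    rw [zpow_five W.w5]
    push_cast
    rw [ZMod.natCast_zmod_val, mul_inv_cancel₀ hne]
  have htw : (e * (c * y * c⁻¹) * e⁻¹) * w = w * (e * (c * y * c⁻¹) * e⁻¹) := by
    rw [← hj, hi']
    exact ((show Commute (e * (c * y * c⁻¹) * e⁻¹) (e * (c * v * c⁻¹) * e⁻¹) from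
      comm_conj (comm_conj hvy.symm)).zpow_right j).eq
  obtain ⟨m, hmC, hminv, hm2, hm1, hm3⟩ := hchoose (hthree _ (by rw [orderOf_conj', orderOf_conj', d.y3]) htw)
  obtain ⟨k, hkO, hk3, hkm, -, g, hgk⟩ := hpick hm3 (two_iff.2 ⟨hm2, hm1⟩)
  have hkw : k * w = w * k := mem_cent_iff.1 (D.le hkO)
  obtain ⟨h1080, -⟩ := d.card_of_five h h5y
  have hck : Nat.card (Subgroup.centralizer ({k} : Set G)) = 1080 := by rw [← card_cent_conj g, hgk, h1080]
  have hzm : orderOf (z * m) = 2 := by
    refine two_iff.2 ⟨?_, fun e1 => ?_⟩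
    · rw [show z * m * (z * m) = z * (m * z) * m by group, hc.cz hmC,
        show z * (z * m) * m = (z * z) * (m * m) by group, hc.z_sq, hm2, one_mul]
    · have hmz : m = z := (inv_eq_of_mul_eq_one_right e1).symm.trans (inv_eq_of_mul_eq_one_right hc.z_sq)
      rw [hmz, ← hc.cz W.wC, mul_inv_cancel_right] at hminv
      have h2 : w ^ 2 = 1 := by rw [pow_two]; nth_rewrite 1 [hminv]; exact inv_mul_cancel w
      have h3 := orderOf_dvd_of_pow_eq_one h2
      rw [W.w5] at h3
      norm_num at h3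
  have hK := hnz hmC hminv hm2 hm1
  rw [hm3] at hK
  have hO15 : Nat.card O = 15 := by
    rcases D.small h W hzm with e | e | e <;> rw [e] at hK
    · rw [hK]
    · -- nine
      exfalso
      obtain ⟨t, htO, ht3, htm, -, -⟩ := hpick e hzm
      have htk : t * k = k * t := by
        obtain ⟨T, hT⟩ := (IsPGroup.of_card (n := 1) (p := 3) (by rw [Nat.card_zpowers, Subgroup.orderOf_mk, ht3, pow_one]) :
          IsPGroup 3 (Subgroup.zpowers (⟨t, htO⟩ : O))).exists_le_sylow
        obtain ⟨T', hT'⟩ := (IsPGroup.of_card (n := 1) (p := 3) (by rw [Nat.card_zpowers, Subgroup.orderOf_mk, hk3, pow_one]) :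
          IsPGroup 3 (Subgroup.zpowers (⟨k, hkO⟩ : O))).exists_le_sylow
        have hT9 : Nat.card (T : Subgroup O) = 3 ^ 2 := by
          rw [T.card_eq_multiplicity, hK]
          have e1 : (5 * 3 * 3 : ℕ).factorization 3 = 2 := by
            rw [show (5 * 3 * 3 : ℕ) = 3 ^ 2 * 5 by norm_num,
              Nat.factorization_mul (by norm_num) (by norm_num), Finsupp.add_apply,
              (show Nat.Prime 3 by norm_num).factorization_pow, Finsupp.single_eq_same,
              Nat.factorization_eq_zero_of_not_dvd (by norm_num)]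
          rw [e1]
        have hn3 : Nat.card (Sylow 3 O) = 1 := by
          have h1 : Nat.card (Sylow 3 O) ∣ 5 := by
            refine (Sylow.card_dvd_index T).trans (dvd_of_eq ?_)
            have := (T : Subgroup O).card_mul_index
            rw [hT9, hK] at this
            omega
          have h2 : Nat.card (Sylow 3 O) % 3 = 1 := card_sylow_modEq_one 3 O
          rcases (Nat.dvd_prime (by norm_num : Nat.Prime 5)).1 h1 with r | r
          · exact r
          · rw [r] at h2; norm_num at h2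
        haveI := (Nat.card_eq_one_iff_unique.1 hn3).1
        have hTT : T' = T := Subsingleton.elim _ _
        haveI := IsPGroup.isMulCommutative_of_card_eq_prime_sq (p := 3) (G := (T : Subgroup O)) hT9
        exact congrArg (fun u : (T : Subgroup O) => ((u : O) : G))
          (mul_comm' (⟨⟨t, htO⟩, hT (Subgroup.mem_zpowers _)⟩ : (T : Subgroup O))
            ⟨⟨k, hkO⟩, hTT ▸ hT' (Subgroup.mem_zpowers _)⟩)
      have hmem := d.no_fifteen h h5y (v := g * w * g⁻¹) (t := g * t * g⁻¹)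
        (by rw [← hgk]; exact comm_conj hkw.symm) (by rw [← hgk]; exact comm_conj htk)
        (comm_conj (mem_cent_iff.1 (D.le htO)).symm) (by rw [orderOf_conj', W.w5])
        (by rw [conj_pow, (ht3 ▸ pow_orderOf_eq_one t : t ^ 3 = 1)]; group)
      obtain ⟨q, hq⟩ := hmem
      have hq' : y ^ q = g * t * g⁻¹ := hq
      rw [← hgk, conj_zpow] at hq'
      have htk' : k ^ q = t := mul_left_cancel (mul_right_cancel hq')
      have htm' : Commute t m := by rw [← htk']; exact (show Commute k m from hkm).zpow_left q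
      have htz : Commute t z := by
        have e2 : z = (z * m) * m := by rw [mul_assoc, hm2, mul_one]
        rw [e2]
        exact (show Commute t (z * m) from htm).mul_right htm'
      have h5 := Subgroup.orderOf_dvd_natCard _ (Subgroup.mem_inf.2 ⟨htO, mem_cent_iff.2 htz.eq⟩ :
        t ∈ O ⊓ Subgroup.centralizer ({z} : Set G))
      rw [ht3, D.fix] at h5
      norm_num at h5
    · -- twenty-five
      exfalso
      have h75 : Nat.card O = 75 := by rw [hK]
      obtain ⟨P⟩ : Nonempty (Sylow 5 O) := inferInstance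
      have hP25 : Nat.card (P : Subgroup O) = 25 := by
        rw [P.card_eq_multiplicity, h75]
        have e1 : (75 : ℕ).factorization 5 = 2 := by
          rw [show (75 : ℕ) = 5 ^ 2 * 3 by norm_num, Nat.factorization_mul (by norm_num) (by norm_num), Finsupp.add_apply,
            (show Nat.Prime 5 by norm_num).factorization_pow, Finsupp.single_eq_same,
            Nat.factorization_eq_zero_of_not_dvd (by norm_num)]
        rw [e1]; norm_num
      have hPn : (P : Subgroup O).Normal := Subgroup.normal_of_index_eq_minFac_card (by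
        have h1 := (P : Subgroup O).card_mul_index
        rw [hP25, h75] at h1
        rw [h75, show (P : Subgroup O).index = 3 by omega]
        norm_num)
      have hwP : (⟨w, (D.mem w hwW).2 (by rw [W.w5]; exact ⟨2, rfl⟩)⟩ : O) ∈ (P : Subgroup O) := by
        obtain ⟨P', hP'⟩ := (IsPGroup.of_card (n := 1) (p := 5) (by rw [Nat.card_zpowers, Subgroup.orderOf_mk, W.w5, pow_one]) :
          IsPGroup 5 (Subgroup.zpowers (⟨w, (D.mem w hwW).2 (by rw [W.w5]; exact ⟨2, rfl⟩)⟩ : O))).exists_le_sylow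
        haveI := Sylow.unique_of_normal P hPn
        have : P' = P := Subsingleton.elim _ _
        exact this ▸ hP' (Subgroup.mem_zpowers _)
      set kO : O := ⟨k, hkO⟩
      set F := Subgroup.zpowers kO
      letI actP : MulAction F (P : Subgroup O) :=
        { smul := fun s q => ⟨(s : O) * q * (s : O)⁻¹, hPn.conj_mem q q.2 s⟩
          one_smul := fun q => Subtype.ext (show (1 : O) * q * (1 : O)⁻¹ = q by group)
          mul_smul := fun a b q => Subtype.ext (show ((a : O) * b) * q * ((a : O) * b)⁻¹ = a * (b * q * (b : O)⁻¹) * (a : O)⁻¹ by group) }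
      have hF3 : IsPGroup 3 F := IsPGroup.of_card (n := 1) (by rw [Nat.card_zpowers, Subgroup.orderOf_mk, hk3, pow_one])
      have hmm := hF3.card_modEq_card_fixedPoints (P : Subgroup O)
      set Ck := (P : Subgroup O) ⊓ Subgroup.centralizer ({kO} : Set O)
      have hfix : Nat.card (MulAction.fixedPoints F (P : Subgroup O)) = Nat.card Ck := by
        refine Nat.card_congr
          { toFun := fun q => ⟨(q.1 : O), q.1.2, mem_cent_iff.2 ?_⟩
            invFun := fun q => ⟨⟨q.1, q.2.1⟩, fun s => ?_⟩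
            left_inv := fun q => rfl
            right_inv := fun q => rfl }
        · exact (mul_inv_eq_iff_eq_mul.1 (congrArg Subtype.val (q.2 ⟨kO, Subgroup.mem_zpowers kO⟩))).symm
        · obtain ⟨r, hr⟩ := s.2
          refine Subtype.ext ?_
          show (s : O) * q.1 * (s : O)⁻¹ = q.1
          rw [← hr, mul_inv_eq_iff_eq_mul]
          exact ((show Commute kO q.1 from (mem_cent_iff.1 q.2.2).symm).zpow_left r).eq
      rw [hfix, hP25] at hmm
      have hd : Nat.card Ck ∣ 25 := hP25 ▸ Subgroup.card_dvd_of_le inf_le_left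
      have h5 : 5 ∣ Nat.card Ck := by
        have h1 := Subgroup.orderOf_dvd_natCard _ (Subgroup.mem_inf.2 ⟨hwP, mem_cent_iff.2 (Subtype.ext hkw.symm)⟩ :
          (⟨w, _⟩ : O) ∈ Ck)
        rwa [Subgroup.orderOf_mk, W.w5] at h1
      have h25 : Nat.card Ck = 25 := by
        have hle := Nat.le_of_dvd (by norm_num) hd
        have hm' : 25 % 3 = Nat.card Ck % 3 := hmm
        set cc := Nat.card Ck
        interval_cases cc <;> omega
      have h2 : Ck.map O.subtype ≤ Subgroup.centralizer ({k} : Set G) := by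
        rintro _ ⟨q, hq, rfl⟩
        exact mem_cent_iff.2 (congrArg Subtype.val (mem_cent_iff.1 hq.2))
      have := Subgroup.card_dvd_of_le h2
      rw [Subgroup.card_map_of_injective O.subtype_injective, h25, hck] at this
      norm_num at this
  have h30 : Nat.card (Subgroup.centralizer ({w} : Set G)) = 30 := by rw [D.card, hO15]
  have hzk : z * k * z⁻¹ = k⁻¹ := by
    have hS : O ⊓ Subgroup.centralizer ({m} : Set G) = Subgroup.zpowers k := by
      refine (Subgroup.eq_of_le_of_card_ge (Subgroup.zpowers_le.2 (Subgroup.mem_inf.2 ⟨hkO, mem_cent_iff.2 hkm⟩)) ?_).symm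
      rw [hm3, Nat.card_zpowers, hk3]
    have hmem : z * k * z⁻¹ ∈ O ⊓ Subgroup.centralizer ({m} : Set G) := by
      refine Subgroup.mem_inf.2 ⟨D.norm (Or.inl hzwz) k hkO, mem_cent_iff.2 ?_⟩
      have hzm' : z * m * z⁻¹ = m := by rw [← hc.cz hmC, mul_inv_cancel_right]
      nth_rewrite 1 [← hzm']
      nth_rewrite 2 [← hzm']
      exact comm_conj hkm
    rw [hS] at hmem
    obtain ⟨q, hq⟩ := hmem
    have hq' : k ^ q = z * k * z⁻¹ := hq
    have hne : z * k * z⁻¹ ≠ k := fun r => by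
      have h5 := Subgroup.orderOf_dvd_natCard _ (Subgroup.mem_inf.2 ⟨hkO, mem_cent_iff.2 (mul_inv_eq_iff_eq_mul.1 r).symm⟩ :
        k ∈ O ⊓ Subgroup.centralizer ({z} : Set G))
      rw [hk3, D.fix] at h5
      norm_num at h5
    rcases three_cases (q : ZMod 3) with r | r | r
    · exfalso
      refine hne ?_
      rw [← hq']
      conv_rhs => rw [← zpow_one k]
      rw [zpow_eq_zpow_iff_modEq, hk3, ← ZMod.intCast_eq_intCast_iff, r, Int.cast_one]
    · rw [← hq', ← zpow_neg_one, zpow_eq_zpow_iff_modEq, hk3, ← ZMod.intCast_eq_intCast_iff, r]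
      push_cast; rfl
    · exfalso
      have h1 : z * k * z⁻¹ = 1 := by
        rw [← hq', ← zpow_zero k, zpow_eq_zpow_iff_modEq, hk3, ← ZMod.intCast_eq_intCast_iff, r, Int.cast_zero]
      rw [conj_eq_one_iff] at h1
      rw [h1, orderOf_one] at hk3
      norm_num at hk3
  have hnsq : ∀ q : G, q * w * q⁻¹ ≠ w * w := by
    intro q hq
    set CW := Subgroup.centralizer ({w} : Set G)
    have hzW : z ∈ CW := mem_cent_iff.2 (hc.cz W.wC).symm
    have hxW : q * z * q⁻¹ ∈ CW := by
      have h1 : Commute (q * z * q⁻¹) (w * w) := by rw [← hq]; exact comm_conj (hc.cz W.wC).symm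
      have e1 : (w * w) ^ 3 = w := by
        calc (w * w) ^ 3 = w ^ 5 * w := by simp only [pow_succ, pow_zero, one_mul, mul_assoc]
          _ = w := by rw [(W.w5 ▸ pow_orderOf_eq_one w : w ^ 5 = 1), one_mul]
      exact mem_cent_iff.2 (e1 ▸ (h1.pow_right 3)).eq
    have hnotO : ∀ g, g ∈ CW → orderOf g = 2 → g ∉ O := fun g hg hg2 e1 => by
      have := (D.mem g hg).1 e1
      rw [hg2] at this
      exact Nat.not_even_iff_odd.2 this even_two
    have hidx : (O.subgroupOf CW).index = 2 := by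
      have h1 := (O.subgroupOf CW).card_mul_index
      rw [Nat.card_congr (Subgroup.subgroupOfEquivOfLe D.le).toEquiv, h30, hO15] at h1
      omega
    have hprod : z * (q * z * q⁻¹) ∈ O :=
      (Subgroup.mul_mem_iff_of_index_two hidx (a := ⟨z, hzW⟩) (b := ⟨_, hxW⟩)).2
        ⟨fun e1 => absurd e1 (hnotO z hzW h.hz), fun e1 => absurd e1 (hnotO _ hxW (by show orderOf (q * z * q⁻¹) = 2; rw [orderOf_conj']; exact h.hz))⟩
    obtain ⟨r, hr⟩ := isConj_iff.1 (S3313.isConj_of_odd (G := CW) (x := ⟨_, hxW⟩) (y := ⟨z, hzW⟩)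
      (Subtype.ext (by show q * z * q⁻¹ * (q * z * q⁻¹) = 1; rw [conj_mul, hc.z_sq, mul_one, mul_inv_cancel]))
      (Subtype.ext hc.z_sq) (by
        rw [← Subgroup.orderOf_coe]
        push_cast
        rw [← orderOf_inv, mul_inv_rev, inv_eq_of_mul_eq_one_right hc.z_sq,
          inv_eq_of_mul_eq_one_right (show q * z * q⁻¹ * (q * z * q⁻¹) = 1 by
            rw [conj_mul, hc.z_sq, mul_one, mul_inv_cancel])]
        exact (D.mem _ (mul_mem hzW hxW)).1 hprod))
    have hr' : (r : G) * (q * z * q⁻¹) * (r : G)⁻¹ = z := congrArg Subtype.val hr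
    refine W.not_sq ((r : G) * q) (mem_cent_iff.2 (mul_inv_eq_iff_eq_mul.1 ?_)) ?_
    · exact Eq.trans (by group) hr'
    · have hrw : Commute (r : G) w := mem_cent_iff.1 r.2
      calc (r : G) * q * w * ((r : G) * q)⁻¹ = (r : G) * (q * w * q⁻¹) * (r : G)⁻¹ := by group
        _ = w * w := by rw [hq, (hrw.mul_right hrw).eq, mul_inv_cancel_right]
  have hfive : 5 ∣ Nat.card G ∧ ¬ 25 ∣ Nat.card G := by
    refine ⟨W.w5 ▸ orderOf_dvd_natCard w, fun h25 => ?_⟩
    obtain ⟨P, hP⟩ := (IsPGroup.of_card (n := 1) (p := 5) (by rw [Nat.card_zpowers, W.w5, pow_one]) :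
      IsPGroup 5 (Subgroup.zpowers w)).exists_le_sylow
    have hP25 : 25 ∣ Nat.card (P : Subgroup G) := by
      rw [P.card_eq_multiplicity]
      exact (show (25 : ℕ) = 5 ^ 2 by norm_num) ▸ pow_dvd_pow 5
        (((show Nat.Prime 5 by norm_num).pow_dvd_iff_le_factorization Nat.card_pos.ne').1 (by simpa using h25))
    haveI : Nontrivial (P : Subgroup G) :=
      Finite.one_lt_card_iff_nontrivial.1 (by have := Nat.le_of_dvd Nat.card_pos hP25; omega)
    haveI := P.isPGroup'.center_nontrivial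
    obtain ⟨⟨c, hcc⟩, hco⟩ := exists_prime_orderOf_dvd_card' (G := Subgroup.center (P : Subgroup G)) 5 (by
      obtain ⟨q, hq⟩ := IsPGroup.iff_card.1 (P.isPGroup'.to_subgroup (Subgroup.center (P : Subgroup G)))
      rw [hq]
      refine dvd_pow_self 5 fun h0 => ?_
      have := Finite.one_lt_card (α := Subgroup.center (P : Subgroup G))
      rw [hq, h0, pow_zero] at this
      omega)
    rw [Subgroup.orderOf_mk, ← Subgroup.orderOf_coe] at hco
    have hcw : Commute (c : G) w :=
      (congrArg Subtype.val (Subgroup.mem_center_iff.1 hcc ⟨w, hP (Subgroup.mem_zpowers w)⟩)).symm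
    have hsame : Subgroup.zpowers (c : G) = Subgroup.zpowers w := by
      have hcO : (c : G) ∈ O := (D.mem _ (mem_cent_iff.2 hcw.eq)).2 (by rw [hco]; exact ⟨2, rfl⟩)
      have hwO : w ∈ O := (D.mem w hwW).2 (by rw [W.w5]; exact ⟨2, rfl⟩)
      by_contra hne
      have hinj : Function.Injective (fun p : Fin 5 × Fin 5 =>
          (⟨(c : G) ^ (p.1 : ℕ) * w ^ (p.2 : ℕ), O.mul_mem (O.pow_mem hcO _) (O.pow_mem hwO _)⟩ : O)) := by
        intro p q epq
        have e1 : (c : G) ^ (p.1 : ℕ) * w ^ (p.2 : ℕ) = (c : G) ^ (q.1 : ℕ) * w ^ (q.2 : ℕ) := congrArg Subtype.val epq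
        have e2 : (c : G) ^ ((p.1 : ℤ) - q.1) = w ^ ((q.2 : ℤ) - p.2) := by
          rw [zpow_sub, zpow_sub, zpow_natCast, zpow_natCast, zpow_natCast, zpow_natCast, eq_mul_inv_iff_mul_eq,
            mul_assoc, ((hcw.pow_pow (q.1 : ℕ) (p.2 : ℕ)).inv_left).eq, ← mul_assoc, e1, mul_assoc,
            ((hcw.pow_pow (q.1 : ℕ) (q.2 : ℕ)).inv_left).symm.eq, mul_inv_cancel_left]
        have h11 : p.1 = q.1 := by
          by_contra h11
          refine hne (Subgroup.eq_of_le_of_card_ge ?_ (by rw [Nat.card_zpowers, Nat.card_zpowers, hco, W.w5]))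
          refine Subgroup.zpowers_le.2 ?_
          have hd : (((p.1 : ℤ) - q.1 : ℤ) : ZMod 5) ≠ 0 := by
            rw [Ne, ZMod.intCast_zmod_eq_zero_iff_dvd]
            intro hd
            have h1 := p.1.2
            have h2 := q.1.2
            exact h11 (Fin.ext (by omega))
          have e3 : ((c : G) ^ ((p.1 : ℤ) - q.1)) ^ (((((p.1 : ℤ) - q.1 : ℤ) : ZMod 5)⁻¹).val : ℤ) = (c : G) := by
            rw [← zpow_mul]
            conv_rhs => rw [← zpow_one (c : G)]
            rw [zpow_five hco]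
            push_cast at hd ⊢
            rw [ZMod.natCast_zmod_val, mul_inv_cancel₀ hd]
          rw [← e3, e2, ← zpow_mul]
          exact Subgroup.zpow_mem_zpowers _ _
        rw [h11] at e1
        refine Prod.ext h11 (Fin.ext ?_)
        exact pow_injOn_Iio_orderOf (by rw [Set.mem_Iio, W.w5]; exact p.2.2)
          (by rw [Set.mem_Iio, W.w5]; exact q.2.2) (mul_left_cancel e1)
      have := Nat.card_le_card_of_injective _ hinj
      rw [hO15, Nat.card_prod, Nat.card_fin] at this
      norm_num at this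
    have hle : (P : Subgroup G) ≤ Subgroup.centralizer ({w} : Set G) := fun p hp => by
      refine mem_cent_iff.2 ?_
      obtain ⟨q, hq⟩ := (hsame.symm ▸ Subgroup.mem_zpowers w : w ∈ Subgroup.zpowers (c : G))
      have hpc : Commute p (c : G) := congrArg Subtype.val (Subgroup.mem_center_iff.1 hcc ⟨p, hp⟩)
      exact hq ▸ (hpc.zpow_right q).eq
    have := dvd_trans hP25 (Subgroup.card_dvd_of_le hle)
    rw [h30] at this
    norm_num at this
  refine ⟨w, k, m, W.w5, hk3, hc.cz W.wC, hkw.symm, hzk, hmC, hm2, hm1, hminv, hkm.symm, h30, hnsq, ?_,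
    hfive, fun v hv => ?_, hck⟩
  · exact dvd_trans (show 27 ∣ 1080 by norm_num) (hck ▸ Subgroup.card_subgroup_dvd_card _)
  · obtain ⟨P, hP⟩ := (IsPGroup.of_card (n := 1) (p := 5) (by rw [Nat.card_zpowers, hv, pow_one]) :
      IsPGroup 5 (Subgroup.zpowers v)).exists_le_sylow
    obtain ⟨P', hP'⟩ := (IsPGroup.of_card (n := 1) (p := 5) (by rw [Nat.card_zpowers, W.w5, pow_one]) :
      IsPGroup 5 (Subgroup.zpowers w)).exists_le_sylow
    have hP'c : Nat.card (P' : Subgroup G) = 5 := by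
      rw [P'.card_eq_multiplicity]
      have h1 : (Nat.card G).factorization 5 = 1 := by
        refine le_antisymm ?_ (((show Nat.Prime 5 by norm_num).dvd_iff_one_le_factorization Nat.card_pos.ne').1 hfive.1)
        by_contra hlt
        exact hfive.2 (((show Nat.Prime 5 by norm_num).pow_dvd_iff_le_factorization (k := 2) Nat.card_pos.ne').2 (by omega))
      rw [h1, pow_one]
    have hP'eq : Subgroup.zpowers w = P' :=
      Subgroup.eq_of_le_of_card_ge hP' (by rw [hP'c, Nat.card_zpowers, W.w5])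
    obtain ⟨q, hq⟩ := MulAction.exists_smul_eq G P P'
    refine ⟨q, ?_⟩
    rw [hP'eq, ← hq, Sylow.coe_subgroup_smul]
    exact ⟨_, hP (Subgroup.mem_zpowers _), rfl⟩

end Cfsg.Agent.Invol.J3Type
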