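import Cfsg.Agent.Lib.Invol.J3Type.Elements
import Cfsg.Agent.Lib.Invol.D8Recognition
import Cfsg.Agent.Lib.Recog.DihedralHom
import Cfsg.Agent.S0497
import Cfsg.Agent.S3313

/-!
# The centralizer of an element of order three
-/

set_option autoImplicit false
set_option linter.unusedSectionVars false
set_option linter.style.haveILetI false

namespace Cfsg.Agent.Invol.J3Type

open Cfsg Cfsg.Agent.Invol.HJ

universe u

variable {G : Type u} [Group G] {z : G} {Q : Subgroup G}

/-- The map induced on the dihedral group by the inverting involution. -/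
def phi8 : DihedralGroup 4 → DihedralGroup 4
  | .r i => .r (-i)
  | .sr i => .sr (1 - i)

theorem d8_words : ∀ d : DihedralGroup 4, ∃ k : Fin 4,
    (d = .r 1 ^ (k : ℕ) ∧ phi8 d = .r 3 ^ (k : ℕ)) ∨
    (d = .sr 0 * .r 1 ^ (k : ℕ) ∧ phi8 d = .sr 1 * .r 3 ^ (k : ℕ)) := by decide +kernel

theorem d8_ker : ∀ d : DihedralGroup 4, d ≠ 1 →
    d = .r 2 ∨ d * d = .r 2 ∨ d * (.r 1 * d * (.r 1)⁻¹) = .r 2 := by decide +kernel

theorem phi8_inverted : ∀ d : DihedralGroup 4, phi8 d * d = 1 → ∃ i, d = .r i := by decide +kernel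

theorem phi8_rot : ∀ i : ZMod 4, phi8 (.r i) * .r i = 1 := by decide +kernel

theorem phi8_class : ∀ i : ZMod 4, ∃ e : DihedralGroup 4, phi8 e * e⁻¹ = .r i := by decide +kernel

theorem phi8_odd : ∀ k i : ZMod 4, let e := phi8 (.sr k) * .r i
    phi8 e * e = .r 1 ∨ phi8 e * e = .r 3 := by decide +kernel

theorem d8_four : (DihedralGroup.r 1 : DihedralGroup 4) ^ 2 = .r 2 ∧
    (DihedralGroup.r 3 : DihedralGroup 4) ^ 2 = .r 2 := by decide +kernel

theorem central_zpowers (y : G) :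
    ((Subgroup.zpowers y).subgroupOf (Subgroup.centralizer ({y} : Set G))).Normal := ⟨fun a ha g => by
  obtain ⟨i, hi⟩ := ha
  refine ⟨i, ?_⟩
  show y ^ i = (g : G) * a * (g : G)⁻¹
  rw [show (a : G) = y ^ i from hi.symm,
    ((show Commute (g : G) y from mem_cent_iff.1 g.2).zpow_right i).eq, mul_inv_cancel_right]⟩

instance centralZpowersNormal (y : G) :
    ((Subgroup.zpowers y).subgroupOf (Subgroup.centralizer ({y} : Set G))).Normal := central_zpowers y

/-- The centralizer of `y` modulo `⟨y⟩`. -/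
abbrev Xq (y : G) : Type u :=
  Subgroup.centralizer ({y} : Set G) ⧸ (Subgroup.zpowers y).subgroupOf (Subgroup.centralizer ({y} : Set G))

variable {y a b n : G}

theorem YData.ab_four (d : YData z Q y a b n) (h : Core z Q) :
    (a * b) * (a * b) = z ∧ (a * b) ^ 4 = 1 := by
  have ha := d.aX.2.1
  have hb := d.bX.2.1
  have h2 : (a * b) * (a * b) = z := by
    calc a * b * (a * b) = (a * b) * a * b := by group
      _ = z * (b * a) * a * b := by rw [d.ab]
      _ = z * b * (a * a) * b := by group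
      _ = z * (b * b) := by rw [ha, mul_one, mul_assoc]
      _ = z := by rw [hb, mul_one]
  refine ⟨h2, ?_⟩
  rw [show 4 = 2 * 2 from rfl, pow_mul, pow_two (a * b), h2, pow_two, h.z_sq]

theorem YData.ab_inv (d : YData z Q y a b n) : a * (a * b) * a⁻¹ = (a * b)⁻¹ := by
  have ha : a⁻¹ = a := inv_eq_of_mul_eq_one_right d.aX.2.1
  have hb : b⁻¹ = b := inv_eq_of_mul_eq_one_right d.bX.2.1
  rw [mul_inv_rev, ha, hb, ← mul_assoc, d.aX.2.1, one_mul]

/-- The dihedral group of order eight fixed by `y`. -/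
noncomputable def YData.psi (d : YData z Q y a b n) (h : Core z Q) : DihedralGroup 4 →* G :=
  Cfsg.Agent.Recog.dihedralHom (a * b) a (d.ab_four h).2 d.aX.2.1 d.ab_inv

theorem YData.psi_r1 (d : YData z Q y a b n) (h : Core z Q) : d.psi h (.r 1) = a * b :=
  Cfsg.Agent.Recog.dihedralHom_r _ _ _ _ _

theorem YData.psi_sr0 (d : YData z Q y a b n) (h : Core z Q) : d.psi h (.sr 0) = a :=
  Cfsg.Agent.Recog.dihedralHom_sr _ _ _ _ _

theorem YData.psi_r2 (d : YData z Q y a b n) (h : Core z Q) : d.psi h (.r 2) = z := by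
  rw [← d8_four.1, map_pow, d.psi_r1, pow_two, (d.ab_four h).1]

theorem YData.psi_sr1 (d : YData z Q y a b n) (h : Core z Q) : d.psi h (.sr 1) = b := by
  rw [show (DihedralGroup.sr 1 : DihedralGroup 4) = .sr 0 * .r 1 by decide, map_mul, d.psi_sr0,
    d.psi_r1, ← mul_assoc, d.aX.2.1, one_mul]

theorem YData.psi_r3 (d : YData z Q y a b n) (h : Core z Q) : d.psi h (.r 3) = b * a := by
  rw [show (DihedralGroup.r 3 : DihedralGroup 4) = .sr 1 * .sr 0 by decide, map_mul, d.psi_sr0, d.psi_sr1]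

theorem YData.psi_mem_Q (d : YData z Q y a b n) (h : Core z Q) (g : DihedralGroup 4) : d.psi h g ∈ Q := by
  obtain ⟨k, hk⟩ := d8_words g
  rcases hk with ⟨e, -⟩ | ⟨e, -⟩ <;> rw [e]
  · rw [map_pow, d.psi_r1]; exact Q.pow_mem (Q.mul_mem d.aX.1 d.bX.1) _
  · rw [map_mul, map_pow, d.psi_r1, d.psi_sr0]
    exact Q.mul_mem d.aX.1 (Q.pow_mem (Q.mul_mem d.aX.1 d.bX.1) _)

theorem YData.psi_comm (d : YData z Q y a b n) (h : Core z Q) (g : DihedralGroup 4) :
    Commute (d.psi h g) y := by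
  have hab : Commute (a * b) y := (show Commute a y from d.ay).mul_left d.byc
  obtain ⟨k, hk⟩ := d8_words g
  rcases hk with ⟨e, -⟩ | ⟨e, -⟩ <;> rw [e]
  · rw [map_pow, d.psi_r1]; exact hab.pow_left _
  · rw [map_mul, map_pow, d.psi_r1, d.psi_sr0]
    exact (show Commute a y from d.ay).mul_left (hab.pow_left _)

theorem YData.psi_inj (d : YData z Q y a b n) (h : Core z Q) : Function.Injective (d.psi h) := by
  refine (injective_iff_map_eq_one _).2 fun g hg => ?_
  by_contra hne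
  have hz : d.psi h (.r 2) = 1 := by
    rcases d8_ker g hne with e | e | e
    · rw [← e, hg]
    · rw [← e, map_mul, hg, mul_one]
    · rw [← e]; simp only [map_mul, map_inv, hg, mul_one, one_mul, mul_inv_cancel]
  rw [d.psi_r2] at hz
  exact h.ne_one hz

theorem YData.conj_psi (d : YData z Q y a b n) (h : Core z Q) (g : DihedralGroup 4) :
    n * d.psi h g * n⁻¹ = d.psi h (phi8 g) := by
  have hni : n⁻¹ = n := inv_eq_of_mul_eq_one_right d.n2
  have hnb : n * b * n⁻¹ = a := by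
    rw [← d.nab, show n * (n * a * n⁻¹) * n⁻¹ = (n * n) * a * (n * n)⁻¹ by group, d.n2]; group
  have hr : n * d.psi h (.r 1) * n⁻¹ = d.psi h (.r 3) := by
    rw [d.psi_r1, d.psi_r3, ← conj_mul, d.nab, hnb]
  have hs : n * d.psi h (.sr 0) * n⁻¹ = d.psi h (.sr 1) := by rw [d.psi_sr0, d.psi_sr1, d.nab]
  obtain ⟨k, hk⟩ := d8_words g
  rcases hk with ⟨e, e'⟩ | ⟨e, e'⟩ <;> rw [e', e]
  · rw [map_pow, map_pow, ← conj_pow, hr]
  · rw [map_mul, map_mul, map_pow, map_pow, ← conj_mul, ← conj_pow, hr, hs]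

theorem YData.z_comm_y (d : YData z Q y a b n) (h : Core z Q) : z * y = y * z := (h.cz d.yC).symm

theorem YData.z_mem (d : YData z Q y a b n) (h : Core z Q) : z ∈ Subgroup.centralizer ({y} : Set G) :=
  mem_cent_iff.2 (d.z_comm_y h)

theorem YData.z_comm_psi (d : YData z Q y a b n) (h : Core z Q) (g : DihedralGroup 4) :
    Commute (d.psi h g) z := h.zq (d.psi_mem_Q h g)

theorem YData.exists_psi (d : YData z Q y a b n) (h : Core z Q) {c : G}
    (hc : c ∈ Subgroup.centralizer ({z} : Set G)) (hcy : c * y = y * c) :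
    ∃ (g : DihedralGroup 4) (j : ℕ), c = d.psi h g * y ^ j := by
  obtain ⟨e, he, j, rfl⟩ := d.span c hc hcy
  suffices ∃ g, d.psi h g = e by obtain ⟨g, rfl⟩ := this; exact ⟨g, j, rfl⟩
  rcases he with r | r | r | r | r | r | r | r <;> subst r
  · exact ⟨1, map_one _⟩
  · exact ⟨_, d.psi_r2 h⟩
  · exact ⟨_, d.psi_sr0 h⟩
  · exact ⟨.r 2 * .sr 0, by rw [map_mul, d.psi_r2, d.psi_sr0]⟩
  · exact ⟨_, d.psi_sr1 h⟩
  · exact ⟨.r 2 * .sr 1, by rw [map_mul, d.psi_r2, d.psi_sr1]⟩
  · exact ⟨_, d.psi_r1 h⟩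
  · exact ⟨.r 2 * .r 1, by rw [map_mul, d.psi_r2, d.psi_r1]⟩

theorem YData.y_pow_three (d : YData z Q y a b n) : y ^ 3 = 1 := d.y3 ▸ pow_orderOf_eq_one y

theorem YData.psi_y_inj (d : YData z Q y a b n) (h : Core z Q) [Finite G] {g g' : DihedralGroup 4} {j j' : ℕ}
    (e : d.psi h g * y ^ j = d.psi h g' * y ^ j') : g = g' ∧ y ^ j = y ^ j' := by
  have e1 : d.psi h (g'⁻¹ * g) = y ^ j' * (y ^ j)⁻¹ := by
    rw [map_mul, map_inv, inv_mul_eq_iff_eq_mul, ← mul_assoc, eq_mul_inv_iff_mul_eq, e]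
  have h1 : orderOf (d.psi h (g'⁻¹ * g)) ∣ 8 := by
    refine (orderOf_map_dvd _ _).trans ?_
    exact (orderOf_dvd_natCard _).trans (dvd_of_eq (DihedralGroup.nat_card (n := 4)))
  have h2 : orderOf (d.psi h (g'⁻¹ * g)) ∣ 3 := by
    refine orderOf_dvd_of_pow_eq_one ?_
    rw [e1, ((((Commute.refl y).pow_left j').pow_right j).inv_right).mul_pow, inv_pow,
      ← pow_mul, mul_comm j' 3, pow_mul, d.y_pow_three, one_pow, ← pow_mul, mul_comm j 3, pow_mul,
      d.y_pow_three, one_pow, inv_one, mul_one]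
  have h3 := orderOf_eq_one_iff.1 (Nat.eq_one_of_dvd_coprimes (by norm_num : Nat.Coprime 8 3) h1 h2)
  have hgg : g = g' := by
    have h4 := d.psi_inj h (h3.trans (map_one _).symm)
    exact (inv_mul_eq_one.1 h4).symm
  subst hgg
  exact ⟨rfl, mul_left_cancel e⟩

theorem YData.card_inf [Finite G] (d : YData z Q y a b n) (h : Core z Q) :
    Nat.card (Subgroup.centralizer ({y} : Set G) ⊓ Subgroup.centralizer ({z} : Set G) : Subgroup G) = 24 := by
  let f : DihedralGroup 4 × Fin 3 → ↥(Subgroup.centralizer ({y} : Set G) ⊓ Subgroup.centralizer ({z} : Set G)) :=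
    fun p => ⟨d.psi h p.1 * y ^ (p.2 : ℕ), Subgroup.mem_inf.2
      ⟨mem_cent_iff.2 ((d.psi_comm h p.1).mul_left ((Commute.refl y).pow_left _)).eq,
        mul_mem (h.le_C (d.psi_mem_Q h p.1)) (pow_mem d.yC _)⟩⟩
  have hf : Function.Bijective f := by
    refine ⟨fun p q e => ?_, fun c => ?_⟩
    · obtain ⟨e1, e2⟩ := d.psi_y_inj h (congrArg Subtype.val e)
      refine Prod.ext e1 (Fin.ext ?_)
      exact pow_injOn_Iio_orderOf (by rw [Set.mem_Iio, d.y3]; exact p.2.2)
        (by rw [Set.mem_Iio, d.y3]; exact q.2.2) e2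
    · obtain ⟨g, j, hj⟩ := d.exists_psi h (Subgroup.mem_inf.1 c.2).2 (mem_cent_iff.1 (Subgroup.mem_inf.1 c.2).1)
      refine ⟨(g, ⟨j % 3, Nat.mod_lt _ (by norm_num)⟩), Subtype.ext ?_⟩
      show d.psi h g * y ^ (j % 3) = c
      rw [hj, ← d.y3, pow_mod_orderOf]
  rw [← Nat.card_congr (Equiv.ofBijective f hf), Nat.card_prod, DihedralGroup.nat_card, Nat.card_fin]

theorem YData.invol_conj_z [Finite G] (d : YData z Q y a b n) (h : Setting z Q) {v : G}
    (hvy : v * y = y * v) (hv : orderOf v = 2) :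
    ∃ g ∈ Subgroup.centralizer ({y} : Set G), g * v * g⁻¹ = z := by
  obtain ⟨c, hc⟩ := isConj_iff.1 (h.one v hv)
  obtain ⟨e, he, hey⟩ := d.conj3 (c * y * c⁻¹) (mem_cent_iff.2 (by rw [← hc]; exact comm_conj hvy.symm))
    (by rw [orderOf_conj', d.y3])
  refine ⟨e * c, mem_cent_iff.2 ?_, ?_⟩
  · have e1 : e * c * y * (e * c)⁻¹ = y := Eq.trans (by group) hey
    exact mul_inv_eq_iff_eq_mul.1 e1
  · calc e * c * v * (e * c)⁻¹ = e * (c * v * c⁻¹) * e⁻¹ := by group
      _ = z := by rw [hc, h.toCore.cz he, mul_inv_cancel_right]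

/-- The quotient is simple of order `168` or `360`. -/
theorem YData.quot_simple [Finite G] (d : YData z Q y a b n) (h : Setting z Q) :
    IsSimpleGroup (Xq y) ∧ (Nat.card (Xq y) = 168 ∨ Nat.card (Xq y) = 360) ∧
      Nat.card (Subgroup.centralizer ({y} : Set G)) = 3 * Nat.card (Xq y) := by
  classical
  haveI := Fact.mk Nat.prime_two
  set N := (Subgroup.zpowers y).subgroupOf (Subgroup.centralizer ({y} : Set G)) with hN
  let mk : Subgroup.centralizer ({y} : Set G) →* Xq y := QuotientGroup.mk' N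
  let ψY : DihedralGroup 4 →* Subgroup.centralizer ({y} : Set G) :=
    (d.psi h.toCore).codRestrict _ fun g => mem_cent_iff.2 (d.psi_comm h.toCore g).eq
  set Z : Xq y := mk ⟨z, d.z_mem h.toCore⟩ with hZ
  have hker : ∀ g : Subgroup.centralizer ({y} : Set G), mk g = 1 ↔ (g : G) ∈ Subgroup.zpowers y := fun g => by
    show (QuotientGroup.mk g : Xq y) = 1 ↔ _
    rw [QuotientGroup.eq_one_iff]; rfl
  have hpow : ∀ {g : G}, g ∈ Subgroup.zpowers y → g ^ 3 = 1 := by
    rintro g ⟨i, rfl⟩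
    show (y ^ i) ^ 3 = 1
    rw [← zpow_natCast, ← zpow_mul, mul_comm, zpow_mul, zpow_natCast, d.y_pow_three, one_zpow]
  have hZo : orderOf Z = 2 := by
    refine two_iff.2 ⟨?_, fun e => ?_⟩
    · rw [hZ, ← map_mul, ← map_one mk]; exact congrArg mk (Subtype.ext h.toCore.z_sq)
    · have h1 := hpow ((hker _).1 e)
      rw [pow_three, h.toCore.z_sq, mul_one] at h1
      exact h.toCore.ne_one h1
  have hψC : ∀ g, mk (ψY g) ∈ Subgroup.centralizer ({Z} : Set (Xq y)) := fun g =>
    mem_cent_iff.2 (by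
      rw [hZ, ← map_mul, ← map_mul]
      exact congrArg mk (Subtype.ext (d.z_comm_psi h.toCore g).eq))
  have hinjψ : Function.Injective (mk.comp ψY) := by
    refine (injective_iff_map_eq_one _).2 fun g hg => ?_
    obtain ⟨j, hj⟩ := Subgroup.mem_zpowers_iff.1 ((hker _).1 hg)
    obtain ⟨k, hk⟩ : ∃ k : ℕ, y ^ j = y ^ k := by
      refine ⟨(j % 3).toNat, ?_⟩
      rw [← zpow_natCast, Int.toNat_of_nonneg (Int.emod_nonneg _ (by norm_num))]
      rw [zpow_eq_zpow_iff_modEq, d.y3]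
      exact (Int.mod_modEq j 3).symm
    exact (d.psi_y_inj h.toCore (g := g) (g' := 1) (j := 0) (j' := k)
      (by rw [map_one, one_mul, pow_zero, mul_one, ← hk, hj]; rfl)).1
  have hsurj : ∀ U ∈ Subgroup.centralizer ({Z} : Set (Xq y)), ∃ g, mk (ψY g) = U := by
    intro U hU
    obtain ⟨u, rfl⟩ := QuotientGroup.mk'_surjective N U
    have e1 : mk (u * ⟨z, d.z_mem h.toCore⟩ * u⁻¹ * ⟨z, d.z_mem h.toCore⟩⁻¹) = 1 := by
      rw [map_mul, map_mul, map_mul, map_inv, map_inv, ← hZ, show mk u * Z = Z * mk u from mem_cent_iff.1 hU]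
      group
    have h1 := (hker _).1 e1
    push_cast at h1
    set t := (u : G) * z * (u : G)⁻¹ * z⁻¹ with ht
    have hty : t * z = z * t := by
      obtain ⟨i, hi⟩ := h1
      rw [← hi]
      exact ((show Commute z y from d.z_comm_y h.toCore).zpow_right i).symm.eq
    have hsq : t * t = 1 := by
      have e2 : ((u : G) * z * (u : G)⁻¹) = t * z := by rw [ht, inv_mul_cancel_right]
      have e3 : ((u : G) * z * (u : G)⁻¹) * ((u : G) * z * (u : G)⁻¹) = 1 := by
        rw [conj_mul, h.toCore.z_sq, mul_one, mul_inv_cancel]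
      rw [e2, mul_assoc, ← mul_assoc z, ← hty, mul_assoc t z, h.toCore.z_sq, mul_one] at e3
      exact e3
    have ht1 : t = 1 := by
      have h3 := hpow h1
      rwa [pow_three, hsq, mul_one] at h3
    have huz : (u : G) * z = z * u := by
      rw [ht, mul_inv_eq_one, mul_inv_eq_iff_eq_mul] at ht1; exact ht1
    obtain ⟨g, j, hj⟩ := d.exists_psi h.toCore (mem_cent_iff.2 huz) (mem_cent_iff.1 u.2)
    refine ⟨g, ?_⟩
    show mk (ψY g) = mk u
    have h4 : u = ψY g * (⟨y, mem_cent_iff.2 rfl⟩ : Subgroup.centralizer ({y} : Set G)) ^ j :=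
      Subtype.ext (by push_cast; exact hj)
    have h5 : mk ((⟨y, mem_cent_iff.2 rfl⟩ : Subgroup.centralizer ({y} : Set G)) ^ j) = 1 :=
      (hker _).2 (by push_cast; exact pow_mem (Subgroup.mem_zpowers y) j)
    rw [h4, map_mul, h5, mul_one]
  let e : DihedralGroup 4 ≃* Subgroup.centralizer ({Z} : Set (Xq y)) :=
    MulEquiv.ofBijective ((mk.comp ψY).codRestrict _ hψC)
      ⟨fun g g' he => hinjψ (congrArg Subtype.val he), fun U => by
        obtain ⟨g, hg⟩ := hsurj U U.2
        exact ⟨g, Subtype.ext hg⟩⟩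
  have hconj : ∀ U : Xq y, orderOf U = 2 → IsConj U Z := by
    intro U hU
    obtain ⟨u0, rfl⟩ := QuotientGroup.mk'_surjective N U
    obtain ⟨hU2, hU1⟩ := two_iff.1 hU
    have h0 : ((u0 * u0 : Subgroup.centralizer ({y} : Set G)) : G) ∈ Subgroup.zpowers y :=
      (hker _).1 (by rw [map_mul]; exact hU2)
    have h6 : ((u0 : G) ^ 3) * ((u0 : G) ^ 3) = 1 := by
      rw [← (Commute.refl (u0 : G)).mul_pow]; exact hpow h0
    have hmk3 : mk (u0 ^ 3) = mk u0 := by
      rw [map_pow, pow_three]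
      show mk u0 * (mk u0 * mk u0) = mk u0
      rw [show mk u0 * mk u0 = 1 from hU2, mul_one]
    have hne : ((u0 : G) ^ 3) ≠ 1 := fun h' => hU1 (by
      show mk u0 = 1
      rw [← hmk3, ← map_one mk]
      exact congrArg mk (Subtype.ext (by push_cast; exact h')))
    obtain ⟨g, hg, hge⟩ := d.invol_conj_z h
      (((show Commute (u0 : G) y from mem_cent_iff.1 u0.2).pow_left 3).eq) (two_iff.2 ⟨h6, hne⟩)
    refine isConj_iff.2 ⟨mk ⟨g, hg⟩, ?_⟩
    show mk ⟨g, hg⟩ * mk u0 * (mk ⟨g, hg⟩)⁻¹ = Z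
    rw [← hmk3, ← map_inv, ← map_mul, ← map_mul]
    exact congrArg mk (Subtype.ext (by push_cast; exact hge))
  have h2 : ∀ H : Subgroup (Xq y), H.index ≠ 2 := by
    intro H hH
    haveI : H.Normal := Subgroup.normal_of_index_eq_two hH
    have hco : ∀ i, orderOf ((e (.sr i) : Subgroup.centralizer ({Z} : Set (Xq y))) : Xq y) = 2 := fun i => by
      rw [Subgroup.orderOf_coe, MulEquiv.orderOf_eq, DihedralGroup.orderOf_sr]
    have hr2 : ((e (.r 2) : Subgroup.centralizer ({Z} : Set (Xq y))) : Xq y) = Z := by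
      show mk (ψY (.r 2)) = Z
      rw [hZ]
      exact congrArg mk (Subtype.ext (d.psi_r2 h.toCore))
    have hall : ∀ U : Xq y, orderOf U = 2 → U ∈ H := by
      have hZH : Z ∈ H := by
        by_contra hcon
        have hno : ∀ U : Xq y, orderOf U = 2 → U ∉ H := fun U hU hUH => by
          obtain ⟨g, hg⟩ := isConj_iff.1 (hconj U hU)
          exact hcon (hg ▸ Subgroup.Normal.conj_mem inferInstance U hUH g)
        refine hcon ?_
        rw [← hr2, show (DihedralGroup.r 2 : DihedralGroup 4) = .sr 0 * .sr 2 by decide, map_mul,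
          Subgroup.coe_mul, Subgroup.mul_mem_iff_of_index_two hH]
        exact ⟨fun h' => absurd h' (hno _ (hco 0)), fun h' => absurd h' (hno _ (hco 2))⟩
      intro U hU
      obtain ⟨g, hg⟩ := isConj_iff.1 (hconj U hU).symm
      exact hg ▸ Subgroup.Normal.conj_mem inferInstance Z hZH g
    obtain ⟨S, hS⟩ := D8Order.exists_sylow_eq hZo e.symm
    have hSH : (S : Subgroup (Xq y)) ≤ H := by
      rw [hS]
      intro c hc
      obtain ⟨g, hg⟩ := e.surjective ⟨c, hc⟩
      have hc' : ((e g : Subgroup.centralizer ({Z} : Set (Xq y))) : Xq y) = c := congrArg Subtype.val hg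
      rw [← hc']
      obtain ⟨i, j, hij⟩ := D8Order.d8_gen g
      rcases hij with r | r <;> rw [r]
      · exact hall _ (hco i)
      · rw [map_mul, Subgroup.coe_mul]; exact H.mul_mem (hall _ (hco i)) (hall _ (hco j))
    refine S.not_dvd_index ?_
    have hd := Subgroup.index_dvd_of_le hSH
    rwa [hH] at hd
  obtain ⟨h1, h3⟩ := D8Order.simple_and_order hZo e.symm h2
  refine ⟨h1, h3, ?_⟩
  rw [Subgroup.card_eq_card_quotient_mul_card_subgroup N, mul_comm,
    Nat.card_congr (Subgroup.subgroupOfEquivOfLe (show Subgroup.zpowers y ≤ Subgroup.centralizer ({y} : Set G) from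
      Subgroup.zpowers_le.2 (mem_cent_iff.2 rfl))).toEquiv, Nat.card_zpowers, d.y3]

/-- Divisibility by five forces the larger order. -/
theorem YData.card_of_five [Finite G] (d : YData z Q y a b n) (h : Setting z Q)
    (h5 : 5 ∣ Nat.card (Subgroup.centralizer ({y} : Set G))) :
    Nat.card (Subgroup.centralizer ({y} : Set G)) = 1080 ∧ Nat.card (Xq y) = 360 := by
  obtain ⟨-, h1 | h1, h2⟩ := d.quot_simple h
  · rw [h2, h1] at h5; norm_num at h5
  · exact ⟨by rw [h2, h1], h1⟩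

/-- No commuting elements of orders five and three outside `⟨y⟩`. -/
theorem YData.no_fifteen [Finite G] (d : YData z Q y a b n) (h : Setting z Q)
    (h5 : 5 ∣ Nat.card (Subgroup.centralizer ({y} : Set G))) {v t : G}
    (hv : v * y = y * v) (ht : t * y = y * t) (hvt : v * t = t * v) (hv5 : orderOf v = 5)
    (ht3 : t ^ 3 = 1) : t ∈ Subgroup.zpowers y := by
  classical
  obtain ⟨hs, -, -⟩ := d.quot_simple h
  obtain ⟨-, h360⟩ := d.card_of_five h h5
  obtain ⟨e⟩ := Cfsg.Agent.S0497.result h360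
  set N := (Subgroup.zpowers y).subgroupOf (Subgroup.centralizer ({y} : Set G)) with hN
  let f : Subgroup.centralizer ({y} : Set G) →* Equiv.Perm (Fin 6) :=
    (alternatingGroup (Fin 6)).subtype.comp (e.toMonoidHom.comp (QuotientGroup.mk' N))
  have hker : ∀ g : Subgroup.centralizer ({y} : Set G), f g = 1 → (g : G) ∈ Subgroup.zpowers y := fun g hg => by
    have h1 : e (QuotientGroup.mk' N g) = 1 := Subtype.ext hg
    rw [MulEquiv.map_eq_one_iff, QuotientGroup.mk'_apply, QuotientGroup.eq_one_iff] at h1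
    exact h1
  set V : Subgroup.centralizer ({y} : Set G) := ⟨v, mem_cent_iff.2 hv⟩
  set T : Subgroup.centralizer ({y} : Set G) := ⟨t, mem_cent_iff.2 ht⟩
  have hV5 : V ^ 5 = 1 := Subtype.ext (by push_cast; exact hv5 ▸ pow_orderOf_eq_one v)
  have hT3 : T ^ 3 = 1 := Subtype.ext (by push_cast; exact ht3)
  have hc : Commute V T := Subtype.ext hvt
  have hp5 : f V ^ 5 = 1 := by rw [← map_pow, hV5, map_one]
  have hq3 : f T ^ 3 = 1 := by rw [← map_pow, hT3, map_one]
  have hcm : Commute (f V) (f T) := hc.map f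
  have h15 : (f V * f T) ^ 15 = 1 := by
    rw [hcm.mul_pow, show 15 = 5 * 3 from rfl, pow_mul, hp5, one_pow, mul_comm 5 3, pow_mul, hq3, one_pow, one_mul]
  rcases no_order_fifteen _ h15 with e3 | e5
  · exfalso
    rw [hcm.mul_pow, hq3, mul_one] at e3
    have h1 : f V = 1 := by
      rw [← pow_one (f V), show 1 = Nat.gcd 3 5 by norm_num, pow_gcd_eq_one.2 ⟨e3, hp5⟩]
    obtain ⟨i, hi⟩ := hker V h1
    have h2 : v ^ 3 = 1 := by
      show (V : G) ^ 3 = 1
      rw [← hi, ← zpow_natCast]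
      show (y ^ i) ^ ((3 : ℕ) : ℤ) = 1
      rw [← zpow_mul, mul_comm, zpow_mul, zpow_natCast, d.y_pow_three, one_zpow]
    have := orderOf_dvd_of_pow_eq_one h2
    rw [hv5] at this
    norm_num at this
  · rw [hcm.mul_pow, hp5, one_mul] at e5
    have h1 : f T = 1 := by
      rw [← pow_one (f T), show 1 = Nat.gcd 5 3 by norm_num, pow_gcd_eq_one.2 ⟨e5, hq3⟩]
    exact hker T h1

end Cfsg.Agent.Invol.J3Type
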