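import Cfsg.Agent.Lib.Invol.J3Type.Model60
import Cfsg.Agent.Lib.Invol.D8Order
import Cfsg.Agent.Lib.Block.ClassMul

/-!
The exceptional characters attached to the six classes of elements of order divisible by five, and
the equation that they give for the group order.
-/

set_option autoImplicit false
set_option linter.unusedSectionVars false
set_option linter.style.haveILetI false

open scoped ComplexConjugate

namespace Cfsg.Agent.Invol.J3Type

open Cfsg Cfsg.Agent Cfsg.Agent.Block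

universe u

section Algebra

variable {α : Type u} [Fintype α] [DecidableEq α]

theorem exc_support {o : α} {a : α → ℤ} (ho : a o = 1) (hn : ∑ χ, a χ * a χ = 3) :
    ∃ S : Finset α, S.card = 2 ∧ o ∉ S ∧ (∀ χ ∈ S, a χ = 1 ∨ a χ = -1) ∧
      ∀ v : α → ℤ, ∑ χ, a χ * v χ = v o + ∑ χ ∈ S, a χ * v χ := by
  set S := (Finset.univ.erase o).filter (fun χ => a χ ≠ 0)
  have hrest : ∀ v : α → ℤ, ∑ χ, a χ * v χ = v o + ∑ χ ∈ S, a χ * v χ := by
    intro v
    rw [← Finset.add_sum_erase _ _ (Finset.mem_univ o), ho, one_mul, Finset.sum_filter_of_ne]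
    intro χ _ h h0
    exact h (by rw [h0, zero_mul])
  have h2 : ∑ χ ∈ S, a χ * a χ = 2 := by
    have := hrest a
    rw [hn, ho] at this
    linarith
  have hone : ∀ χ ∈ S, a χ = 1 ∨ a χ = -1 := by
    intro χ hχ
    have h0 : a χ ≠ 0 := (Finset.mem_filter.1 hχ).2
    have h1 : a χ * a χ ≤ 2 := h2 ▸ Finset.single_le_sum (fun j _ => mul_self_nonneg (a j)) hχ
    have : a χ ≤ 1 := by nlinarith
    have : -1 ≤ a χ := by nlinarith
    omega
  refine ⟨S, ?_, by simp [S], hone, hrest⟩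
  rw [Finset.sum_congr rfl (g := fun _ => (1 : ℤ)) fun χ hχ => by
    rcases hone χ hχ with h | h <;> rw [h] <;> rfl] at h2
  simp at h2
  omega

/-- Two functions of norm three and inner product two, vanishing at degree. -/
theorem exc_decomp {o : α} {a b d : α → ℤ} (hd : ∀ χ, 0 < d χ) (hdo : d o = 1) (hao : a o = 1) (hbo : b o = 1)
    (haa : ∑ χ, a χ * a χ = 3) (hbb : ∑ χ, b χ * b χ = 3) (hab : ∑ χ, a χ * b χ = 2)
    (hda : ∑ χ, a χ * d χ = 0) (hdb : ∑ χ, b χ * d χ = 0) :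
    ∃ (ξ θ₁ θ₂ : α) (δ : ℤ), (δ = 1 ∨ δ = -1) ∧ ξ ≠ o ∧ θ₁ ≠ o ∧ θ₂ ≠ o ∧ ξ ≠ θ₁ ∧ ξ ≠ θ₂ ∧ θ₁ ≠ θ₂ ∧
      d θ₁ = d ξ + δ ∧ d θ₂ = d ξ + δ ∧ a ξ = δ ∧
      (∀ v : α → ℤ, ∑ χ, a χ * v χ = v o + (δ * v ξ - δ * v θ₁)) ∧
      (∀ v : α → ℤ, ∑ χ, b χ * v χ = v o + (δ * v ξ - δ * v θ₂)) := by
  obtain ⟨S, hS, hoS, hSv, hSum⟩ := exc_support hao haa
  obtain ⟨T, hT, hoT, hTv, hTum⟩ := exc_support hbo hbb
  have hI : ∑ χ ∈ S, a χ * b χ = 1 := by
    have := hSum b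
    rw [hab, hbo] at this
    linarith
  have hbz : ∀ χ, χ ≠ o → χ ∉ T → b χ = 0 := by
    intro χ hne hχ
    have h1 := hTum (fun y => if y = χ then 1 else 0)
    have h2 : ∑ y ∈ T, b y * (if y = χ then (1 : ℤ) else 0) = 0 :=
      Finset.sum_eq_zero fun y hy => by rw [if_neg (fun e : y = χ => hχ (e ▸ hy)), mul_zero]
    rw [h2, if_neg (Ne.symm hne)] at h1
    simpa using h1
  obtain ⟨s, s', hss, hSeq⟩ := Finset.card_eq_two.1 hS
  have hsS : s ∈ S := hSeq ▸ Finset.mem_insert_self _ _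
  have hs'S : s' ∈ S := hSeq ▸ Finset.mem_insert_of_mem (Finset.mem_singleton_self _)
  -- one common constituent
  obtain ⟨ξ, θ₁, hSeq', hne1, hξT, hθ₁T⟩ : ∃ ξ θ₁, S = {ξ, θ₁} ∧ ξ ≠ θ₁ ∧ ξ ∈ T ∧ θ₁ ∉ T := by
    by_cases h1 : s ∈ T <;> by_cases h2 : s' ∈ T
    · exfalso
      rw [hSeq, Finset.sum_pair hss] at hI
      rcases hSv s hsS with e | e <;> rcases hTv s h1 with f | f <;> rcases hSv s' hs'S with e' | e' <;>
        rcases hTv s' h2 with f' | f' <;> rw [e, f, e', f'] at hI <;> norm_num at hI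
    · exact ⟨s, s', hSeq, hss, h1, h2⟩
    · exact ⟨s', s, by rw [hSeq, Finset.pair_comm], hss.symm, h2, h1⟩
    · exfalso
      rw [hSeq, Finset.sum_pair hss, hbz s (fun e => hoS (e ▸ hsS)) h1, hbz s' (fun e => hoS (e ▸ hs'S)) h2] at hI
      norm_num at hI
  obtain ⟨t, t', htt, hTeq⟩ := Finset.card_eq_two.1 hT
  obtain ⟨θ₂, hTeq', hne2⟩ : ∃ θ₂, T = {ξ, θ₂} ∧ ξ ≠ θ₂ := by
    rw [hTeq, Finset.mem_insert, Finset.mem_singleton] at hξT
    rcases hξT with rfl | rfl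
    · exact ⟨t', hTeq, htt⟩
    · exact ⟨t, by rw [hTeq, Finset.pair_comm], htt.symm⟩
  have hξS : ξ ∈ S := hSeq' ▸ Finset.mem_insert_self _ _
  have h1S : θ₁ ∈ S := hSeq' ▸ Finset.mem_insert_of_mem (Finset.mem_singleton_self _)
  have h2T : θ₂ ∈ T := hTeq' ▸ Finset.mem_insert_of_mem (Finset.mem_singleton_self _)
  have hθ₁o : θ₁ ≠ o := fun e => hoS (e ▸ h1S)
  have hsame : b ξ = a ξ := by
    rw [hSeq', Finset.sum_pair hne1, hbz θ₁ hθ₁o hθ₁T, mul_zero, add_zero] at hI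
    rcases hSv ξ hξS with e | e <;> rw [e] at hI ⊢ <;> linarith
  have hda' := hSum d
  have hdb' := hTum d
  rw [hda, hdo, hSeq', Finset.sum_pair hne1] at hda'
  rw [hdb, hdo, hTeq', Finset.sum_pair hne2, hsame] at hdb'
  have hopp : ∀ (c : ℤ) (θ : α), (c = 1 ∨ c = -1) → 0 = 1 + (a ξ * d ξ + c * d θ) →
      c = -a ξ ∧ d θ = d ξ + a ξ := by
    intro c θ hc he
    have := hd ξ
    have := hd θ
    rcases hSv ξ hξS with e | e <;> rcases hc with f | f <;> rw [e, f] at he <;> rw [e, f] <;>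
      constructor <;> omega
  obtain ⟨ha1, hd1⟩ := hopp _ θ₁ (hSv θ₁ h1S) hda'
  obtain ⟨hb2, hd2⟩ := hopp _ θ₂ (hTv θ₂ h2T) hdb'
  refine ⟨ξ, θ₁, θ₂, a ξ, hSv ξ hξS, fun e => hoS (e ▸ hξS), hθ₁o, fun e => hoT (e ▸ h2T), hne1, hne2,
    fun e => hθ₁T (e ▸ h2T), hd1, hd2, rfl, fun v => ?_, fun v => ?_⟩
  · rw [hSum v, hSeq', Finset.sum_pair hne1, ha1]; ring
  · rw [hTum v, hTeq', Finset.sum_pair hne2, hsame, hb2]; ring

/-- A function of norm three orthogonal to both has no component at the common constituent. -/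
theorem exc_zero {o ξ θ₁ θ₂ : α} {δ : ℤ} {a b d m : α → ℤ} (hd : ∀ χ, 0 < d χ) (hδ : δ = 1 ∨ δ = -1)
    (h1 : ξ ≠ θ₁) (h2 : ξ ≠ θ₂) (h3 : θ₁ ≠ θ₂)
    (hA : ∀ v : α → ℤ, ∑ χ, a χ * v χ = v o + (δ * v ξ - δ * v θ₁))
    (hB : ∀ v : α → ℤ, ∑ χ, b χ * v χ = v o + (δ * v ξ - δ * v θ₂))
    (ho : m o = 0) (hma : ∑ χ, a χ * m χ = 0) (hmb : ∑ χ, b χ * m χ = 0) (hmm : ∑ χ, m χ * m χ = 3)
    (hmd : ∑ χ, m χ * d χ = 0) : m ξ = 0 := by
  rw [hA m, ho] at hma
  rw [hB m, ho] at hmb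
  have e1 : m θ₁ = m ξ := by rcases hδ with e | e <;> rw [e] at hma <;> linarith
  have e2 : m θ₂ = m ξ := by rcases hδ with e | e <;> rw [e] at hmb <;> linarith
  by_contra h0
  set T : Finset α := {ξ, θ₁, θ₂}
  have hTs : ∀ f : α → ℤ, ∑ χ ∈ T, f χ = f ξ + (f θ₁ + f θ₂) := fun f => by
    rw [Finset.sum_insert (by simp [h1, h2]), Finset.sum_pair h3]
  have hle : ∑ χ ∈ T, m χ * m χ ≤ 3 :=
    hmm ▸ Finset.sum_le_sum_of_subset_of_nonneg (Finset.subset_univ _) (fun j _ _ => mul_self_nonneg (m j))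
  have hsplit := Finset.sum_add_sum_compl T (fun χ => m χ * m χ)
  have hsq : 1 ≤ m ξ * m ξ := by
    have := mul_self_pos.2 h0
    omega
  rw [hTs, e1, e2] at hle hsplit
  rw [hmm] at hsplit
  have hrest : ∑ χ ∈ Tᶜ, m χ * m χ = 0 := by
    have := Finset.sum_nonneg (s := Tᶜ) (f := fun χ => m χ * m χ) (fun j _ => mul_self_nonneg (m j))
    omega
  have hzero : ∀ χ ∈ Tᶜ, m χ * d χ = 0 := fun χ hχ => by
    have := (Finset.sum_eq_zero_iff_of_nonneg (fun j _ => mul_self_nonneg (m j))).1 hrest χ hχ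
    rw [mul_self_eq_zero.1 this, zero_mul]
  rw [← Finset.sum_add_sum_compl T, Finset.sum_eq_zero hzero, hTs, e1, e2, add_zero] at hmd
  have : m ξ * (d ξ + d θ₁ + d θ₂) = 0 := by linarith
  rcases mul_eq_zero.1 this with e | e
  · exact h0 e
  · have := hd ξ; have := hd θ₁; have := hd θ₂; omega

end Algebra

variable {G : Type u} [Group G] [Finite G]

/-- Character values on the powers of an element, averaged against a root of unity. -/
theorem sum_pow_char (χ : IrrCharacter G) {g : G} {m : ℕ} (hg : g ^ m = 1) {ψ : ℂ} (hψ : ψ ^ m = 1) :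
    ∃ N : ℤ, ∑ l ∈ Finset.range m, ψ ^ l * (χ : G → ℂ) (g ^ l) = (m : ℂ) * N := by
  classical
  obtain ⟨d, ρ, hρ⟩ := irr_isChar χ
  obtain ⟨b, c, -, hc, hk⟩ := Cfsg.Agent.Char.exists_rep_eigenbasis ρ g
  refine ⟨(((Finset.univ.filter (fun i => ψ * c i = 1)).card : ℕ) : ℤ), ?_⟩
  have hroot : ∀ i, (ψ * c i) ^ m = 1 := fun i => by
    obtain ⟨j, hj⟩ := orderOf_dvd_of_pow_eq_one hg
    rw [mul_pow, hψ, hj, pow_mul, hc i, one_pow, one_mul]
  calc ∑ l ∈ Finset.range m, ψ ^ l * (χ : G → ℂ) (g ^ l)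
      = ∑ i, ∑ l ∈ Finset.range m, (ψ * c i) ^ l := by
        rw [Finset.sum_comm]
        refine Finset.sum_congr rfl fun l _ => ?_
        rw [← hρ, hk, Finset.mul_sum]
        exact Finset.sum_congr rfl fun i _ => (mul_pow _ _ _).symm
    _ = ∑ i, if ψ * c i = 1 then (m : ℂ) else 0 := by
        refine Finset.sum_congr rfl fun i _ => ?_
        split_ifs with h
        · simp [h]
        · rw [geom_sum_eq h, hroot i, sub_self, zero_div]
    _ = _ := by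
        rw [← Finset.sum_filter, Finset.sum_const, nsmul_eq_mul, Int.cast_natCast, mul_comm]

/-- A nontrivial linear character does not exist. -/
theorem two_le_deg [IsSimpleGroup G] {x : G} (hx : IsConj x x⁻¹) (hx2 : x * x ≠ 1) (χ : IrrCharacter G)
    (hne : χ ≠ trivialIrr G) : 2 ≤ charDegree (χ : G → ℂ) := by
  have hpos := charDeg_pos χ
  by_contra hlt
  have h1 : (χ : G → ℂ) 1 = 1 := by
    rw [charDeg_spec' χ, show charDegree (χ : G → ℂ) = 1 by omega, Nat.cast_one]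
  obtain ⟨l, hl⟩ := Char.linearHom_of_isCharacter (Char.IsIrr.isCharacter χ.2) h1
  rcases IsSimpleGroup.eq_bot_or_eq_top_of_normal _ (MonoidHom.normal_ker l) with hb | ht
  · have hinj := (MonoidHom.ker_eq_bot_iff l).mp hb
    obtain ⟨c, hc⟩ := isConj_iff.1 hx
    refine hx2 ?_
    have e : x = x⁻¹ := by
      rw [← hc]
      apply hinj
      rw [map_mul, map_mul, map_inv, mul_comm (l c), mul_inv_cancel_right]
    nth_rewrite 2 [e]
    exact mul_inv_cancel x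
  · refine hne (Subtype.ext (funext fun g => ?_))
    have : l g = 1 := MonoidHom.mem_ker.mp (ht ▸ Subgroup.mem_top g)
    show (χ : G → ℂ) g = 1
    rw [hl]; simp [this]

/-- The coefficients `2 - e^j - e^{-j}`. -/
noncomputable def cof (e : ℂ) : Fin 2 → ℂ := ![2 - e - e ^ 4, 2 - e ^ 2 - e ^ 3]

/-- The three irreducible characters of the symmetric group of degree three. -/
def rho : Fin 3 → Fin 3 → ℤ := ![![1, 1, 1], ![1, 1, -1], ![2, -1, 0]]

/-- The coefficient function of an exceptional class function. -/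
noncomputable def vec (e : ℂ) (r : Fin 3) (i : Fin 2 × Fin 3) : ℂ :=
  cof e i.1 * (rho r i.2 : ℂ) / (cc i.2 : ℂ)

variable {z : G} {ι : Sixty →* G}

theorem NEmb.char_real (E : NEmb z ι) (χ : IrrCharacter G) (i : Fin 2 × Fin 3) :
    conj ((χ : G → ℂ) (ι (rep i))) = (χ : G → ℂ) (ι (rep i)) := by
  rw [← irr_apply_inv]
  obtain ⟨c, hc⟩ := isConj_iff.1 (E.real i)
  rw [← hc]
  exact irr_classFun χ _ c

theorem val_of_conj (χ : IrrCharacter G) (p q : Sixty) (hpq : ∃ c, c * p * c⁻¹ = q) :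
    (χ : G → ℂ) (ι p) = (χ : G → ℂ) (ι q) := by
  obtain ⟨c, rfl⟩ := hpq
  rw [map_mul, map_mul, map_inv]
  exact (irr_classFun χ _ _).symm

theorem sum_five (χ : IrrCharacter G) :
    ∃ N : ℤ, (χ : G → ℂ) 1 + 2 * (χ : G → ℂ) (ι (rep (0, 0))) + 2 * (χ : G → ℂ) (ι (rep (1, 0))) = 5 * N := by
  obtain ⟨N, hN⟩ := sum_pow_char χ (g := ι (.r 1, 1)) (m := 5)
    (by rw [← map_pow, show ((DihedralGroup.r 1, 1) : Sixty) ^ 5 = 1 by decide +kernel, map_one])
    (ψ := 1) (one_pow _)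
  refine ⟨N, Eq.trans ?_ (by exact_mod_cast hN)⟩
  simp only [Finset.sum_range_succ, Finset.sum_range_zero, one_pow, one_mul, zero_add, ← map_pow]
  rw [pow_zero, map_one, val_of_conj χ (((DihedralGroup.r 1, 1) : Sixty) ^ 1) (rep (0, 0)) (by decide +kernel),
    val_of_conj χ (((DihedralGroup.r 1, 1) : Sixty) ^ 2) (rep (1, 0)) (by decide +kernel),
    val_of_conj χ (((DihedralGroup.r 1, 1) : Sixty) ^ 3) (rep (1, 0)) (by decide +kernel),
    val_of_conj χ (((DihedralGroup.r 1, 1) : Sixty) ^ 4) (rep (0, 0)) (by decide +kernel)]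
  ring

theorem sum_two (E : NEmb z ι) (h2 : z * z = 1) (χ : IrrCharacter G) :
    ∃ N : ℤ, (χ : G → ℂ) 1 + (χ : G → ℂ) z = 2 * N := by
  obtain ⟨N, hN⟩ := sum_pow_char χ (g := z) (m := 2) (by rw [pow_two, h2]) (ψ := 1) (one_pow _)
  refine ⟨N, Eq.trans ?_ (by exact_mod_cast hN)⟩
  simp [Finset.sum_range_succ]

/-- The weighted sum over the powers of an element of order ten. -/
theorem sum_ten (E : NEmb z ι) (χ : IrrCharacter G) {e s : ℂ} (he : e ^ 5 = 1) (hs : s ^ 2 = 1) :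
    ∃ N : ℤ, (χ : G → ℂ) 1 + s * (χ : G → ℂ) z + (e + e ^ 4) * (s * (χ : G → ℂ) (ι (rep (0, 2))) + (χ : G → ℂ) (ι (rep (0, 0)))) +
      (e ^ 2 + e ^ 3) * (s * (χ : G → ℂ) (ι (rep (1, 2))) + (χ : G → ℂ) (ι (rep (1, 0)))) = 10 * N := by
  obtain ⟨N, hN⟩ := sum_pow_char χ (g := ι (.r 1, .sr 0)) (m := 10)
    (by rw [← map_pow, show ((DihedralGroup.r 1, DihedralGroup.sr 0) : Sixty) ^ 10 = 1 by decide +kernel, map_one])
    (ψ := s * e) (by rw [mul_pow, show 10 = 2 * 5 from rfl, pow_mul, hs, one_pow, mul_comm 2 5, pow_mul, he, one_pow,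
      one_mul])
  refine ⟨N, Eq.trans ?_ (by exact_mod_cast hN)⟩
  have w : ∀ l, e ^ l = e ^ (l % 5) := fun l => pow_eq_pow_mod l he
  have t : ∀ l, s ^ l = s ^ (l % 2) := fun l => pow_eq_pow_mod l hs
  simp only [Finset.sum_range_succ, Finset.sum_range_zero, zero_add, mul_pow, ← map_pow]
  set p : Sixty := (DihedralGroup.r 1, DihedralGroup.sr 0)
  rw [w 5, w 6, w 7, w 8, w 9, t 2, t 3, t 4, t 5, t 6, t 7, t 8, t 9]
  rw [pow_zero (M := Sixty) p, map_one, val_of_conj χ (p ^ 1) (rep (0, 2)) (by decide +kernel),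
    val_of_conj χ (p ^ 2) (rep (1, 0)) (by decide +kernel), val_of_conj χ (p ^ 3) (rep (1, 2)) (by decide +kernel),
    val_of_conj χ (p ^ 4) (rep (0, 0)) (by decide +kernel),
    show p ^ 5 = (1, DihedralGroup.sr 0) by decide +kernel, E.iz,
    val_of_conj χ (p ^ 6) (rep (0, 0)) (by decide +kernel), val_of_conj χ (p ^ 7) (rep (1, 2)) (by decide +kernel),
    val_of_conj χ (p ^ 8) (rep (1, 0)) (by decide +kernel), val_of_conj χ (p ^ 9) (rep (0, 2)) (by decide +kernel)]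
  norm_num
  ring

/-- The weighted sum over the powers of an element of order fifteen, with a cube root of unity. -/
theorem sum_fifteen (χ : IrrCharacter G) {e o : ℂ} (he : e ^ 5 = 1) (ho : o ^ 2 = -1 - o) :
    ∃ N : ℤ, (χ : G → ℂ) 1 - (χ : G → ℂ) (ι (1, .r 1)) +
      (e + e ^ 4) * ((χ : G → ℂ) (ι (rep (0, 0))) - (χ : G → ℂ) (ι (rep (0, 1)))) +
      (e ^ 2 + e ^ 3) * ((χ : G → ℂ) (ι (rep (1, 0))) - (χ : G → ℂ) (ι (rep (1, 1)))) = 15 * N := by
  have ho3 : o ^ 3 = 1 := by linear_combination (o - 1) * ho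
  obtain ⟨N, hN⟩ := sum_pow_char χ (g := ι (.r 1, .r 1)) (m := 15)
    (by rw [← map_pow, show ((DihedralGroup.r 1, DihedralGroup.r 1) : Sixty) ^ 15 = 1 by decide +kernel, map_one])
    (ψ := o * e) (by rw [mul_pow, show 15 = 3 * 5 from rfl, pow_mul, ho3, one_pow, mul_comm 3 5, pow_mul, he, one_pow,
      one_mul])
  refine ⟨N, Eq.trans ?_ (by exact_mod_cast hN)⟩
  have w : ∀ l, e ^ l = e ^ (l % 5) := fun l => pow_eq_pow_mod l he
  have t : ∀ l, o ^ l = o ^ (l % 3) := fun l => pow_eq_pow_mod l ho3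
  simp only [Finset.sum_range_succ, Finset.sum_range_zero, zero_add, mul_pow, ← map_pow]
  set p : Sixty := (DihedralGroup.r 1, DihedralGroup.r 1)
  rw [w 5, w 6, w 7, w 8, w 9, w 10, w 11, w 12, w 13, w 14, t 3, t 4, t 5, t 6, t 7, t 8, t 9, t 10, t 11,
    t 12, t 13, t 14]
  rw [pow_zero (M := Sixty) p, map_one, val_of_conj χ (p ^ 1) (rep (0, 1)) (by decide +kernel),
    val_of_conj χ (p ^ 2) (rep (1, 1)) (by decide +kernel), val_of_conj χ (p ^ 3) (rep (1, 0)) (by decide +kernel),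
    val_of_conj χ (p ^ 4) (rep (0, 1)) (by decide +kernel),
    val_of_conj χ (p ^ 5) (1, .r 1) (by decide +kernel),
    val_of_conj χ (p ^ 6) (rep (0, 0)) (by decide +kernel), val_of_conj χ (p ^ 7) (rep (1, 1)) (by decide +kernel),
    val_of_conj χ (p ^ 8) (rep (1, 1)) (by decide +kernel), val_of_conj χ (p ^ 9) (rep (0, 0)) (by decide +kernel),
    val_of_conj χ (p ^ 10) (1, .r 1) (by decide +kernel),
    val_of_conj χ (p ^ 11) (rep (0, 1)) (by decide +kernel), val_of_conj χ (p ^ 12) (rep (1, 0)) (by decide +kernel),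
    val_of_conj χ (p ^ 13) (rep (1, 1)) (by decide +kernel), val_of_conj χ (p ^ 14) (rep (0, 1)) (by decide +kernel)]
  norm_num [ho]
  ring

/-- The coefficients are integers. -/
theorem coef_int (E : NEmb z ι) (χ : IrrCharacter G) {e o : ℂ} (he : e ^ 5 = 1) (ho : o ^ 2 = -1 - o)
    (r : Fin 3) : ∃ n : ℤ, ∑ i, vec e r i * (χ : G → ℂ) (ι (rep i)) = n := by
  obtain ⟨A, hA⟩ := sum_fifteen (ι := ι) χ he ho
  obtain ⟨A', hA'⟩ := sum_fifteen (ι := ι) χ (e := 1) (one_pow _) ho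
  have hB : ∀ s : ℂ, s ^ 2 = 1 → ∃ B : ℤ, 10 * (B : ℂ) =
      (2 - e - e ^ 4) * (s * (χ : G → ℂ) (ι (rep (0, 2))) + (χ : G → ℂ) (ι (rep (0, 0)))) +
      (2 - e ^ 2 - e ^ 3) * (s * (χ : G → ℂ) (ι (rep (1, 2))) + (χ : G → ℂ) (ι (rep (1, 0)))) := by
    intro s hs
    obtain ⟨B, hB⟩ := sum_ten E χ he hs
    obtain ⟨B', hB'⟩ := sum_ten E χ (e := 1) (one_pow _) hs
    refine ⟨B' - B, ?_⟩
    push_cast
    linear_combination hB - hB'
  obtain ⟨P, hP⟩ := hB 1 (by norm_num)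
  obtain ⟨M, hM⟩ := hB (-1) (by norm_num)
  fin_cases r
  · refine ⟨P - (A' - A), ?_⟩
    simp [vec, cof, rho, cc, Fintype.sum_prod_type, Fin.sum_univ_succ]
    linear_combination (-(1 : ℂ) / 10) * hP - (1 / 15 : ℂ) * hA' + (1 / 15 : ℂ) * hA
  · refine ⟨M - (A' - A), ?_⟩
    simp [vec, cof, rho, cc, Fintype.sum_prod_type, Fin.sum_univ_succ]
    linear_combination (-(1 : ℂ) / 10) * hM - (1 / 15 : ℂ) * hA' + (1 / 15 : ℂ) * hA
  · refine ⟨A' - A, ?_⟩
    simp [vec, cof, rho, cc, Fintype.sum_prod_type, Fin.sum_univ_succ]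
    linear_combination (1 / 15 : ℂ) * hA' - (1 / 15 : ℂ) * hA

/-- Column orthogonality on the six classes. -/
theorem NEmb.orth (E : NEmb z ι) (v v' : Fin 2 × Fin 3 → ℂ) :
    ∑ χ : IrrCharacter G, (∑ i, v i * (χ : G → ℂ) (ι (rep i))) * (∑ i, v' i * (χ : G → ℂ) (ι (rep i))) =
      ∑ i, v i * v' i * (cc i.2 : ℂ) := by
  classical
  simp only [Finset.sum_mul, Finset.mul_sum]
  rw [Finset.sum_comm]
  refine Finset.sum_congr rfl fun i _ => ?_
  rw [Finset.sum_comm, Finset.sum_eq_single i]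
  · calc ∑ χ : IrrCharacter G, v i * (χ : G → ℂ) (ι (rep i)) * (v' i * (χ : G → ℂ) (ι (rep i)))
        = v i * v' i * ∑ χ : IrrCharacter G, (χ : G → ℂ) (ι (rep i)) * conj ((χ : G → ℂ) (ι (rep i))) := by
          rw [Finset.mul_sum]
          exact Finset.sum_congr rfl fun χ _ => by rw [E.char_real]; ring
      _ = v i * v' i * (cc i.2 : ℂ) := by
          rw [Cfsg.Agent.Char.sum_irr_mul_conj, if_pos (IsConj.refl _), E.cent]
  · intro i' _ hne
    calc ∑ χ : IrrCharacter G, v i' * (χ : G → ℂ) (ι (rep i')) * (v' i * (χ : G → ℂ) (ι (rep i)))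
        = v i' * v' i * ∑ χ : IrrCharacter G, (χ : G → ℂ) (ι (rep i')) * conj ((χ : G → ℂ) (ι (rep i))) := by
          rw [Finset.mul_sum]
          exact Finset.sum_congr rfl fun χ _ => by rw [E.char_real]; ring
      _ = 0 := by
          rw [Cfsg.Agent.Char.sum_irr_mul_conj, if_neg (fun e => hne (E.nconj _ _ e)), mul_zero]
  · exact fun h => absurd (Finset.mem_univ _) h

theorem NEmb.orth_out (E : NEmb z ι) (v : Fin 2 × Fin 3 → ℂ) {g : G} (hg : g * g = 1) :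
    ∑ χ : IrrCharacter G, (∑ i, v i * (χ : G → ℂ) (ι (rep i))) * (χ : G → ℂ) g = 0 := by
  classical
  simp only [Finset.sum_mul]
  rw [Finset.sum_comm]
  refine Finset.sum_eq_zero fun i _ => ?_
  calc ∑ χ : IrrCharacter G, v i * (χ : G → ℂ) (ι (rep i)) * (χ : G → ℂ) g
      = v i * ∑ χ : IrrCharacter G, (χ : G → ℂ) g * conj ((χ : G → ℂ) (ι (rep i))) := by
        rw [Finset.mul_sum]
        exact Finset.sum_congr rfl fun χ _ => by rw [E.char_real]; ring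
    _ = 0 := by
        rw [Cfsg.Agent.Char.sum_irr_mul_conj, if_neg ?_, mul_zero]
        intro e
        obtain ⟨c, hc⟩ := isConj_iff.1 e
        exact E.sq_ne i (by rw [← hc, conj_mul, hg, mul_one, mul_inv_cancel])

end Cfsg.Agent.Invol.J3Type
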