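import Cfsg.Agent.Lib.Invol.J3Type.Base

/-!
# The elements of order five and three in the centralizer of an involution
-/

set_option autoImplicit false
set_option linter.unusedSectionVars false
set_option linter.style.haveILetI false

namespace Cfsg.Agent.Invol.J3Type

open Cfsg Cfsg.Agent.Invol.HJ

theorem a5_five_cent : ∀ σ : alternatingGroup (Fin 5), σ ≠ 1 → σ * σ * σ * σ * σ = 1 →
    ∀ g : alternatingGroup (Fin 5), g * σ = σ * g →
      g = 1 ∨ g = σ ∨ g = σ * σ ∨ g = σ * σ * σ ∨ g = σ * σ * σ * σ := by decide +kernel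

theorem a5_five_inv : ∀ σ : alternatingGroup (Fin 5), σ ≠ 1 → σ * σ * σ * σ * σ = 1 →
    ∃ τ : alternatingGroup (Fin 5), τ ≠ 1 ∧ τ * τ = 1 ∧ τ * σ * τ⁻¹ = σ⁻¹ := by decide +kernel

theorem a5_five_not_sq : ∀ σ : alternatingGroup (Fin 5), σ ≠ 1 → σ * σ * σ * σ * σ = 1 →
    ∀ g : alternatingGroup (Fin 5), g * σ * g⁻¹ ≠ σ * σ := by decide +kernel

set_option synthInstance.maxSize 2000 in
theorem a5_three_data : ∀ σ : alternatingGroup (Fin 5), σ * σ * σ = 1 → σ ≠ 1 → ∃ l m : Fin 5, l ≠ m ∧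
    (σ : Equiv.Perm (Fin 5)) l = l ∧ (σ : Equiv.Perm (Fin 5)) m = m ∧
    (∃ τ : alternatingGroup (Fin 5), τ ≠ 1 ∧ τ * τ = 1 ∧ τ * σ * τ⁻¹ = σ⁻¹ ∧
      (τ : Equiv.Perm (Fin 5)) l = m ∧ (τ : Equiv.Perm (Fin 5)) m = l) := by decide +kernel

theorem a5_three_cent : ∀ σ : alternatingGroup (Fin 5), σ * σ * σ = 1 → σ ≠ 1 →
    ∀ g : alternatingGroup (Fin 5), g * σ = σ * g → g = 1 ∨ g = σ ∨ g = σ * σ := by decide +kernel

set_option synthInstance.maxSize 2000 in
theorem a5_three_vec : ∀ σ : alternatingGroup (Fin 5), σ * σ * σ = 1 → σ ≠ 1 → ∀ l m : Fin 5, l ≠ m →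
    (σ : Equiv.Perm (Fin 5)) l = l → (σ : Equiv.Perm (Fin 5)) m = m →
    ∀ v : Fin 5 → ZMod 2, ∑ i, v i = 0 → (∀ k, v ((σ : Equiv.Perm (Fin 5)) k) = v k) →
      v = 0 ∨ v = ev l ∨ v = ev m ∨ v = ev l + ev m := by decide +kernel

theorem a5_three_conj : ∀ σ τ : alternatingGroup (Fin 5), σ ≠ 1 → σ * σ * σ = 1 → τ ≠ 1 → τ * τ * τ = 1 →
    ∃ g, g * σ * g⁻¹ = τ := by decide +kernel

variable {G : Type*} [Group G] {z : G} {Q : Subgroup G}

theorem pow_five {H : Type*} [Monoid H] {x : H} (h : x ^ 5 = 1) : x * x * x * x * x = 1 := by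
  rw [← h]; simp only [pow_succ, pow_zero, one_mul]

theorem pow_three_one {H : Type*} [Monoid H] {x : H} (h : x ^ 3 = 1) : x * x * x = 1 := by
  rw [← h]; simp only [pow_succ, pow_zero, one_mul]

/-- An element of odd prime order in the centralizer lies outside `Q`. -/
theorem prime_not_mem {z : G} {Q : Subgroup G} [Finite G] (h : Core z Q) {p : ℕ} (hp : p.Prime)
    (hp2 : p ≠ 2) {c : G} (hc : orderOf c = p) : c ∉ Q := fun e => by
  have h1 := Subgroup.orderOf_dvd_natCard _ e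
  rw [hc, h.card_Q, show 32 = 2 ^ 5 by norm_num] at h1
  exact hp2 ((Nat.prime_dvd_prime_iff_eq hp Nat.prime_two).1 (hp.dvd_of_dvd_pow h1))

/-- An element of odd prime order inverted in the quotient is inverted by an element over the quotient involution. -/
theorem exists_inverter [Finite G] (h : Core z Q) (M : Model z Q) {p : ℕ} [Fact p.Prime] (hp2 : p ≠ 2)
    {e : G} (heC : e ∈ Subgroup.centralizer ({z} : Set G)) (he : orderOf e = p)
    (τ : alternatingGroup (Fin 5)) (hτ : τ * M.ptA ⟨e, heC⟩ * τ⁻¹ = (M.ptA ⟨e, heC⟩)⁻¹) :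
    ∃ c : Subgroup.centralizer ({z} : Set G), M.ptA c = τ ∧ (c : G) * e * (c : G)⁻¹ = e⁻¹ := by
  obtain ⟨d, rfl⟩ := M.ptA_surjective τ
  have hQp : ¬ p ∣ Nat.card Q := by
    rw [h.card_Q]
    intro hd
    exact hp2 ((Nat.prime_dvd_prime_iff_eq Fact.out Nat.prime_two).1
      ((Fact.out : p.Prime).dvd_of_dvd_pow (show p ∣ 2 ^ 5 by simpa using hd)))
  have hm : (((d : G) * e * (d : G)⁻¹)⁻¹ * e⁻¹) ∈ Q := by
    have h1 : M.ptA ((d * ⟨e, heC⟩ * d⁻¹)⁻¹ * ⟨e, heC⟩⁻¹) = 1 := by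
      rw [map_mul, map_inv, map_mul, map_mul, map_inv, map_inv, hτ]; group
    exact (M.ptA_ker _).1 h1
  obtain ⟨q, hq, hqe⟩ := coset_conj_coprime (e := (d : G) * e * (d : G)⁻¹) (e' := e⁻¹) Q hQp
    (by rw [orderOf_conj', he]) (by rw [orderOf_inv, he])
    (fun r hr => h.norm _ (mul_mem (mul_mem d.2 heC) (inv_mem d.2)) r hr) hm
  refine ⟨⟨q, h.le_C hq⟩ * d, ?_, ?_⟩
  · rw [map_mul, (M.ptA_ker ⟨q, h.le_C hq⟩).2 hq, one_mul]
  · rw [← hqe]; push_cast; group

/-- The data at an element of order five. -/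
structure WData (z : G) (Q : Subgroup G) (w n : G) : Prop where
  wC : w ∈ Subgroup.centralizer ({z} : Set G)
  w5 : orderOf w = 5
  span : ∀ c ∈ Subgroup.centralizer ({z} : Set G), c * w = w * c → ∃ j : ℕ, c = w ^ j ∨ c = z * w ^ j
  card : Nat.card (Subgroup.centralizer ({w} : Set G) ⊓ Subgroup.centralizer ({z} : Set G) : Subgroup G) = 10
  nC : n ∈ Subgroup.centralizer ({z} : Set G)
  n2 : n * n = 1
  nQ : n ∉ Q
  ninv : n * w * n⁻¹ = w⁻¹
  not_sq : ∀ c ∈ Subgroup.centralizer ({z} : Set G), c * w * c⁻¹ ≠ w * w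
  conj_pow : ∀ v ∈ Subgroup.centralizer ({z} : Set G), orderOf v = 5 →
    ∃ c ∈ Subgroup.centralizer ({z} : Set G), c * v * c⁻¹ ∈ Subgroup.zpowers w

theorem exists_five_data [Finite G] [IsSimpleGroup G] (h : Setting z Q) : ∃ w n, WData z Q w n := by
  classical
  obtain ⟨M⟩ := h.toCore.model
  obtain ⟨w, hwC, hw5⟩ := h.toCore.exists_five
  haveI : Fact (Nat.Prime 5) := ⟨by norm_num⟩
  have hwQ := prime_not_mem h.toCore (by norm_num : Nat.Prime 5) (by norm_num) hw5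
  set σ := M.ptA ⟨w, hwC⟩ with hσ
  have hσ1 : σ ≠ 1 := fun e => hwQ ((M.ptA_ker _).1 e)
  have hσ5 : σ * σ * σ * σ * σ = 1 := pow_five (by
    rw [hσ, ← map_pow, ← map_one M.ptA]
    exact congrArg M.ptA (Subtype.ext (by push_cast; exact hw5 ▸ pow_orderOf_eq_one w)))
  have hspan : ∀ c ∈ Subgroup.centralizer ({z} : Set G), c * w = w * c → ∃ j : ℕ, c = w ^ j ∨ c = z * w ^ j := by
    intro c hc hcw
    have hcomm : M.ptA ⟨c, hc⟩ * σ = σ * M.ptA ⟨c, hc⟩ := by
      rw [hσ, ← map_mul, ← map_mul]; exact congrArg M.ptA (Subtype.ext hcw)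
    obtain ⟨j, hj⟩ : ∃ j : ℕ, M.ptA ⟨c, hc⟩ = σ ^ j := by
      rcases a5_five_cent σ hσ1 hσ5 _ hcomm with e | e | e | e | e
      · exact ⟨0, by rw [e, pow_zero]⟩
      · exact ⟨1, by rw [e, pow_one]⟩
      · exact ⟨2, by rw [e, pow_two]⟩
      · exact ⟨3, by rw [e]; simp only [pow_succ, pow_zero, one_mul]⟩
      · exact ⟨4, by rw [e]; simp only [pow_succ, pow_zero, one_mul]⟩
    have hq : c * (w ^ j)⁻¹ ∈ Q := (M.ptA_ker (⟨c, hc⟩ * (⟨w, hwC⟩ ^ j)⁻¹)).1 (by
      rw [map_mul, map_inv, map_pow, hj, mul_inv_cancel])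
    have hcq : w * (c * (w ^ j)⁻¹) = c * (w ^ j)⁻¹ * w := by
      rw [← mul_assoc, ← hcw, mul_assoc, mul_assoc, ((Commute.refl w).pow_right j).inv_right.eq]
    refine ⟨j, (h.toCore.fix_five hwC hw5 hq hcq).imp (fun e => mul_inv_eq_one.1 e) fun e => ?_⟩
    exact mul_inv_eq_iff_eq_mul.1 e
  obtain ⟨τ, hτ1, hτ2, hτ⟩ := a5_five_inv σ hσ1 hσ5
  obtain ⟨c, hcτ, hcw⟩ := exists_inverter h.toCore M (p := 5) (by norm_num) hwC hw5 τ hτ
  have hcQ : (c : G) ∉ Q := fun e => hτ1 (hcτ ▸ (M.ptA_ker c).2 e)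
  have hccQ : (c : G) * c ∈ Q := (M.ptA_ker (c * c)).1 (by rw [map_mul, hcτ, hτ2])
  have hccw : w * ((c : G) * c) = (c : G) * c * w := by
    have e1 : (c : G) * c * w * ((c : G) * c)⁻¹ = w := by
      calc (c : G) * c * w * ((c : G) * c)⁻¹ = (c : G) * ((c : G) * w * (c : G)⁻¹) * (c : G)⁻¹ := by group
        _ = w := by rw [hcw, ← conj_inv, hcw, inv_inv]
    exact (mul_inv_eq_iff_eq_mul.1 e1).symm
  refine ⟨w, c, hwC, hw5, hspan, ?_, c.2, ?_, hcQ, hcw, fun d hd e => ?_, fun v hv hv5 => ?_⟩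
  · apply le_antisymm
    · have hw : ∀ j : ℕ, w ^ j = w ^ (j % 5) := fun j => by rw [← hw5, pow_mod_orderOf]
      let f : Bool × Fin 5 → G := fun p => (if p.1 then z else 1) * w ^ (p.2 : ℕ)
      calc Nat.card (Subgroup.centralizer ({w} : Set G) ⊓ Subgroup.centralizer ({z} : Set G) : Subgroup G)
          ≤ Nat.card (Set.range f) := by
            refine Nat.card_mono (Set.toFinite _) fun g hg => ?_
            obtain ⟨j, e | e⟩ := hspan g hg.2 (mem_cent_iff.1 hg.1)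
            · exact ⟨(false, ⟨j % 5, Nat.mod_lt _ (by norm_num)⟩), by simp [f, e, ← hw]⟩
            · exact ⟨(true, ⟨j % 5, Nat.mod_lt _ (by norm_num)⟩), by simp [f, e, ← hw]⟩
        _ ≤ 10 := (Finite.card_range_le f).trans (by simp)
    · have hz10 : orderOf (z * w) = 10 := by
        rw [(show Commute z w from (h.toCore.cz hwC).symm).orderOf_mul_eq_mul_orderOf_of_coprime, h.hz, hw5]
        rw [h.hz, hw5]; norm_num
      have hle : Subgroup.zpowers (z * w) ≤ Subgroup.centralizer ({w} : Set G) ⊓ Subgroup.centralizer ({z} : Set G) :=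
        Subgroup.zpowers_le.2 (Subgroup.mem_inf.2
          ⟨mul_mem (mem_cent_iff.2 (h.toCore.cz hwC).symm) (mem_cent_iff.2 rfl), mul_mem h.toCore.z_mem_C hwC⟩)
      have := Subgroup.card_le_of_le hle
      rwa [Nat.card_zpowers, hz10] at this
  · rcases h.toCore.fix_five hwC hw5 hccQ hccw with e | e
    · exact e
    · exact absurd e (sq_ne_z h c.2 hcQ)
  · refine a5_five_not_sq σ hσ1 hσ5 (M.ptA ⟨d, hd⟩) ?_
    rw [hσ, ← map_inv, ← map_mul, ← map_mul, ← map_mul]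
    exact congrArg M.ptA (Subtype.ext e)
  · obtain ⟨P, hP⟩ := (IsPGroup.of_card (n := 1) (p := 5)
      (by rw [Nat.card_zpowers, Subgroup.orderOf_mk, hv5, pow_one]) :
      IsPGroup 5 (Subgroup.zpowers (⟨v, hv⟩ : Subgroup.centralizer ({z} : Set G)))).exists_le_sylow
    obtain ⟨P', hP'⟩ := (IsPGroup.of_card (n := 1) (p := 5)
      (by rw [Nat.card_zpowers, Subgroup.orderOf_mk, hw5, pow_one]) :
      IsPGroup 5 (Subgroup.zpowers (⟨w, hwC⟩ : Subgroup.centralizer ({z} : Set G)))).exists_le_sylow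
    have hP'c : Nat.card (P' : Subgroup (Subgroup.centralizer ({z} : Set G))) = 5 := by
      rw [P'.card_eq_multiplicity, h.toCore.card_C]
      have e1 : (1920 : ℕ).factorization 5 = 1 := by
        rw [show (1920 : ℕ) = 5 ^ 1 * 384 by norm_num,
          Nat.factorization_mul (by norm_num) (by norm_num), Finsupp.add_apply,
          (show Nat.Prime 5 by norm_num).factorization_pow, Finsupp.single_eq_same,
          Nat.factorization_eq_zero_of_not_dvd (by norm_num)]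
      rw [e1, pow_one]
    have hP'eq : Subgroup.zpowers (⟨w, hwC⟩ : Subgroup.centralizer ({z} : Set G)) = P' :=
      Subgroup.eq_of_le_of_card_ge hP' (by rw [hP'c, Nat.card_zpowers, Subgroup.orderOf_mk, hw5])
    obtain ⟨g, hg⟩ := MulAction.exists_smul_eq (Subgroup.centralizer ({z} : Set G)) P P'
    refine ⟨g, g.2, ?_⟩
    have hmem : g * ⟨v, hv⟩ * g⁻¹ ∈ Subgroup.zpowers (⟨w, hwC⟩ : Subgroup.centralizer ({z} : Set G)) := by
      rw [hP'eq, ← hg, Sylow.coe_subgroup_smul]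
      exact ⟨_, hP (Subgroup.mem_zpowers _), rfl⟩
    obtain ⟨k, hk⟩ := hmem
    exact ⟨k, by simpa using congrArg Subtype.val hk⟩

/-- The eight elements of the dihedral group fixed by an element of order three. -/
def InD8 (z a b d : G) : Prop :=
  d = 1 ∨ d = z ∨ d = a ∨ d = z * a ∨ d = b ∨ d = z * b ∨ d = a * b ∨ d = z * (a * b)

/-- The data at an element of order three. -/
structure YData (z : G) (Q : Subgroup G) (y a b n : G) : Prop where
  yC : y ∈ Subgroup.centralizer ({z} : Set G)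
  y3 : orderOf y = 3
  aX : a ∈ nonCentralInvol z Q
  bX : b ∈ nonCentralInvol z Q
  ab : a * b = z * (b * a)
  ay : a * y = y * a
  byc : b * y = y * b
  span : ∀ c ∈ Subgroup.centralizer ({z} : Set G), c * y = y * c → ∃ d, InD8 z a b d ∧ ∃ j : ℕ, c = d * y ^ j
  nC : n ∈ Subgroup.centralizer ({z} : Set G)
  n2 : n * n = 1
  nQ : n ∉ Q
  ninv : n * y * n⁻¹ = y⁻¹
  nab : n * a * n⁻¹ = b
  conj3 : ∀ c ∈ Subgroup.centralizer ({z} : Set G), orderOf c = 3 →
    ∃ d ∈ Subgroup.centralizer ({z} : Set G), d * c * d⁻¹ = y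

set_option maxHeartbeats 1000000 in
theorem exists_three_data [Finite G] [IsSimpleGroup G] (h : Setting z Q) : ∃ y a b n, YData z Q y a b n := by
  classical
  obtain ⟨M⟩ := h.toCore.model
  haveI : Fact (Nat.Prime 3) := ⟨Nat.prime_three⟩
  obtain ⟨y0, hy0⟩ := exists_prime_orderOf_dvd_card' (G := Subgroup.centralizer ({z} : Set G)) 3
    (by rw [h.toCore.card_C]; norm_num)
  rw [← Subgroup.orderOf_coe] at hy0
  set y : G := (y0 : G) with hy
  have hyC : y ∈ Subgroup.centralizer ({z} : Set G) := y0.2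
  have hy3 : orderOf y = 3 := hy0
  have hyQ := prime_not_mem h.toCore Nat.prime_three (by norm_num) hy3
  set σ := M.ptA ⟨y, hyC⟩ with hσ
  have hσ1 : σ ≠ 1 := fun e => hyQ ((M.ptA_ker _).1 e)
  have hσ3 : σ * σ * σ = 1 := pow_three_one (by
    rw [hσ, ← map_pow, ← map_one M.ptA]
    exact congrArg M.ptA (Subtype.ext (by push_cast; exact hy3 ▸ pow_orderOf_eq_one y)))
  obtain ⟨l, m, hlm, hl, hm, ⟨τ, hτ1, hτ2, hτ, hτl, hτm⟩⟩ := a5_three_data σ hσ3 hσ1
  have hinv := a5_three_vec σ hσ3 hσ1 l m hlm hl hm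
  have hcent := a5_three_cent σ hσ3 hσ1
  have hy33 : y * y * y = 1 := pow_three_one (hy3 ▸ pow_orderOf_eq_one y)
  have hfix : ∀ i, (σ : Equiv.Perm (Fin 5)) i = i → M.a i * y = y * M.a i := by
    intro i hi
    have hpt : M.pt ⟨y, hyC⟩ i = i := by rw [← M.ptA_coe]; exact hi
    rcases M.pt_spec ⟨y, hyC⟩ i with e | e <;> rw [hpt] at e
    · exact (mul_inv_eq_iff_eq_mul.1 e).symm
    · exfalso
      have hz' : y * z * y⁻¹ = z := by rw [h.toCore.cz hyC, mul_inv_cancel_right]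
      have e2 : y * (y * M.a i * y⁻¹) * y⁻¹ = M.a i := by
        have e' : y * M.a i * y⁻¹ = z * M.a i := e
        rw [e', ← conj_mul, hz', e', ← mul_assoc, h.toCore.z_sq, one_mul]
      have e3 : y * y * y * M.a i * (y * y * y)⁻¹ = y * (y * (y * M.a i * y⁻¹) * y⁻¹) * y⁻¹ := by group
      rw [hy33, e2, one_mul, inv_one, mul_one] at e3
      exact h.toCore.ne_one (mul_eq_right.1 (e3.trans e).symm)
  obtain ⟨c, hcτ, hcy⟩ := exists_inverter h.toCore M (p := 3) (by norm_num) hyC hy3 τ hτ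
  have hcQ : (c : G) ∉ Q := fun e => hτ1 (hcτ ▸ (M.ptA_ker c).2 e)
  have hccQ : (c : G) * c ∈ Q := (M.ptA_ker (c * c)).1 (by rw [map_mul, hcτ, hτ2])
  have hccy : (c : G) * c * y = y * ((c : G) * c) := by
    have e1 : (c : G) * c * y * ((c : G) * c)⁻¹ = y := by
      calc (c : G) * c * y * ((c : G) * c)⁻¹ = (c : G) * ((c : G) * y * (c : G)⁻¹) * (c : G)⁻¹ := by group
        _ = y := by rw [hcy, ← conj_inv, hcy, inv_inv]
    exact mul_inv_eq_iff_eq_mul.1 e1
  set a := M.a l with ha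
  set b0 := M.a m with hb0
  have hab0 : a * b0 = z * (b0 * a) := (h.comm _ (M.mem l).1 _ (M.mem m).1).resolve_left (M.anti l m hlm)
  have hDlist : ∀ q ∈ Q, q * y = y * q → InD8 z a b0 q := by
    intro q hq hqy
    have hv : ∀ k, M.vec q ((σ : Equiv.Perm (Fin 5)) k) = M.vec q k := fun k => by
      have h1 := M.vec_conj h.toCore ⟨y, hyC⟩ hq k
      rw [show y * q * y⁻¹ = q by rw [← hqy, mul_inv_cancel_right], ← M.ptA_coe] at h1
      exact h1
    rcases hinv _ (M.vec_even h.toCore hq) hv with e | e | e | e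
    · rcases (M.vec_basic h.toCore).2 q hq e with e' | e'
      · exact Or.inl e'
      · exact Or.inr (Or.inl e')
    · rcases M.vec_inj h.toCore (M.mem l).1 hq (by rw [M.vec_a, e]) with e' | e'
      · exact Or.inr (Or.inr (Or.inl e'))
      · exact Or.inr (Or.inr (Or.inr (Or.inl e')))
    · rcases M.vec_inj h.toCore (M.mem m).1 hq (by rw [M.vec_a, e]) with e' | e'
      · exact Or.inr (Or.inr (Or.inr (Or.inr (Or.inl e'))))
      · exact Or.inr (Or.inr (Or.inr (Or.inr (Or.inr (Or.inl e')))))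
    · rcases M.vec_inj h.toCore (Q.mul_mem (M.mem l).1 (M.mem m).1) hq
        (by rw [M.vec_mul h.toCore (M.mem l).1 (M.mem m).1, M.vec_a, M.vec_a, e]) with e' | e'
      · exact Or.inr (Or.inr (Or.inr (Or.inr (Or.inr (Or.inr (Or.inl e'))))))
      · exact Or.inr (Or.inr (Or.inr (Or.inr (Or.inr (Or.inr (Or.inr e'))))))
  have hcmap : ∀ i j, (τ : Equiv.Perm (Fin 5)) i = j →
      (c : G) * M.a i * (c : G)⁻¹ = M.a j ∨ (c : G) * M.a i * (c : G)⁻¹ = z * M.a j := by
    intro i j hij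
    have := M.pt_spec c i
    rwa [← M.ptA_coe, hcτ, hij] at this
  have hz_c : ∀ g : G, g * z = z * g → g * z * g⁻¹ = z := fun g hg => by rw [hg, mul_inv_cancel_right]
  have hczc := hz_c _ (h.toCore.cz c.2)
  -- adjust the inverter to an involution
  obtain ⟨n, hn, hn2, hnQ, hnY, hnmap⟩ : ∃ n ∈ Subgroup.centralizer ({z} : Set G), n * n = 1 ∧ n ∉ Q ∧
      n * y * n⁻¹ = y⁻¹ ∧ (n * a * n⁻¹ = b0 ∨ n * a * n⁻¹ = z * b0) := by
    have hsame : ∀ i j, (τ : Equiv.Perm (Fin 5)) i = j → i ≠ j → ∀ q, (q = M.a i ∨ q = z * M.a i) →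
        (c : G) * c = q → False := by
      intro i j hij hne q hqq hcc
      have hfixq : (c : G) * q * (c : G)⁻¹ = q := by rw [← hcc]; group
      have hvq : M.vec q = ev i := by
        rcases hqq with e | e <;> rw [e]
        · exact M.vec_a i
        · rw [M.vec_mul h.toCore h.mem_z (M.mem i).1, M.vec_z h.toCore, zero_add, M.vec_a]
      have hqQ : q ∈ Q := hcc ▸ hccQ
      have h1 := M.vec_conj h.toCore c hqQ i
      rw [hfixq, ← M.ptA_coe, hcτ, hij, hvq, ev, ev, if_neg (Ne.symm hne), if_pos rfl] at h1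
      exact absurd h1 (by decide)
    rcases hDlist _ hccQ hccy with e | e | e | e | e | e | e | e
    · exact ⟨c, c.2, e, hcQ, hcy, hcmap l m hτl⟩
    · exact absurd e (sq_ne_z h c.2 hcQ)
    · exact (hsame l m hτl hlm _ (Or.inl rfl) e).elim
    · exact (hsame l m hτl hlm _ (Or.inr rfl) e).elim
    · exact (hsame m l hτm (Ne.symm hlm) _ (Or.inl rfl) e).elim
    · exact (hsame m l hτm (Ne.symm hlm) _ (Or.inr rfl) e).elim
    all_goals
      have haQ : (c : G) * a ∉ Q := fun e' => hcQ (by simpa [ha] using Q.mul_mem e' (Q.inv_mem (M.mem l).1))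
      refine ⟨(c : G) * a, mul_mem c.2 (h.le_C (M.mem l).1), ?_, haQ, ?_, ?_⟩
      · have hkey : ((c : G) * a) * ((c : G) * a) = 1 ∨ ((c : G) * a) * ((c : G) * a) = z := by
          have e1 : (c : G) * a * ((c : G) * a) = ((c : G) * a * (c : G)⁻¹) * ((c : G) * c) * a := by group
          have hbb : b0 * b0 = 1 := (M.mem m).2.1
          have haa : a * a = 1 := (M.mem l).2.1
          have e2 : b0 * (a * b0) * a = z := by
            calc b0 * (a * b0) * a = b0 * (z * (b0 * a)) * a := by rw [hab0]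
              _ = (b0 * z) * b0 * (a * a) := by group
              _ = z * (b0 * b0) := by rw [haa, mul_one, h.toCore.zq (M.mem m).1, mul_assoc]
              _ = z := by rw [hbb, mul_one]
          have hzb : b0 * z = z * b0 := h.toCore.zq (M.mem m).1
          rcases hcmap l m hτl with e3 | e3 <;> rw [e1, e3, e]
          · first
              | exact Or.inr e2
              | exact Or.inl (by rw [← mul_assoc b0, hzb, mul_assoc z, mul_assoc z, e2, h.toCore.z_sq])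
          · first
              | exact Or.inl (by rw [mul_assoc z b0, mul_assoc z, e2, h.toCore.z_sq])
              | exact Or.inr (by rw [mul_assoc z b0, ← mul_assoc b0, hzb, mul_assoc z b0, mul_assoc z, mul_assoc z, e2, h.toCore.z_sq, mul_one])
        exact hkey.resolve_right (sq_ne_z h (mul_mem c.2 (h.le_C (M.mem l).1)) haQ)
      · calc (c : G) * a * y * ((c : G) * a)⁻¹ = (c : G) * (a * y * a⁻¹) * (c : G)⁻¹ := by group
          _ = y⁻¹ := by rw [hfix l hl, mul_inv_cancel_right, hcy]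
      · have e4 : (c : G) * a * a * ((c : G) * a)⁻¹ = (c : G) * a * (c : G)⁻¹ := by group
        rw [e4]
        exact hcmap l m hτl
  set b := n * a * n⁻¹ with hb
  have hbX : b ∈ nonCentralInvol z Q := h.toCore.invol_conj hn (M.mem l)
  have hbQ := hbX.1
  have hab : a * b = z * (b * a) := by
    rcases hnmap with e | e <;> rw [e]
    · exact hab0
    · rw [← mul_assoc, h.toCore.zq (M.mem l).1, mul_assoc z, hab0, mul_assoc z b0]
  have hby : b * y = y * b := by
    have e0 : b0 * y = y * b0 := hfix m hm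
    rcases hnmap with e | e <;> rw [e]
    · exact e0
    · rw [mul_assoc, e0, ← mul_assoc, ← h.toCore.cz hyC, mul_assoc]
  have hD : ∀ q, InD8 z a b0 q → InD8 z a b q := by
    intro q hq
    rcases hnmap with e | e
    · rw [e]; exact hq
    · have hzz := h.toCore.z_sq
      have hza : a * z = z * a := h.toCore.zq (M.mem l).1
      have eb : b0 = z * b := by rw [e, ← mul_assoc, hzz, one_mul]
      have eab : a * b0 = z * (a * b) := by rw [eb, ← mul_assoc, hza, mul_assoc]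
      rcases hq with r | r | r | r | r | r | r | r <;> subst r
      · exact Or.inl rfl
      · exact Or.inr (Or.inl rfl)
      · exact Or.inr (Or.inr (Or.inl rfl))
      · exact Or.inr (Or.inr (Or.inr (Or.inl rfl)))
      · exact Or.inr (Or.inr (Or.inr (Or.inr (Or.inr (Or.inl eb)))))
      · exact Or.inr (Or.inr (Or.inr (Or.inr (Or.inl (by rw [eb, ← mul_assoc, hzz, one_mul])))))
      · exact Or.inr (Or.inr (Or.inr (Or.inr (Or.inr (Or.inr (Or.inr eab))))))
      · exact Or.inr (Or.inr (Or.inr (Or.inr (Or.inr (Or.inr (Or.inl (by rw [eab, ← mul_assoc, hzz, one_mul])))))))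
  refine ⟨y, a, b, n, hyC, hy3, M.mem l, hbX, hab, hfix l hl, hby, ?_, hn, hn2, hnQ, hnY, hb.symm, ?_⟩
  · intro d hd hdy
    have hcomm : M.ptA ⟨d, hd⟩ * σ = σ * M.ptA ⟨d, hd⟩ := by
      rw [hσ, ← map_mul, ← map_mul]; exact congrArg M.ptA (Subtype.ext hdy)
    obtain ⟨j, hj⟩ : ∃ j : ℕ, M.ptA ⟨d, hd⟩ = σ ^ j := by
      rcases hcent _ hcomm with e | e | e
      · exact ⟨0, by rw [e, pow_zero]⟩
      · exact ⟨1, by rw [e, pow_one]⟩
      · exact ⟨2, by rw [e, pow_two]⟩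
    have hq : d * (y ^ j)⁻¹ ∈ Q := (M.ptA_ker (⟨d, hd⟩ * (⟨y, hyC⟩ ^ j)⁻¹)).1 (by
      rw [map_mul, map_inv, map_pow, hj, mul_inv_cancel])
    refine ⟨d * (y ^ j)⁻¹, hD _ (hDlist _ hq ?_), j, by rw [inv_mul_cancel_right]⟩
    rw [mul_assoc, ← ((Commute.refl y).pow_right j).inv_right.eq, ← mul_assoc, hdy, mul_assoc]
  · intro d hd hd3
    have hdQ := prime_not_mem h.toCore Nat.prime_three (by norm_num) hd3
    have hd1 : M.ptA ⟨d, hd⟩ ≠ 1 := fun e => hdQ ((M.ptA_ker _).1 e)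
    have hd33 : M.ptA ⟨d, hd⟩ * M.ptA ⟨d, hd⟩ * M.ptA ⟨d, hd⟩ = 1 := pow_three_one (by
      rw [← map_pow, ← map_one M.ptA]
      exact congrArg M.ptA (Subtype.ext (by push_cast; exact hd3 ▸ pow_orderOf_eq_one d)))
    obtain ⟨g, hg⟩ := a5_three_conj _ _ hd1 hd33 hσ1 hσ3
    obtain ⟨g', rfl⟩ := M.ptA_surjective g
    have hm' : ((g' : G) * d * (g' : G)⁻¹)⁻¹ * y ∈ Q :=
      (M.ptA_ker ((g' * ⟨d, hd⟩ * g'⁻¹)⁻¹ * ⟨y, hyC⟩)).1 (by
        rw [map_mul, map_inv, map_mul, map_mul, map_inv, hg, ← hσ, inv_mul_cancel])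
    obtain ⟨q, hqQ, hqe⟩ := coset_conj_coprime (p := 3) Q (by rw [h.card_Q]; norm_num)
      (by rw [orderOf_conj', hd3]) hy3
      (fun r hr => h.norm _ (mul_mem (mul_mem g'.2 hd) (inv_mem g'.2)) r hr) hm'
    exact ⟨q * g', mul_mem (h.le_C hqQ) g'.2, by rw [← hqe]; group⟩

end Cfsg.Agent.Invol.J3Type
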