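import Cfsg.Agent.Lib.Invol.J3Type.Chars

/-!
The equation for the group order coming from the common constituent of the exceptional class
functions.
-/

set_option autoImplicit false
set_option linter.unusedSectionVars false
set_option linter.style.haveILetI false

open scoped ComplexConjugate

namespace Cfsg.Agent.Invol.J3Type

open Cfsg Cfsg.Agent Cfsg.Agent.Block Cfsg.Agent.Invol.HJ

universe u

variable {G : Type u} [Group G] [Finite G] {z : G} {Q : Subgroup G} {ι : Sixty →* G}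

theorem involution_iff (h : Setting z Q) (a : G) : IsConj z a ↔ a * a = 1 ∧ a ≠ 1 := by
  constructor
  · intro ha
    obtain ⟨c, rfl⟩ := isConj_iff.1 ha
    refine ⟨by rw [conj_mul, h.toCore.z_sq, mul_one, mul_inv_cancel], fun e => ?_⟩
    rw [conj_eq_one_iff] at e
    have := h.hz
    rw [e, orderOf_one] at this
    norm_num at this
  · rintro ⟨h1, h2⟩
    exact (h.one a (two_iff.2 ⟨h1, h2⟩)).symm

/-- The number of ways of writing a fixed involution times an involution in a given class. -/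
theorem NEmb.pairs [Fintype G] (E : NEmb z ι) (h : Setting z Q) (i : Fin 2 × Fin 3) :
    (Nat.card {u : G // IsConj z u ∧ IsConj (ι (rep i)) (z * u)} : ℂ) *
      (cc i.2 : ℂ) = 1920 * (ninv i.2 : ℂ) := by
  classical
  rw [Nat.card_eq_fintype_card, Fintype.card_subtype]
  set X := ι (rep i)
  set K := Finset.univ.filter (fun a : G => IsConj z a)
  set Kx := Finset.univ.filter (fun y : G => IsConj X y)
  set N := (Finset.univ.filter (fun u : G => IsConj z u ∧ IsConj X (z * u))).card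
  have hK : (Nat.card G : ℂ) = 1920 * (K.card : ℂ) := by
    have := D8Order.sum_conj_eq z (fun _ => (1 : ℂ))
    rw [h.toCore.card_C] at this
    simpa [Nat.card_eq_fintype_card, K] using this
  have hKx : (Nat.card G : ℂ) = (cc i.2 : ℂ) * (Kx.card : ℂ) := by
    have := D8Order.sum_conj_eq X (fun _ => (1 : ℂ))
    rw [E.cent] at this
    simpa [Nat.card_eq_fintype_card, Kx] using this
  have hy : ∀ y ∈ Kx, (K.filter (fun a => IsConj z (a * y))).card = ninv i.2 := by
    intro y hy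
    obtain ⟨c, hc⟩ := isConj_iff.1 (Finset.mem_filter.1 hy).2
    rw [← E.count i, Nat.card_eq_fintype_card]
    have hinv : ∀ a : G, IsConj z a → IsConj z (a * y) → a * y * a⁻¹ = y⁻¹ := by
      intro a ha hay
      have h1 := ((involution_iff h a).1 ha).1
      have h2 := ((involution_iff h _).1 hay).1
      rw [inv_eq_of_mul_eq_one_right h1]
      exact eq_inv_of_mul_eq_one_left (by rwa [mul_assoc (a * y) a y])
    symm
    refine Finset.card_bij (fun a _ => c * a.1 * c⁻¹) ?_ ?_ ?_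
    · rintro ⟨a, ha2, ha1, hainv⟩ -
      have hkey : IsConj z (c * (a * X) * c⁻¹) := by
        refine (involution_iff h _).2 ⟨?_, ?_⟩
        · rw [conj_mul, show a * X * (a * X) = a * X * a⁻¹ * (a * a) * X by group, hainv, ha2, mul_one,
            inv_mul_cancel, mul_one, mul_inv_cancel]
        · intro e
          rw [conj_eq_one_iff] at e
          exact E.sq_ne i (by
            show X * X = 1
            rw [← inv_eq_of_mul_eq_one_right e, ← mul_inv_rev, ha2, inv_one])
      refine Finset.mem_filter.2 ⟨Finset.mem_filter.2 ⟨Finset.mem_univ _, (involution_iff h _).2 ⟨?_, ?_⟩⟩, ?_⟩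
      · show c * a * c⁻¹ * (c * a * c⁻¹) = 1
        rw [conj_mul, ha2, mul_one, mul_inv_cancel]
      · exact fun e => ha1 (conj_eq_one_iff.1 e)
      · show IsConj z (c * a * c⁻¹ * y)
        rw [← hc, conj_mul]
        exact hkey
    · intro a _ b _ e
      exact Subtype.ext (mul_left_cancel (mul_right_cancel e))
    · intro a ha
      obtain ⟨haK, hay⟩ := Finset.mem_filter.1 ha
      have hz' := (Finset.mem_filter.1 haK).2
      obtain ⟨h1, h2⟩ := (involution_iff h a).1 hz'
      refine ⟨⟨c⁻¹ * a * c, ?_, ?_, ?_⟩, Finset.mem_univ _, by group⟩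
      · rw [show c⁻¹ * a * c * (c⁻¹ * a * c) = c⁻¹ * (a * a) * c by group, h1]; group
      · intro e
        refine h2 ?_
        calc a = c * (c⁻¹ * a * c) * c⁻¹ := by group
          _ = 1 := by rw [e]; group
      · calc c⁻¹ * a * c * X * (c⁻¹ * a * c)⁻¹ = c⁻¹ * (a * (c * X * c⁻¹) * a⁻¹) * c := by group
          _ = X⁻¹ := by rw [hc, hinv a hz' hay, ← hc]; group
  have ha : ∀ a ∈ K, (Kx.filter (fun y => IsConj z (a * y))).card = N := by
    intro a ha
    obtain ⟨c, hc⟩ := isConj_iff.1 (Finset.mem_filter.1 ha).2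
    symm
    refine Finset.card_bij (fun u _ => c * (z * u) * c⁻¹) ?_ ?_ ?_
    · intro u hu
      obtain ⟨-, hu1, hu2⟩ := Finset.mem_filter.1 hu
      refine Finset.mem_filter.2 ⟨Finset.mem_filter.2 ⟨Finset.mem_univ _, hu2.trans (isConj_iff.2 ⟨c, rfl⟩)⟩, ?_⟩
      show IsConj z (a * (c * (z * u) * c⁻¹))
      rw [← hc, conj_mul, ← mul_assoc z z, h.toCore.z_sq, one_mul]
      exact hu1.trans (isConj_iff.2 ⟨c, rfl⟩)
    · intro u _ v _ e
      exact mul_left_cancel (mul_left_cancel (mul_right_cancel e))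
    · intro y hy'
      obtain ⟨hyK, hay⟩ := Finset.mem_filter.1 hy'
      refine ⟨z * (c⁻¹ * y * c), Finset.mem_filter.2 ⟨Finset.mem_univ _, ?_, ?_⟩, ?_⟩
      · refine hay.trans (isConj_iff.2 ⟨c⁻¹, ?_⟩)
        rw [← hc]; group
      · rw [← mul_assoc, h.toCore.z_sq, one_mul]
        exact (Finset.mem_filter.1 hyK).2.trans (isConj_iff.2 ⟨c⁻¹, by group⟩)
      · show c * (z * (z * (c⁻¹ * y * c))) * c⁻¹ = y
        rw [← mul_assoc z z, h.toCore.z_sq]; group
  have hdc := Finset.sum_card_bipartiteAbove_eq_sum_card_bipartiteBelow (s := K) (t := Kx)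
    (fun a y => IsConj z (a * y))
  simp only [Finset.bipartiteAbove, Finset.bipartiteBelow] at hdc
  rw [Finset.sum_congr rfl (g := fun _ => N) (fun a h' => ha a h'),
    Finset.sum_congr rfl (g := fun _ => ninv i.2) (fun y h' => hy y h'),
    Finset.sum_const, Finset.sum_const, smul_eq_mul, smul_eq_mul] at hdc
  have hdc' : (K.card : ℂ) * (N : ℂ) = (Kx.card : ℂ) * (ninv i.2 : ℂ) := by exact_mod_cast hdc
  have hK0 : (K.card : ℂ) ≠ 0 :=
    Nat.cast_ne_zero.2 (Finset.card_ne_zero.2 ⟨z, Finset.mem_filter.2 ⟨Finset.mem_univ _, IsConj.refl z⟩⟩)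
  refine mul_right_cancel₀ hK0 ?_
  linear_combination (cc i.2 : ℂ) * hdc' - (ninv i.2 : ℂ) * hKx + (ninv i.2 : ℂ) * hK

/-- The sums of products of the coefficient vectors. -/
theorem vec_inner {e e' : ℂ} (r r' : Fin 3) {S : ℂ} (hS : ∑ j, cof e j * cof e' j = S) :
    ∑ i, vec e r i * vec e' r' i * (cc i.2 : ℂ) = if r = r' then S / 5 else 0 := by
  rw [← hS]
  fin_cases r <;> fin_cases r' <;> simp [vec, rho, cc, Fintype.sum_prod_type, Fin.sum_univ_succ] <;> ring

/-- The value of the coefficient vector on the trivial character. -/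
theorem vec_one {e : ℂ} (r : Fin 3) (hS : ∑ j, cof e j = 5) :
    ∑ i, vec e r i = if r = 0 then 1 else 0 := by
  rw [Fin.sum_univ_two] at hS
  fin_cases r <;> simp [vec, rho, cc, Fintype.sum_prod_type, Fin.sum_univ_succ]
  · linear_combination (1 / 5 : ℂ) * hS
  · ring
  · ring

/-- Inverting the table. -/
theorem vec_solve {e : ℂ} {D : ℂ} (f : Fin 2 × Fin 3 → ℂ) (h0 : ∑ i, vec e 0 i * f i = D)
    (h1 : ∑ i, vec e 1 i * f i = 0) (h2 : ∑ i, vec e 2 i * f i = 0) (t : Fin 3) :
    cof e 0 * f (0, t) + cof e 1 * f (1, t) = 5 * D := by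
  simp [vec, rho, cc, Fintype.sum_prod_type, Fin.sum_univ_succ] at h0 h1 h2
  fin_cases t <;> simp
  · linear_combination 5 * h0 + 5 * h1 + 10 * h2
  · linear_combination 5 * h0 + 5 * h1 - 5 * h2
  · linear_combination 5 * h0 - 5 * h1

set_option maxHeartbeats 1600000 in
/-- The equation for the group order. -/
theorem exists_equation [IsSimpleGroup G] (h : Setting z Q) (E : NEmb z ι) :
    ∃ δ x F : ℤ, (δ = 1 ∨ δ = -1) ∧ 2 ≤ F ∧ 2 ≤ F + δ ∧ 5 ∣ F + 4 * δ ∧ 10 ∣ F - x ∧
      1 + x * x + 2 * ((x + δ) * (x + δ)) ≤ 1920 ∧ F ∣ (Nat.card G : ℤ) ∧ F + δ ∣ (Nat.card G : ℤ) ∧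
      (Nat.card G : ℤ) * ((F - x) * (F - x)) = 49152000 * (F * (F + δ)) := by
  classical
  haveI := Fintype.ofFinite G
  obtain ⟨ω, hω⟩ : ∃ ω : ℂ, ω ^ 2 = -1 - ω := by
    have h3 := Complex.isPrimitiveRoot_exp 3 (by norm_num)
    refine ⟨Complex.exp (2 * Real.pi * Complex.I / (3 : ℕ)), ?_⟩
    have := h3.geom_sum_eq_zero (by norm_num)
    simp only [Finset.sum_range_succ, Finset.sum_range_zero, zero_add, pow_zero, pow_one] at this
    linear_combination this
  obtain ⟨ζ, hζ⟩ : ∃ ζ : ℂ, IsPrimitiveRoot ζ 5 := ⟨_, Complex.isPrimitiveRoot_exp 5 (by norm_num)⟩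
  have h5 : ζ ^ 5 = 1 := hζ.pow_eq_one
  have hgeo : 1 + ζ + ζ ^ 2 + ζ ^ 3 + ζ ^ 4 = 0 := by
    have := hζ.geom_sum_eq_zero (by norm_num)
    simpa [Finset.sum_range_succ] using this
  set ev : Fin 2 → ℂ := ![ζ, ζ ^ 2]
  have hev : ∀ a, ev a ^ 5 = 1 := fun a => by
    fin_cases a
    · exact h5
    · show (ζ ^ 2) ^ 5 = 1
      rw [← pow_mul, mul_comm, pow_mul, h5, one_pow]
  set c0 := cof ζ 0
  set c1 := cof ζ 1
  have hc20 : cof (ζ ^ 2) 0 = c1 := by
    simp [c1, cof]
    linear_combination (ζ ^ 3) * h5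
  have hc21 : cof (ζ ^ 2) 1 = c0 := by
    simp [c0, cof]
    linear_combination (-ζ) * h5
  have hsum : c0 + c1 = 5 := by simp [c0, c1, cof]; linear_combination (-1 : ℂ) * hgeo
  have hprod : c0 * c1 = 5 := by
    simp [c0, c1, cof]
    linear_combination (ζ + ζ ^ 2) * h5 - hgeo
  -- the integral coefficients
  choose n hn using fun (a : Fin 2) (r : Fin 3) (χ : IrrCharacter G) => coef_int E χ (hev a) hω r
  have hz2 : z * z = 1 := h.toCore.z_sq
  have hzval : ∀ χ : IrrCharacter G, ∃ y : ℤ, (χ : G → ℂ) z = y := fun χ => by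
    obtain ⟨N, hN⟩ := sum_two E hz2 χ
    exact ⟨2 * N - charDegree (χ : G → ℂ), by rw [charDeg_spec'] at hN; push_cast; linear_combination hN⟩
  choose Z hZ using hzval
  set d : IrrCharacter G → ℤ := fun χ => (charDegree (χ : G → ℂ) : ℤ)
  have hd : ∀ χ : IrrCharacter G, (χ : G → ℂ) 1 = (d χ : ℂ) := fun χ => by
    rw [charDeg_spec']; simp [d]
  have hdpos : ∀ χ, 0 < d χ := fun χ => Int.natCast_pos.2 (charDeg_pos χ)
  set o := trivialIrr G
  have hone : ∀ g : G, (o : G → ℂ) g = 1 := fun _ => rfl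
  have hdo : d o = 1 := by
    have := hd o
    rw [hone] at this
    exact_mod_cast this.symm
  have hZo : Z o = 1 := by
    have := hZ o
    rw [hone] at this
    exact_mod_cast this.symm
  have hcofsum : ∀ a, ∑ j, cof (ev a) j = 5 := fun a => by
    fin_cases a
    · simpa [ev, Fin.sum_univ_two] using hsum
    · simpa [ev, Fin.sum_univ_two, hc20, hc21, add_comm] using hsum
  have hno : ∀ a r, n a r o = if r = 0 then 1 else 0 := fun a r => by
    have e := hn a r o
    simp only [hone, mul_one] at e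
    rw [vec_one r (hcofsum a)] at e
    split_ifs at e ⊢ <;> exact_mod_cast e.symm
  have hnn : ∀ a a' r r', ∑ χ, n a r χ * n a' r' χ = if r = r' then (if a = a' then 3 else 2) else 0 := by
    intro a a' r r'
    have e : ((∑ χ, n a r χ * n a' r' χ : ℤ) : ℂ) = if r = r' then ((if a = a' then (3 : ℤ) else 2 : ℤ) : ℂ) else 0 := by
      push_cast
      rw [Finset.sum_congr rfl (fun χ _ => by rw [← hn a r χ, ← hn a' r' χ]), E.orth,
        vec_inner r r' (S := if a = a' then 15 else 10) ?_]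
      · split_ifs <;> norm_num
      · fin_cases a <;> fin_cases a' <;> simp [ev, Fin.sum_univ_two, hc20, hc21]
        · linear_combination (c0 + c1 + 5) * hsum - 2 * hprod
        · linear_combination 2 * hprod
        · linear_combination 2 * hprod
        · linear_combination (c0 + c1 + 5) * hsum - 2 * hprod
    split_ifs at e ⊢ <;> exact_mod_cast e
  have hnd : ∀ a r, ∑ χ, n a r χ * d χ = 0 := fun a r => by
    have e : ((∑ χ, n a r χ * d χ : ℤ) : ℂ) = 0 := by
      push_cast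
      rw [Finset.sum_congr rfl (fun χ _ => by rw [← hn a r χ, ← hd χ]), E.orth_out _ (one_mul 1)]
    exact_mod_cast e
  have hnz : ∀ a r, ∑ χ, n a r χ * Z χ = 0 := fun a r => by
    have e : ((∑ χ, n a r χ * Z χ : ℤ) : ℂ) = 0 := by
      push_cast
      rw [Finset.sum_congr rfl (fun χ _ => by rw [← hn a r χ, ← hZ χ]), E.orth_out _ hz2]
    exact_mod_cast e
  obtain ⟨ξ, θ₁, θ₂, δ, hδ, hξo, h1o, h2o, h1, h2, h3, hd1, hd2, hξδ, hA, hB⟩ :=
    exc_decomp (α := IrrCharacter G) (o := o) (a := n 0 0) (b := n 1 0) (d := d) hdpos hdo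
      (by simpa using hno 0 0) (by simpa using hno 1 0) (by simpa using hnn 0 0 0 0) (by simpa using hnn 1 1 0 0)
      (by simpa using hnn 0 1 0 0) (hnd 0 0) (hnd 1 0)
  have hvan : ∀ a r, r ≠ 0 → n a r ξ = 0 := fun a r hr =>
    exc_zero (m := n a r) hdpos hδ h1 h2 h3 hA hB (by rw [hno, if_neg hr])
      (by rw [hnn, if_neg hr.symm]) (by rw [hnn, if_neg hr.symm]) (by rw [hnn]; simp) (hnd a r)
  have hbξ : n 1 0 ξ = δ := by
    have e := hB (fun χ => if χ = ξ then 1 else 0)
    simpa [hξo.symm, h2.symm, Finset.sum_ite_eq'] using e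
  -- the values of the common constituent
  have hval : ∀ j t, (ξ : G → ℂ) (ι (rep (j, t))) = δ := by
    have hs : ∀ a t, cof (ev a) 0 * (ξ : G → ℂ) (ι (rep (0, t))) + cof (ev a) 1 * (ξ : G → ℂ) (ι (rep (1, t))) = 5 * δ := by
      intro a t
      refine vec_solve (fun i => (ξ : G → ℂ) (ι (rep i))) ?_ ?_ ?_ t
      · rw [hn]
        fin_cases a
        · exact_mod_cast hξδ
        · exact_mod_cast hbξ
      · rw [hn, hvan a 1 (by decide), Int.cast_zero]
      · rw [hn, hvan a 2 (by decide), Int.cast_zero]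
    intro j t
    have e1 := hs 0 t
    have e2 := hs 1 t
    simp [ev, hc20, hc21] at e1 e2
    have hplus : (ξ : G → ℂ) (ι (rep (0, t))) + (ξ : G → ℂ) (ι (rep (1, t))) = 2 * δ := by
      refine mul_left_cancel₀ (show (5 : ℂ) ≠ 0 by norm_num) ?_
      linear_combination e1 + e2 - ((ξ : G → ℂ) (ι (rep (0, t))) + (ξ : G → ℂ) (ι (rep (1, t)))) * hsum
    have hminus : (ξ : G → ℂ) (ι (rep (0, t))) - (ξ : G → ℂ) (ι (rep (1, t))) = 0 := by
      have h' : (c0 - c1) * ((ξ : G → ℂ) (ι (rep (0, t))) - (ξ : G → ℂ) (ι (rep (1, t)))) = 0 := by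
        linear_combination e1 - e2
      refine (mul_eq_zero.1 h').resolve_left fun e => ?_
      have h'' : (c0 - c1) * (c0 - c1) = 5 := by linear_combination (c0 + c1 + 5) * hsum - 4 * hprod
      rw [e, mul_zero] at h''
      norm_num at h''
    fin_cases j
    · show (ξ : G → ℂ) (ι (rep (0, t))) = δ
      linear_combination (1 / 2 : ℂ) * hplus + (1 / 2 : ℂ) * hminus
    · show (ξ : G → ℂ) (ι (rep (1, t))) = δ
      linear_combination (1 / 2 : ℂ) * hplus - (1 / 2 : ℂ) * hminus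
  have hF5 : 5 ∣ d ξ + 4 * δ := by
    obtain ⟨N, hN⟩ := sum_five (ι := ι) ξ
    rw [hval, hval, hd] at hN
    refine ⟨N, ?_⟩
    have : ((d ξ + 4 * δ : ℤ) : ℂ) = ((5 * N : ℤ) : ℂ) := by push_cast; linear_combination hN
    exact_mod_cast this
  have hF10 : 10 ∣ d ξ - Z ξ := by
    obtain ⟨N, hN⟩ := sum_ten E ξ (e := 1) (s := -1) (one_pow _) (by norm_num)
    rw [hval, hval, hval, hval, hd, hZ] at hN
    refine ⟨N, ?_⟩
    have : ((d ξ - Z ξ : ℤ) : ℂ) = ((10 * N : ℤ) : ℂ) := by push_cast; linear_combination hN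
    exact_mod_cast this
  -- values at the involution
  have hY1 : Z θ₁ = Z ξ + δ := by
    have := hA Z
    rw [hnz, hZo] at this
    rcases hδ with e | e <;> rw [e] at this ⊢ <;> linarith
  have hY2 : Z θ₂ = Z ξ + δ := by
    have := hB Z
    rw [hnz, hZo] at this
    rcases hδ with e | e <;> rw [e] at this ⊢ <;> linarith
  have hcol : ∑ χ, Z χ * Z χ = 1920 := by
    have e : ((∑ χ, Z χ * Z χ : ℤ) : ℂ) = 1920 := by
      push_cast
      rw [Finset.sum_congr rfl (g := fun χ : IrrCharacter G => (χ : G → ℂ) z * conj ((χ : G → ℂ) z)) (fun χ _ => by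
        rw [hZ, map_intCast]), Cfsg.Agent.Char.sum_irr_mul_conj, if_pos (IsConj.refl _), h.toCore.card_C]
      norm_num
    exact_mod_cast e
  have hbound : 1 + Z ξ * Z ξ + 2 * ((Z ξ + δ) * (Z ξ + δ)) ≤ 1920 := by
    have hsub := Finset.sum_le_sum_of_subset_of_nonneg (Finset.subset_univ ({o, ξ, θ₁, θ₂} : Finset (IrrCharacter G)))
      (f := fun χ => Z χ * Z χ) (fun j _ _ => mul_self_nonneg (Z j))
    rw [hcol, Finset.sum_insert (by simp [hξo.symm, h1o.symm, h2o.symm]), Finset.sum_insert (by simp [h1, h2]),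
      Finset.sum_pair h3, hY1, hY2, hZo] at hsub
    linarith
  -- the class function and the structure constants
  set Φ : G → ℂ := fun g => ∑ i, if IsConj (ι (rep i)) g then vec ζ 0 i * (cc i.2 : ℂ) else 0
  have hΦ : IsClassFunction G Φ := by
    intro a b
    refine Finset.sum_congr rfl fun i _ => ?_
    have hab : IsConj a (b * a * b⁻¹) := isConj_iff.2 ⟨b, rfl⟩
    rw [if_congr (show IsConj (ι (rep i)) (b * a * b⁻¹) ↔ IsConj (ι (rep i)) a from
      ⟨fun h' => h'.trans hab.symm, fun h' => h'.trans hab⟩) rfl rfl]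
  have hinner : ∀ χ : IrrCharacter G, classInner Φ (χ : G → ℂ) = n 0 0 χ := by
    intro χ
    rw [← hn 0 0 χ, classInner]
    simp only [Φ, Finset.sum_mul, ite_mul, zero_mul]
    rw [Finset.sum_comm, Finset.mul_sum]
    refine Finset.sum_congr rfl fun i _ => ?_
    rw [← Finset.sum_filter, ← Finset.mul_sum]
    have e := D8Order.sum_conj_eq (ι (rep i)) (fun u => conj ((χ : G → ℂ) u))
    rw [Finset.sum_congr rfl (g := fun _ => (χ : G → ℂ) (ι (rep i))) (fun g _ => by
      rw [irr_classFun χ, E.char_real]), Finset.sum_const, Finset.card_univ, nsmul_eq_mul,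
      ← Nat.card_eq_fintype_card, E.cent] at e
    have hG0 : (Nat.card G : ℂ) ≠ 0 := Nat.cast_ne_zero.2 Nat.card_pos.ne'
    show _ = vec (ev 0) 0 i * _
    rw [show ev 0 = ζ from rfl]
    field_simp
    linear_combination -(vec ζ 0 i) * e
  have hcount : ∑ g : G, Φ (z * (g * z * g⁻¹)) = 49152000 := by
    rw [D8Order.sum_conj_eq z (fun u => Φ (z * u)), h.toCore.card_C]
    simp only [Φ]
    rw [Finset.sum_comm]
    simp only [← Finset.sum_filter, Finset.filter_filter, Finset.sum_const, nsmul_eq_mul]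
    rw [Finset.sum_congr rfl (g := fun i => vec ζ 0 i * (1920 * (ninv i.2 : ℂ))) (fun i _ => by
      rw [← E.pairs h i, Nat.card_eq_fintype_card, Fintype.card_subtype]; ring)]
    simp [vec, rho, cc, ninv, Fintype.sum_prod_type, Fin.sum_univ_succ]
    linear_combination (9830400 : ℂ) * hsum
  set F := d ξ
  have hmain : (Nat.card G : ℤ) * ((F - Z ξ) * (F - Z ξ)) = 49152000 * (F * (F + δ)) := by
    have e := sum_classFun_mul_conj hΦ z z
    rw [hcount] at e
    simp only [hinner, hZ, hd] at e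
    set T : Finset (IrrCharacter G) := {ξ, θ₁}
    have hrest : ∀ χ, χ ≠ o → χ ∉ T → n 0 0 χ = 0 := by
      intro χ hne hT
      simp only [T, Finset.mem_insert, Finset.mem_singleton, not_or] at hT
      simpa [Ne.symm hne, Ne.symm hT.1, Ne.symm hT.2, Finset.sum_ite_eq'] using
        hA (fun y => if y = χ then 1 else 0)
    have ha1 : n 0 0 θ₁ = -δ := by
      simpa [h1o.symm, h1, Finset.sum_ite_eq'] using hA (fun y => if y = θ₁ then 1 else 0)
    rw [← Finset.sum_subset (Finset.subset_univ (insert o T)) (fun χ _ hχ => by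
      rw [Finset.mem_insert, not_or] at hχ
      rw [hrest χ hχ.1 hχ.2]; simp), Finset.sum_insert (by simp [T, hξo.symm, h1o.symm]),
      Finset.sum_pair h1, show n 0 0 o = 1 from by simpa using hno 0 0, hdo, hZo, ha1, hξδ, hd1, hY1] at e
    push_cast at e
    have hF0 : (F : ℂ) ≠ 0 := Int.cast_ne_zero.2 (hdpos ξ).ne'
    have hg0 : (F : ℂ) + (δ : ℂ) ≠ 0 := by
      have := hdpos θ₁
      rw [hd1] at this
      exact_mod_cast this.ne'
    have hG0 : (Nat.card G : ℂ) ≠ 0 := Nat.cast_ne_zero.2 Nat.card_pos.ne'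
    simp only [show d ξ = F from rfl] at e
    field_simp at e
    have hδ2 : (δ : ℂ) * δ = 1 := by rcases hδ with r | r <;> rw [r] <;> norm_num
    have : (((Nat.card G : ℤ) * ((F - Z ξ) * (F - Z ξ)) : ℤ) : ℂ) = ((49152000 * (F * (F + δ)) : ℤ) : ℂ) := by
      push_cast
      linear_combination -e + (Nat.card G : ℂ) * ((F : ℂ) * δ + 2 * F * (Z ξ : ℂ) - (Z ξ : ℂ) * (Z ξ : ℂ)) * hδ2
    exact_mod_cast this
  have hdeg : ∀ χ : IrrCharacter G, χ ≠ o → 2 ≤ d χ := fun χ hne => by
    have := two_le_deg (E.real (0, 0)) (E.sq_ne (0, 0)) χ hne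
    simp only [d]
    exact_mod_cast this
  refine ⟨δ, Z ξ, F, hδ, hdeg ξ hξo, hd1 ▸ hdeg θ₁ h1o, hF5, hF10, hbound, ?_, ?_, hmain⟩
  · exact Int.natCast_dvd_natCast.2 (charDeg_dvd ξ)
  · exact hd1 ▸ Int.natCast_dvd_natCast.2 (charDeg_dvd θ₁)

end Cfsg.Agent.Invol.J3Type
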