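import Cfsg.Agent.Lib.Invol.J3Type.CentW
import Cfsg.Agent.Lib.Recog.DihedralHom

/-!
The normalizer of a subgroup of order five as the product of two dihedral groups, and the six
classes of elements of order divisible by five inside it.
-/

set_option autoImplicit false
set_option linter.unusedSectionVars false
set_option linter.style.haveILetI false

namespace Cfsg.Agent.Invol.J3Type

open Cfsg Cfsg.Agent.Invol.HJ

universe u

variable {G : Type u} [Group G] {z w k m : G} {Q : Subgroup G}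

/-- The local model of order sixty. -/
abbrev Sixty : Type := DihedralGroup 5 × DihedralGroup 3

/-- The second coordinates of the six representatives. -/
def typ : Fin 3 → DihedralGroup 3 := ![1, .r 1, .sr 0]

/-- The six representatives in the local model. -/
def rep (i : Fin 2 × Fin 3) : Sixty := (.r (((i.1 : ℕ) + 1 : ℕ) : ZMod 5), typ i.2)

/-- The centralizer orders of the representatives. -/
def cc : Fin 3 → ℕ := ![30, 15, 10]

/-- The numbers of involutions inverting the representatives. -/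
def ninv : Fin 3 → ℕ := ![20, 15, 10]

set_option maxRecDepth 4000 in
theorem sixty_cent : ∀ i : Fin 2 × Fin 3,
    Fintype.card {q : Sixty // q * rep i = rep i * q} = cc i.2 := by decide +kernel

set_option maxRecDepth 4000 in
theorem sixty_inv : ∀ i : Fin 2 × Fin 3,
    Fintype.card {a : Sixty // a * a = 1 ∧ a ≠ 1 ∧ a * rep i * a⁻¹ = (rep i)⁻¹} = ninv i.2 := by
  decide +kernel

set_option maxRecDepth 4000 in
theorem sixty_real : ∀ i : Fin 2 × Fin 3, ∃ c : Sixty, c * rep i * c⁻¹ = (rep i)⁻¹ := by decide +kernel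

theorem sixty_sq : ∀ i : Fin 2 × Fin 3, rep i * rep i ≠ 1 := by decide +kernel

theorem sixty_six : ∀ i : Fin 2 × Fin 3,
    rep i ^ 6 = ((DihedralGroup.r 1, 1) : Sixty) ^ ((i.1 : ℕ) + 1) := by decide +kernel

theorem cc_inj : Function.Injective cc := by decide

/-- An embedding of the model into the group, with the fusion data that the character argument needs. -/
structure NEmb (z : G) (ι : Sixty →* G) : Prop where
  inj : Function.Injective ι
  iz : ι (1, .sr 0) = z
  cent : ∀ i, Nat.card (Subgroup.centralizer ({ι (rep i)} : Set G)) = cc i.2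
  count : ∀ i, Nat.card {a : G // a * a = 1 ∧ a ≠ 1 ∧ a * ι (rep i) * a⁻¹ = (ι (rep i))⁻¹} = ninv i.2
  nconj : ∀ i i', IsConj (ι (rep i)) (ι (rep i')) → i = i'

theorem NEmb.real {ι : Sixty →* G} (E : NEmb z ι) (i : Fin 2 × Fin 3) :
    IsConj (ι (rep i)) (ι (rep i))⁻¹ := by
  obtain ⟨c, hc⟩ := sixty_real i
  exact isConj_iff.2 ⟨ι c, by rw [← map_inv, ← map_inv, ← map_mul, ← map_mul, hc]⟩

theorem NEmb.sq_ne {ι : Sixty →* G} (E : NEmb z ι) (i : Fin 2 × Fin 3) :
    ι (rep i) * ι (rep i) ≠ 1 := fun e => sixty_sq i (E.inj (by rw [map_mul, e, map_one]))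

theorem dihedralHom_range {n : ℕ} [NeZero n] (x s : G) (hx : x ^ n = 1) (hs : s * s = 1) (h : s * x * s⁻¹ = x⁻¹)
    {P : G → Prop} (hmul : ∀ a b, P a → P b → P (a * b)) (hone : P 1) (h1 : P x) (h2 : P s) (d : DihedralGroup n) :
    P (Recog.dihedralHom x s hx hs h d) := by
  have hr : ∀ i : ZMod n, P (Recog.dihedralHom x s hx hs h (.r i)) := by
    intro i
    have : ∀ l : ℕ, P (x ^ l) := fun l => by
      induction l with
      | zero => simpa using hone
      | succ l ih => rw [pow_succ]; exact hmul _ _ ih h1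
    rw [show (DihedralGroup.r i : DihedralGroup n) = DihedralGroup.r 1 ^ i.val by
      rw [DihedralGroup.r_one_pow, ZMod.natCast_zmod_val], map_pow, Recog.dihedralHom_r]
    exact this _
  cases d with
  | r i => exact hr i
  | sr i =>
    rw [show (DihedralGroup.sr i : DihedralGroup n) = .sr 0 * .r i by rw [DihedralGroup.sr_mul_r, zero_add],
      map_mul, Recog.dihedralHom_sr]
    exact hmul _ _ h2 (hr i)

theorem NData.exists_emb [Finite G] (N : NData z Q w k m) (h : Core z Q) :
    ∃ ι : Sixty →* G, NEmb z ι ∧ ι (.r 1, 1) = w ∧ ι (1, .r 1) = k := by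
  have hw5 : w ^ 5 = 1 := N.w5 ▸ pow_orderOf_eq_one w
  have hk3 : k ^ 3 = 1 := N.k3 ▸ pow_orderOf_eq_one k
  set f := Recog.dihedralHom w m hw5 N.m2 N.minv
  set g := Recog.dihedralHom k z hk3 h.z_sq N.zk
  have hmz : Commute m z := mem_cent_iff.1 N.mC
  have hcomm : ∀ a b, Commute (f a) (g b) := by
    intro a b
    refine dihedralHom_range (P := fun x => Commute x (g b)) w m hw5 N.m2 N.minv
      (fun x y hx hy => hx.mul_left hy) (Commute.one_left _) ?_ ?_ a
    · exact dihedralHom_range (P := fun y => Commute w y) k z hk3 h.z_sq N.zk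
        (fun x y hx hy => hx.mul_right hy) (Commute.one_right _) N.wk N.wz b
    · exact dihedralHom_range (P := fun y => Commute m y) k z hk3 h.z_sq N.zk
        (fun x y hx hy => hx.mul_right hy) (Commute.one_right _) N.mkc hmz b
  set ι : Sixty →* G := f.noncommCoprod g hcomm
  have hap : ∀ a b, ι (a, b) = f a * g b := fun a b => rfl
  have hiw : ι (.r 1, 1) = w := by rw [hap, map_one, mul_one]; exact Recog.dihedralHom_r ..
  have him : ι (.sr 0, 1) = m := by rw [hap, map_one, mul_one]; exact Recog.dihedralHom_sr ..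
  have hik : ι (1, .r 1) = k := by rw [hap, map_one, one_mul]; exact Recog.dihedralHom_r ..
  have hiz : ι (1, .sr 0) = z := by rw [hap, map_one, one_mul]; exact Recog.dihedralHom_sr ..
  set C := Subgroup.centralizer ({w} : Set G)
  have hwR : w ∈ ι.range ⊓ C := ⟨⟨_, hiw⟩, mem_cent_iff.2 rfl⟩
  have hkR : k ∈ ι.range ⊓ C := ⟨⟨_, hik⟩, mem_cent_iff.2 (show Commute k w from (show Commute w k from N.wk).symm).eq⟩
  have hzR : z ∈ ι.range ⊓ C := ⟨⟨_, hiz⟩, mem_cent_iff.2 N.wz.symm⟩
  have h30 : 30 ∣ Nat.card ↥(ι.range ⊓ C) := by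
    have a := Subgroup.orderOf_dvd_natCard _ hwR
    have b := Subgroup.orderOf_dvd_natCard _ hkR
    have c := Subgroup.orderOf_dvd_natCard _ hzR
    rw [N.w5] at a; rw [N.k3] at b; rw [h.hz] at c
    exact Nat.Coprime.mul_dvd_of_dvd_of_dvd (m := 15) (n := 2) (by norm_num)
      (Nat.Coprime.mul_dvd_of_dvd_of_dvd (m := 5) (n := 3) (by norm_num) a b) c
  have hC : C ≤ ι.range := by
    have hle : Nat.card C ≤ Nat.card ↥(ι.range ⊓ C) := by rw [N.card]; exact Nat.le_of_dvd Nat.card_pos h30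
    exact inf_eq_right.1 (Subgroup.eq_of_le_of_card_ge inf_le_right hle)
  have hmR : m ∈ ι.range := ⟨_, him⟩
  have hmC : m ∉ C := by
    intro hm
    have e : w⁻¹ = w := by rw [← N.minv, mul_inv_eq_iff_eq_mul]; exact mem_cent_iff.1 hm
    have h2 : w ^ 2 = 1 := by rw [pow_two]; nth_rewrite 1 [← e]; exact inv_mul_cancel w
    have h3 := orderOf_dvd_of_pow_eq_one h2
    rw [N.w5] at h3
    norm_num at h3
  have hinj : Function.Injective ι := by
    have hlt : Nat.card C < Nat.card ι.range := by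
      refine lt_of_le_of_ne (Subgroup.card_le_of_le hC) fun e => hmC ?_
      rw [Subgroup.eq_of_le_of_card_ge hC (le_of_eq e.symm)]
      exact hmR
    obtain ⟨q, hq⟩ : 30 ∣ Nat.card ι.range := N.card ▸ Subgroup.card_dvd_of_le hC
    have h60 : Nat.card Sixty = 60 := by
      rw [Nat.card_prod, DihedralGroup.nat_card, DihedralGroup.nat_card]
    have hd : Nat.card ι.range ∣ 60 := h60 ▸ Subgroup.card_range_dvd ι
    have hle := Nat.le_of_dvd (by norm_num) hd
    rw [N.card] at hlt
    haveI := Fintype.ofFinite ι.range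
    have hcard : Nat.card ι.range = 60 := by omega
    have : Function.Bijective ι.rangeRestrict :=
      (Nat.bijective_iff_surjective_and_card _).2 ⟨ι.rangeRestrict_surjective, by rw [h60, hcard]⟩
    exact fun x y e => this.1 (Subtype.ext e)
  have hX6 : ∀ i : Fin 2 × Fin 3, ι (rep i) ^ 6 = w ^ ((i.1 : ℕ) + 1) := fun i => by
    rw [← map_pow, sixty_six, map_pow, hiw]
  have hsq3 : (w ^ 2) ^ 3 = w := by rw [← pow_mul, show 2 * 3 = 5 + 1 from rfl, pow_succ, hw5, one_mul]
  -- the centralizers lie in the range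
  have hcw : ∀ (i : Fin 2 × Fin 3) (x : G), Commute x (ι (rep i)) → x ∈ ι.range := by
    intro i x hx
    refine hC (mem_cent_iff.2 ?_)
    have h1 := hx.pow_right 6
    rw [hX6] at h1
    obtain ⟨⟨j, hj⟩, t⟩ := i
    interval_cases j
    · simpa using h1.eq
    · have h2 := h1.pow_right 3
      simp only [show (1 : ℕ) + 1 = 2 from rfl] at h2
      rw [hsq3] at h2
      exact h2.eq
  have hin : ∀ (i : Fin 2 × Fin 3) (a : G), a * ι (rep i) * a⁻¹ = (ι (rep i))⁻¹ → a ∈ ι.range := by
    intro i a ha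
    have h1 : a * w ^ ((i.1 : ℕ) + 1) * a⁻¹ = (w ^ ((i.1 : ℕ) + 1))⁻¹ := by
      rw [← hX6, ← conj_pow, ha, inv_pow]
    have h2 : a * w * a⁻¹ = w⁻¹ := by
      obtain ⟨⟨j, hj⟩, t⟩ := i
      interval_cases j
      · simpa using h1
      · simp only [show (1 : ℕ) + 1 = 2 from rfl] at h1
        conv_lhs => rw [← hsq3]
        rw [← conj_pow, h1, inv_pow, hsq3]
    have h3 : a * m ∈ ι.range := hC (mem_cent_iff.2 (mul_inv_eq_iff_eq_mul.1 (by
      calc a * m * w * (a * m)⁻¹ = a * (m * w * m⁻¹) * a⁻¹ := by group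
        _ = w := by rw [N.minv, ← conj_inv, h2, inv_inv])))
    have : a = a * m * m⁻¹ := (mul_inv_cancel_right a m).symm
    rw [this]
    exact mul_mem h3 (inv_mem hmR)
  have hcen : ∀ i, Nat.card (Subgroup.centralizer ({ι (rep i)} : Set G)) = cc i.2 := by
    intro i
    rw [← sixty_cent i, ← Nat.card_eq_fintype_card]
    refine (Nat.card_congr (Equiv.ofBijective
      (fun q : {q : Sixty // q * rep i = rep i * q} =>
        (⟨ι q.1, mem_cent_iff.2 (by rw [← map_mul, q.2, map_mul])⟩ : Subgroup.centralizer ({ι (rep i)} : Set G)))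
      ⟨fun a b e => Subtype.ext (hinj (congrArg Subtype.val e)), fun x => ?_⟩)).symm
    obtain ⟨q, hq⟩ := hcw i x.1 (mem_cent_iff.1 x.2)
    exact ⟨⟨q, hinj (by rw [map_mul, map_mul, hq]; exact mem_cent_iff.1 x.2)⟩, Subtype.ext hq⟩
  refine ⟨ι, ⟨hinj, hiz, hcen, fun i => ?_, ?_⟩, hiw, hik⟩
  · rw [← sixty_inv i, ← Nat.card_eq_fintype_card]
    refine (Nat.card_congr (Equiv.ofBijective
      (fun q : {a : Sixty // a * a = 1 ∧ a ≠ 1 ∧ a * rep i * a⁻¹ = (rep i)⁻¹} =>
        (⟨ι q.1, by rw [← map_mul, q.2.1, map_one], fun e => q.2.2.1 (hinj (by rw [e, map_one])),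
          by rw [← map_inv, ← map_inv, ← map_mul, ← map_mul, q.2.2.2]⟩ :
          {a : G // a * a = 1 ∧ a ≠ 1 ∧ a * ι (rep i) * a⁻¹ = (ι (rep i))⁻¹}))
      ⟨fun a b e => Subtype.ext (hinj (congrArg Subtype.val e)), fun x => ?_⟩)).symm
    obtain ⟨q, hq⟩ := hin i x.1 x.2.2.2
    refine ⟨⟨q, hinj (by rw [map_mul, hq, map_one]; exact x.2.1), fun e => x.2.2.1 (by rw [← hq, e, map_one]),
      hinj (by rw [map_mul, map_mul, map_inv, map_inv, hq]; exact x.2.2.2)⟩, Subtype.ext hq⟩
  · intro i i' hii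
    obtain ⟨c, hc⟩ := isConj_iff.1 hii
    have h1 : c * w ^ ((i.1 : ℕ) + 1) * c⁻¹ = w ^ ((i'.1 : ℕ) + 1) := by
      rw [← hX6, ← hX6, ← conj_pow, hc]
    have e1 : i.1 = i'.1 := by
      obtain ⟨⟨j, hj⟩, t⟩ := i
      obtain ⟨⟨j', hj'⟩, t'⟩ := i'
      interval_cases j <;> interval_cases j'
      · rfl
      · exfalso
        refine N.not_sq c ?_
        simpa [pow_succ] using h1
      · exfalso
        refine N.not_sq c⁻¹ ?_
        have h2 : c * (w * w) * c⁻¹ = w := by simpa [pow_succ] using h1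
        calc c⁻¹ * w * c⁻¹⁻¹ = c⁻¹ * (c * (w * w) * c⁻¹) * c⁻¹⁻¹ := by rw [h2]
          _ = w * w := by group
      · rfl
    have e2 : cc i.2 = cc i'.2 := by
      rw [← hcen i, ← hcen i', ← hc, card_cent_conj]
    exact Prod.ext e1 (cc_inj e2)

end Cfsg.Agent.Invol.J3Type
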