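import Mathlib

/-!
Elementary facts on subgroups of prime order.
-/

set_option autoImplicit false
set_option linter.unusedSectionVars false

namespace Cfsg.Agent.Invol.J3Type.Prime

universe u

variable {C : Type u} [Group C] [Finite C]

/-- The centralizer of an element. -/
abbrev Cen (x : C) : Subgroup C := Subgroup.centralizer ({x} : Set C)

/-- The normalizer of a cyclic subgroup. -/
abbrev Nor (x : C) : Subgroup C := Subgroup.normalizer ((Subgroup.zpowers x : Subgroup C) : Set C)

theorem cent_zpowers (x : C) :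
    Subgroup.centralizer ((Subgroup.zpowers x : Subgroup C) : Set C) = Subgroup.centralizer {x} := by
  rw [Subgroup.zpowers_eq_closure, Subgroup.centralizer_closure]

theorem cen_le_nor (x : C) : Cen x ≤ Nor x := by
  rw [Cen, ← cent_zpowers]
  exact Subgroup.centralizer_le_normalizer _

theorem orderOf_dvd_cen {x y : C} (hxy : Commute x y) : orderOf y ∣ Nat.card (Cen x) :=
  Subgroup.orderOf_dvd_natCard _ (Subgroup.mem_centralizer_singleton_iff.2 hxy.symm.eq)

theorem exists_commute {q : ℕ} (hq : q.Prime) {x : C} (hd : q ∣ Nat.card (Cen x)) :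
    ∃ y : C, orderOf y = q ∧ Commute x y := by
  haveI := Fact.mk hq
  obtain ⟨y, hy⟩ := exists_prime_orderOf_dvd_card' q hd
  exact ⟨y, by rw [Subgroup.orderOf_coe, hy],
    (Subgroup.mem_centralizer_singleton_iff.1 y.2).symm⟩

/-- The automizer of a subgroup of prime order `p` has order dividing `p - 1`. -/
theorem nor_index {p : ℕ} (hp : p.Prime) {x : C} (hx : orderOf x = p) :
    Nat.card (Nor x) ∣ Nat.card (Cen x) * (p - 1) := by
  haveI := Fact.mk hp
  have hc : Nat.card (Subgroup.zpowers x) = p := by rw [Nat.card_zpowers, hx]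
  have h1 : ((Cen x).subgroupOf (Nor x)).index ∣ p - 1 := by
    rw [Cen, ← cent_zpowers, ← Subgroup.normalizerMonoidHom_ker, Subgroup.index_ker]
    refine (Subgroup.card_subgroup_dvd_card _).trans (dvd_of_eq ?_)
    rw [IsCyclic.card_mulAut, hc, Nat.totient_prime hp]
  refine dvd_trans ?_ (Nat.mul_dvd_mul_left _ h1)
  rw [← Nat.card_congr (Subgroup.subgroupOfEquivOfLe (cen_le_nor x)).toEquiv, Subgroup.card_mul_index]

/-- Sylow's theorem for a prime dividing the order exactly once. -/
theorem nor_count {p : ℕ} (hp : p.Prime) {x : C} (hx : orderOf x = p) (hex : ¬ p * p ∣ Nat.card C) :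
    (Nor x).index % p = 1 ∧ Nat.card (Nor x) * (Nor x).index = Nat.card C := by
  haveI := Fact.mk hp
  refine ⟨?_, Subgroup.card_mul_index _⟩
  let Q : Sylow p C := Sylow.ofCard (Subgroup.zpowers x) (by
    rw [Nat.card_zpowers, hx]
    have h1 : 1 ≤ (Nat.card C).factorization p :=
      (hp.dvd_iff_one_le_factorization Nat.card_pos.ne').1 (hx ▸ orderOf_dvd_natCard x)
    have h2 : (Nat.card C).factorization p < 2 := by
      by_contra hge
      push Not at hge
      exact hex (pow_two p ▸ (hp.pow_dvd_iff_le_factorization Nat.card_pos.ne').2 hge)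
    rw [show (Nat.card C).factorization p = 1 by omega, pow_one])
  have h2 : Nat.card (Sylow p C) % p = 1 % p := card_sylow_modEq_one p C
  rw [Nat.mod_eq_of_lt hp.one_lt] at h2
  rw [← h2, Sylow.card_eq_index_normalizer Q]
  rfl

/-- A normalizer in a subgroup. -/
theorem nor_sub {H : Subgroup C} (x : H) : Nat.card (Nor x) ∣ Nat.card (Nor (x : C)) := by
  rw [← Subgroup.card_map_of_injective H.subtype_injective]
  refine Subgroup.card_dvd_of_le ?_
  rintro _ ⟨y, hy, rfl⟩
  refine Subgroup.mem_normalizer_iff.2 fun w => ?_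
  have hmem : ∀ v : C, v ∈ Subgroup.zpowers (x : C) ↔ ∃ v' : H, v' ∈ Subgroup.zpowers x ∧ (v' : C) = v := by
    intro v
    constructor
    · intro hv
      obtain ⟨i, rfl⟩ := Subgroup.mem_zpowers_iff.1 hv
      exact ⟨x ^ i, zpow_mem (Subgroup.mem_zpowers x) i, by simp⟩
    · rintro ⟨v', hv', rfl⟩
      obtain ⟨i, rfl⟩ := Subgroup.mem_zpowers_iff.1 hv'
      exact Subgroup.mem_zpowers_iff.2 ⟨i, by simp⟩
  constructor
  · intro hw
    obtain ⟨v, hv, rfl⟩ := (hmem w).1 hw
    exact (hmem _).2 ⟨y * v * y⁻¹, (Subgroup.mem_normalizer_iff.1 hy v).1 hv, by simp⟩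
  · intro hw
    obtain ⟨v, hv, hv'⟩ := (hmem _).1 hw
    refine (hmem w).2 ⟨y⁻¹ * v * y, (Subgroup.mem_normalizer_iff.1 hy _).2 ?_, ?_⟩
    · simpa [mul_assoc] using hv
    · simp only [Subgroup.coe_mul, Subgroup.coe_inv, hv']
      simp [mul_assoc]

end Cfsg.Agent.Invol.J3Type.Prime
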