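import Cfsg.Agent.Lib.Invol.J3Type.Equation
import Cfsg.Agent.Lib.Invol.J3Type.Arith
import Cfsg.Agent.Lib.Invol.J3Type.PrimeTools

/-!
The order of a group of Janko three type.
-/

set_option autoImplicit false
set_option linter.unusedSectionVars false
set_option linter.style.haveILetI false

namespace Cfsg.Agent.Invol.J3Type

open Cfsg Cfsg.Agent Cfsg.Agent.Invol.HJ

universe u

variable {G : Type u} [Group G] [Finite G] {z : G} {Q : Subgroup G}

/-- The centralizer of an element of order five has order thirty. -/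
theorem five_cent [IsSimpleGroup G] (h : Setting z Q) {v : G} (hv : orderOf v = 5) :
    Nat.card (Subgroup.centralizer ({v} : Set G)) = 30 := by
  obtain ⟨w, k, m, N⟩ := exists_ndata h
  obtain ⟨g, hg⟩ := N.conj5 v hv
  haveI : Fact (Nat.Prime 5) := ⟨by norm_num⟩
  have hne : g * v * g⁻¹ ≠ 1 := fun e => by
    rw [conj_eq_one_iff] at e
    rw [e, orderOf_one] at hv
    norm_num at hv
  have hgen : Subgroup.zpowers (g * v * g⁻¹) = Subgroup.zpowers w := by
    refine Subgroup.eq_of_le_of_card_ge (Subgroup.zpowers_le.2 hg) ?_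
    rw [Nat.card_zpowers, Nat.card_zpowers, orderOf_conj', hv, N.w5]
  have hC : Subgroup.centralizer ({g * v * g⁻¹} : Set G) = Subgroup.centralizer ({w} : Set G) := by
    rw [← Prime.cent_zpowers, hgen, Prime.cent_zpowers]
  rw [← card_cent_conj g, hC, N.card]

/-- An element of prime order at least seven has an odd centralizer of order prime to five. -/
theorem big_prime_cent [IsSimpleGroup G] (h : Setting z Q) {p : ℕ} (hp : p.Prime) (h7 : 7 ≤ p) {x : G}
    (hx : orderOf x = p) :
    ¬ 2 ∣ Nat.card (Subgroup.centralizer ({x} : Set G)) ∧ ¬ 5 ∣ Nat.card (Subgroup.centralizer ({x} : Set G)) := by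
  constructor
  · intro h2
    obtain ⟨y, hy, hxy⟩ := Prime.exists_commute Nat.prime_two h2
    obtain ⟨c, hc⟩ := isConj_iff.1 (h.one y hy)
    have hd := Prime.orderOf_dvd_cen (x := y) hxy.symm
    rw [hx, Prime.Cen, ← card_cent_conj c, hc, h.toCore.card_C] at hd
    rcases hp.dvd_mul.1 (show p ∣ 2 ^ 7 * (3 * 5) by norm_num; exact hd) with r | r
    · have := Nat.le_of_dvd (by norm_num) (hp.dvd_of_dvd_pow r)
      omega
    · have := Nat.le_of_dvd (by norm_num) r
      rcases hp.dvd_mul.1 r with s | s <;> have := Nat.le_of_dvd (by norm_num) s <;> omega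
  · intro h5
    obtain ⟨y, hy, hxy⟩ := Prime.exists_commute (by norm_num : Nat.Prime 5) h5
    have hd := Prime.orderOf_dvd_cen (x := y) hxy.symm
    rw [hx, Prime.Cen, five_cent h hy] at hd
    rcases hp.dvd_mul.1 (show p ∣ 2 * (3 * 5) by norm_num; exact hd) with r | r
    · have := Nat.le_of_dvd (by norm_num) r
      omega
    · rcases hp.dvd_mul.1 r with s | s <;> have := Nat.le_of_dvd (by norm_num) s <;> omega

/-- The possible centralizer and automizer orders of a Sylow subgroup of prime order. -/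
theorem prime_options {p : ℕ} (hp : p.Prime) {x : G} (hx : orderOf x = p) (hex : ¬ p * p ∣ Nat.card G) :
    ∃ c e n : ℕ, Nat.card (Subgroup.centralizer ({x} : Set G)) = p * c ∧
      Nat.card (Subgroup.normalizer ((Subgroup.zpowers x : Subgroup G) : Set G)) = p * c * e ∧
      e ∣ p - 1 ∧ n % p = 1 ∧ p * c * e * n = Nat.card G := by
  obtain ⟨c, hc⟩ : p ∣ Nat.card (Subgroup.centralizer ({x} : Set G)) :=
    hx ▸ Subgroup.orderOf_dvd_natCard _ (mem_cent_iff.2 rfl)
  obtain ⟨e, he⟩ := Subgroup.card_dvd_of_le (Prime.cen_le_nor x)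
  have h1 := Prime.nor_index hp hx
  obtain ⟨h2, h3⟩ := Prime.nor_count hp hx hex
  refine ⟨c, e, _, hc, by rw [← hc]; exact he, ?_, h2, ?_⟩
  · rw [show Nat.card (Prime.Nor x) = Nat.card (Subgroup.centralizer ({x} : Set G)) * e from he] at h1
    exact Nat.dvd_of_mul_dvd_mul_left Nat.card_pos h1
  · rw [← hc, ← he]; exact h3

set_option maxRecDepth 4000 in
theorem kill_seventy_three : ∀ c ∈ [1, 3, 9, 27, 41, 123, 369, 1107], ∀ e ∈ Nat.divisors 72,
    708480 % (c * e) = 0 → 708480 / (c * e) % 73 ≠ 1 := by decide +kernel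

theorem divisors_1107 : ∀ c ∈ Nat.divisors 1107, c ∈ [1, 3, 9, 27, 41, 123, 369, 1107] := by decide +kernel

/-- A group of Janko three type has order `50232960`. -/
theorem order_eq [IsSimpleGroup G] (h : Setting z Q) : Nat.card G = 50232960 := by
  obtain ⟨w, k, m, N⟩ := exists_ndata h
  obtain ⟨ι, E, -, -⟩ := N.exists_emb h.toCore
  obtain ⟨δ, x, F, hδ, hF, hg, h5, h10, hb, hdF, hdg, heq⟩ := exists_equation h E
  obtain ⟨m2, hm2, hm2'⟩ := h.order_two_part
  have h256 : ¬ 256 ∣ Nat.card G := by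
    rintro ⟨r, hr⟩
    exact hm2' ⟨r, by omega⟩
  rcases order_cases hδ hF hg h5 h10 hb hdF hdg heq ⟨m2, hm2⟩ h256 N.k27 N.five.1 N.five.2 with e | e
  · exact e
  · exfalso
    haveI : Fact (Nat.Prime 73) := ⟨by norm_num⟩
    obtain ⟨x, hx⟩ := exists_prime_orderOf_dvd_card' (G := G) 73 (by rw [e]; norm_num)
    obtain ⟨c, q, n, hc, hN, hq, hn, htot⟩ := prime_options (Fact.out) hx (by rw [e]; norm_num)
    obtain ⟨ho, h5c⟩ := big_prime_cent h (Fact.out) (by norm_num) hx
    have hcq : c * q * n = 708480 := by rw [e] at htot; linarith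
    have hc' : c ∣ 1107 := by
      have h640 : c ∣ 640 * 1107 := ⟨q * n, by rw [← mul_assoc, hcq]⟩
      refine Nat.Coprime.dvd_of_dvd_mul_left ?_ h640
      have c2 : Nat.Coprime c 2 := ((Nat.prime_two.coprime_iff_not_dvd).2 fun d => ho (hc ▸ dvd_mul_of_dvd_right d 73)).symm
      have c5 : Nat.Coprime c 5 :=
        (((by norm_num : Nat.Prime 5).coprime_iff_not_dvd).2 fun d => h5c (hc ▸ dvd_mul_of_dvd_right d 73)).symm
      rw [show (640 : ℕ) = 2 ^ 7 * 5 by norm_num]
      exact (c2.pow_right 7).mul_right c5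
    have hq0 : q ≠ 0 := fun r => by rw [r, mul_zero, zero_mul] at hcq; norm_num at hcq
    have hc0 : c ≠ 0 := fun r => by rw [r, zero_mul, zero_mul] at hcq; norm_num at hcq
    refine kill_seventy_three c (divisors_1107 c (Nat.mem_divisors.2 ⟨hc', by norm_num⟩)) q
      (Nat.mem_divisors.2 ⟨hq, by norm_num⟩) (Nat.mod_eq_zero_of_dvd ⟨n, hcq.symm⟩) ?_
    rw [← hcq, Nat.mul_div_cancel_left _ (Nat.pos_of_ne_zero (mul_ne_zero hc0 hq0))]
    exact hn

end Cfsg.Agent.Invol.J3Type
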