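import Cfsg.Agent.Lib.Invol.J3Type.Elements
import Cfsg.Agent.Lib.Grp.Coprime
import Cfsg.Agent.S3313

/-!
# The normalizer of the elementary group of order sixteen
-/

set_option autoImplicit false
set_option linter.unusedSectionVars false
set_option linter.style.haveILetI false

namespace Cfsg.Agent.Invol.J3Type

open Cfsg Cfsg.Agent.Invol.HJ

universe u

variable {G : Type u} [Group G] {z : G} {Q : Subgroup G}

theorem three_cases : ∀ m : ZMod 3, m = 1 ∨ m = -1 ∨ m = 0 := by decide +kernel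
theorem cube_mod_five : ∀ k : ZMod 5, k * k * k = 1 → k = 1 := by decide +kernel
theorem square_mod_five : ∀ k : ZMod 5, k * k = 1 → k = 1 ∨ k = -1 := by decide +kernel

theorem zpow_five {v : G} (hv : orderOf v = 5) {a b : ℤ} : v ^ a = v ^ b ↔ (a : ZMod 5) = b := by
  rw [zpow_eq_zpow_iff_modEq, hv, ZMod.intCast_eq_intCast_iff]

theorem conj_pow_three {v t : G} (hv : orderOf v = 5) (ht : t ^ 3 = 1)
    (hn : t * v * t⁻¹ ∈ Subgroup.zpowers v) : t * v = v * t := by
  obtain ⟨k, hk⟩ := hn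
  have hk' : v ^ k = t * v * t⁻¹ := hk
  have h2 : ∀ j : ℤ, t * v ^ j * t⁻¹ = v ^ (k * j) := fun j => by rw [← conj_zpow, ← hk', zpow_mul]
  have h3 : v ^ (k * (k * k)) = v ^ (1 : ℤ) := by
    rw [zpow_one, ← h2, ← h2, hk']
    calc t * (t * (t * v * t⁻¹) * t⁻¹) * t⁻¹ = t ^ 3 * v * (t ^ 3)⁻¹ := by
          simp only [pow_succ, pow_zero, one_mul]; group
      _ = v := by rw [ht]; group
  have hk1 : (k : ZMod 5) = 1 := cube_mod_five _ (by
    rw [zpow_five hv] at h3; push_cast at h3; rw [mul_assoc]; exact h3)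
  have h4 : v ^ k = v := by
    conv_rhs => rw [← zpow_one v]
    rw [zpow_five hv, hk1, Int.cast_one]
  rw [hk'] at h4
  exact mul_inv_eq_iff_eq_mul.1 h4

theorem conj_pow_two {v i : G} (hv : orderOf v = 5) (hi : i * i = 1)
    (hn : i * v * i⁻¹ ∈ Subgroup.zpowers v) : i * v = v * i ∨ i * v * i⁻¹ = v⁻¹ := by
  obtain ⟨k, hk⟩ := hn
  have hk' : v ^ k = i * v * i⁻¹ := hk
  have h2 : ∀ j : ℤ, i * v ^ j * i⁻¹ = v ^ (k * j) := fun j => by rw [← conj_zpow, ← hk', zpow_mul]
  have h3 : v ^ (k * k) = v ^ (1 : ℤ) := by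
    rw [zpow_one, ← h2, hk']
    calc i * (i * v * i⁻¹) * i⁻¹ = (i * i) * v * (i * i)⁻¹ := by group
      _ = v := by rw [hi]; group
  rw [zpow_five hv] at h3
  push_cast at h3
  rcases square_mod_five _ h3 with e | e
  · left
    have h4 : v ^ k = v := by
      conv_rhs => rw [← zpow_one v]
      rw [zpow_five hv, e, Int.cast_one]
    rw [hk'] at h4
    exact mul_inv_eq_iff_eq_mul.1 h4
  · right
    rw [← hk', ← zpow_neg_one, zpow_five hv, e]
    push_cast; rfl

/-- An element commuting with a fixed-point-free element of order five fixes nothing or everything. -/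
theorem fix_all [Finite G] {R : Subgroup G} (hR : Nat.card R = 16) {v s : G} (hv : orderOf v = 5)
    (hvR : ∀ m ∈ R, v * m * v⁻¹ ∈ R) (hfpf : ∀ m ∈ R, v * m = m * v → m = 1) (hsv : s * v = v * s)
    {r : G} (hr : r ∈ R) (hr1 : r ≠ 1) (hsr : s * r = r * s) : ∀ m ∈ R, s * m = m * s := by
  classical
  haveI : Fact (Nat.Prime 5) := ⟨by norm_num⟩
  haveI : Fact (Nat.Prime 2) := ⟨Nat.prime_two⟩
  set K := R ⊓ Subgroup.centralizer ({s} : Set G) with hK
  set F := Subgroup.zpowers v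
  have hvN : v ∈ Subgroup.normalizer (K : Set G) := Subgroup.mem_normalizer_fintype (h := fun m hm =>
    Subgroup.mem_inf.2 ⟨hvR m (Subgroup.mem_inf.1 hm).1, mem_cent_iff.2 (by
      calc v * m * v⁻¹ * s = v * (m * (v⁻¹ * s * v)) * v⁻¹ := by group
        _ = v * (s * m) * v⁻¹ := by
          rw [mul_assoc v⁻¹ s v, hsv, inv_mul_cancel_left, mem_cent_iff.1 (Subgroup.mem_inf.1 hm).2]
        _ = (v * s) * m * v⁻¹ := by group
        _ = s * (v * m * v⁻¹) := by rw [← hsv]; group)⟩)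
  have hFN : F ≤ Subgroup.normalizer (K : Set G) := Subgroup.zpowers_le.2 hvN
  letI actK : MulAction F K :=
    { smul := fun k q => ⟨k * q * (k : G)⁻¹, (Subgroup.mem_normalizer_iff.1 (hFN k.2) q).1 q.2⟩
      one_smul := fun q => Subtype.ext (show (1 : G) * q * (1 : G)⁻¹ = q by group)
      mul_smul := fun a b q => Subtype.ext (show ((a : G) * b) * q * ((a : G) * b)⁻¹ = a * (b * q * (b : G)⁻¹) * (a : G)⁻¹ by group) }
  have hF5 : IsPGroup 5 F := IsPGroup.of_card (n := 1) (by rw [Nat.card_zpowers, hv, pow_one])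
  have hfix : Nat.card (MulAction.fixedPoints F K) = 1 := by
    rw [Nat.card_eq_one_iff_exists]
    refine ⟨⟨⟨1, one_mem K⟩, fun k => Subtype.ext (show (k : G) * 1 * (k : G)⁻¹ = 1 by group)⟩, fun q => ?_⟩
    have hq : v * (q : K) * v⁻¹ = ((q : K) : G) := congrArg Subtype.val (q.2 ⟨v, Subgroup.mem_zpowers v⟩)
    exact Subtype.ext (Subtype.ext (hfpf _ (Subgroup.mem_inf.1 q.1.2).1 (mul_inv_eq_iff_eq_mul.1 hq)))
  have hm := hF5.card_modEq_card_fixedPoints K
  rw [hfix] at hm
  obtain ⟨j, hj, hKj⟩ := (Nat.dvd_prime_pow Nat.prime_two).1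
    (show Nat.card K ∣ 2 ^ 4 from (Subgroup.card_dvd_of_le inf_le_left).trans (dvd_of_eq hR))
  have h1lt : 1 < Nat.card K :=
    Finite.one_lt_card_iff_nontrivial.2 ⟨⟨⟨r, Subgroup.mem_inf.2 ⟨hr, mem_cent_iff.2 hsr.symm⟩⟩, 1,
      fun e => hr1 (congrArg Subtype.val e)⟩⟩
  have hKR : K = R := by
    refine Subgroup.eq_of_le_of_card_ge inf_le_left ?_
    rw [hKj] at hm h1lt
    rw [hR, hKj]
    interval_cases j <;> first | omega | (exfalso; revert hm; decide) | norm_num
  intro m hm'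
  exact (mem_cent_iff.1 (Subgroup.mem_inf.1 (hKR ▸ hm' : m ∈ K)).2).symm

/-- Everything about the elementary group of order sixteen that the argument uses. -/
structure RData (z u x : G) (R : Subgroup G) : Prop where
  card : Nat.card R = 16
  self : ∀ g : G, (∀ m ∈ R, g * m = m * g) → g ∈ R
  comm : ∀ a ∈ R, ∀ b ∈ R, a * b = b * a
  sq : ∀ a ∈ R, a * a = 1
  zR : z ∈ R
  normCard : Nat.card (Subgroup.normalizer (R : Set G)) = 2880
  centz : Nat.card (Subgroup.normalizer (R : Set G) ⊓ Subgroup.centralizer ({z} : Set G) : Subgroup G) = 192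
  trans : ∀ m ∈ R, m ≠ 1 → ∃ g ∈ Subgroup.normalizer (R : Set G), g * z * g⁻¹ = m

theorem class_in (N : Subgroup G) {x : G} (hx : x ∈ N) [Finite G] :
    Nat.card {m : G // ∃ g ∈ N, g * x * g⁻¹ = m} *
      Nat.card (N ⊓ Subgroup.centralizer ({x} : Set G) : Subgroup G) = Nat.card N := by
  have h := S3313.card_class_mul (⟨x, hx⟩ : N)
  rw [← h]
  congr 1
  · refine (Nat.card_congr (Equiv.ofBijective
      (fun p : {p : N // IsConj ⟨x, hx⟩ p} => (⟨(p.1 : G), ?_⟩ : {m : G // ∃ g ∈ N, g * x * g⁻¹ = m})) ⟨?_, ?_⟩)).symm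
    · obtain ⟨g, hg⟩ := isConj_iff.1 p.2
      exact ⟨g, g.2, congrArg Subtype.val hg⟩
    · intro p q e
      have e' := congrArg (fun t : {m : G // ∃ g ∈ N, g * x * g⁻¹ = m} => (t : G)) e
      exact Subtype.ext (Subtype.ext e')
    · rintro ⟨m, g, hg, rfl⟩
      exact ⟨⟨⟨g * x * g⁻¹, N.mul_mem (N.mul_mem hg hx) (N.inv_mem hg)⟩,
        isConj_iff.2 ⟨⟨g, hg⟩, Subtype.ext rfl⟩⟩, rfl⟩
  · exact (card_cent_sub (⟨x, hx⟩ : N)).symm

set_option maxHeartbeats 800000 in
theorem exists_rdata [Finite G] [IsSimpleGroup G] (h : Setting z Q) :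
    ∃ u x R, RData z u x R := by
  classical
  haveI := Fintype.ofFinite G
  have hc := h.toCore
  obtain ⟨u, huC, hu2, huQ⟩ := h.exists_outside
  obtain ⟨x, σ, L⟩ := local_data hc huC hu2 huQ
  obtain ⟨M⟩ := hc.model
  set C := Subgroup.centralizer ({z} : Set G) with hC
  set R := C ⊓ Subgroup.centralizer ({u} : Set G) with hR
  have hR16 : Nat.card R = 16 := L.card_sixteen hc huC hu2
  have hcomm : ∀ a ∈ R, ∀ b ∈ R, a * b = b * a := fun a ha b hb => (L.abelian hc huC hu2 ha hb).1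
  have hsq : ∀ a ∈ R, a * a = 1 := fun a ha => (L.abelian hc huC hu2 ha ha).2
  have hzR : z ∈ R := Subgroup.mem_inf.2 ⟨hc.z_mem_C, mem_cent_iff.2 (hc.cz huC).symm⟩
  have huR : u ∈ R := Subgroup.mem_inf.2 ⟨huC, mem_cent_iff.2 rfl⟩
  have hRQ : ∀ w ∈ R, w ∈ Q → InD z x w := fun w hw hwQ =>
    (L.memQ w hwQ).1 (mem_cent_iff.1 (Subgroup.mem_inf.1 hw).2)
  have hDR : ∀ w, InD z x w → w ∈ R := fun w hw => Subgroup.mem_inf.2
    ⟨h.le_C (inD_Q L.xX hc hw), mem_cent_iff.2 ((L.memQ w (inD_Q L.xX hc hw)).2 hw)⟩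
  have hxR : x ∈ R := hDR x (Or.inr (Or.inr (Or.inl rfl)))
  have houtR : ∀ w ∈ R, w ∉ Q → C ⊓ Subgroup.centralizer ({w} : Set G) = R := by
    intro w hw hwQ
    have hwC := (Subgroup.mem_inf.1 hw).1
    obtain ⟨x', σ', L'⟩ := local_data hc hwC (hsq w hw) hwQ
    refine (Subgroup.eq_of_le_of_card_ge (fun m hm => ?_) ?_).symm
    · exact Subgroup.mem_inf.2 ⟨(Subgroup.mem_inf.1 hm).1, mem_cent_iff.2 (hcomm m hm w hw)⟩
    · rw [hR16]; exact (L'.card_sixteen hc hwC (hsq w hw)).le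
  have hnormC : ∀ c ∈ C, c * u * c⁻¹ ∈ R → c ∈ Subgroup.normalizer (R : Set G) := by
    intro c hc' hcu
    refine Subgroup.mem_normalizer_fintype (h := fun m hm => ?_)
    have hcuQ : c * u * c⁻¹ ∉ Q := fun e => huQ (by
      have := h.norm c⁻¹ (inv_mem hc') _ e
      simpa [mul_assoc] using this)
    rw [← houtR _ hcu hcuQ]
    exact Subgroup.mem_inf.2 ⟨mul_mem (mul_mem hc' (Subgroup.mem_inf.1 hm).1) (inv_mem hc'),
      mem_cent_iff.2 (comm_conj (mem_cent_iff.1 (Subgroup.mem_inf.1 hm).2))⟩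
  set N := Subgroup.normalizer (R : Set G) with hN
  have hRN : R ≤ N := Subgroup.le_normalizer
  -- the swap
  obtain ⟨g, hg⟩ := isConj_iff.1 (h.one u (two_iff.2 ⟨hu2, fun e => huQ (e ▸ Q.one_mem)⟩))
  set z' := g * z * g⁻¹ with hz'
  have hz'C : z' ∈ C := mem_cent_iff.2 (by rw [← hg]; exact comm_conj (hc.cz huC).symm)
  have hcard' : Nat.card (C ⊓ Subgroup.centralizer ({z'} : Set G) : Subgroup G) = 16 := by
    rw [← hR16]
    refine (Nat.card_congr ((MulAut.conj g).toEquiv.subtypeEquiv fun m => ?_)).symm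
    simp only [MulEquiv.toEquiv_eq_coe, EquivLike.coe_coe, MulAut.conj_apply]
    constructor
    · intro hm
      obtain ⟨h1, h2⟩ := Subgroup.mem_inf.1 hm
      refine Subgroup.mem_inf.2 ⟨mem_cent_iff.2 ?_, mem_cent_iff.2 (comm_conj (mem_cent_iff.1 h1))⟩
      rw [← hg]
      exact comm_conj (mem_cent_iff.1 h2)
    · intro hm
      obtain ⟨h1, h2⟩ := Subgroup.mem_inf.1 hm
      have h1' := mem_cent_iff.1 h1
      have h2' := mem_cent_iff.1 h2
      rw [← hg, conj_mul, conj_mul] at h1'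
      rw [hz', conj_mul, conj_mul] at h2'
      exact Subgroup.mem_inf.2 ⟨mem_cent_iff.2 (mul_left_cancel (mul_right_cancel h2')),
        mem_cent_iff.2 (mul_left_cancel (mul_right_cancel h1'))⟩
  have hz'Q : z' ∉ Q := by
    intro hq
    have hz'ne : z' ≠ z := fun e => by
      rw [e, inf_idem, hc.card_C] at hcard'
      omega
    have hX : z' ∈ nonCentralInvol z Q := ⟨hq, by rw [hz', conj_mul, hc.z_sq, mul_one, mul_inv_cancel],
      fun e => hc.ne_one (conj_eq_one_iff.1 e), hz'ne⟩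
    have h1 := class_in C hz'C
    rw [hcard', hc.card_C] at h1
    have h2 : Nat.card {m : G // ∃ g ∈ C, g * z' * g⁻¹ = m} ≤ 10 := by
      rw [← hc.ten.1]
      exact Nat.card_le_card_of_injective
        (fun m => (⟨m.1, by obtain ⟨k, hk, hk'⟩ := m.2; exact hk' ▸ hc.invol_conj hk hX⟩ : nonCentralInvol z Q))
        fun a b e => Subtype.ext (congrArg (fun t : nonCentralInvol z Q => (t : G)) e)
    omega
  obtain ⟨c, hcC, hce⟩ := M.outside_conj hc hz'C (by rw [hz', conj_mul, hc.z_sq, mul_one, mul_inv_cancel]) hz'Q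
    huC hu2 huQ
  set k := c * g with hk
  have hku : k * u * k⁻¹ = z := by
    calc c * g * u * (c * g)⁻¹ = c * (g * u * g⁻¹) * c⁻¹ := by group
      _ = z := by rw [hg, hc.cz hcC, mul_inv_cancel_right]
  have hkz : k * z * k⁻¹ = u := by rw [← hce, hz']; rw [hk]; group
  have hkN : k ∈ N := Subgroup.mem_normalizer_fintype (h := fun m hm => by
    obtain ⟨hm1, hm2⟩ := Subgroup.mem_inf.1 hm
    refine Subgroup.mem_inf.2 ⟨mem_cent_iff.2 ?_, mem_cent_iff.2 ?_⟩
    · rw [← hku]; exact comm_conj (mem_cent_iff.1 hm2)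
    · rw [← hkz]; exact comm_conj (mem_cent_iff.1 hm1))
  have htr : ∀ m ∈ R, m ∉ Q → ∃ g ∈ N, g * z * g⁻¹ = m := by
    intro m hm hmQ
    obtain ⟨c', hc', he⟩ := M.outside_conj hc huC hu2 huQ (Subgroup.mem_inf.1 hm).1 (hsq m hm) hmQ
    refine ⟨c' * k, mul_mem (hnormC c' hc' (he ▸ hm)) hkN, ?_⟩
    rw [← he, ← hkz]; group
  -- the stabilizer of the centre
  have hzx1 : z * x ≠ 1 := (hc.zmul_mem L.xX).2.2.1
  have hD4 : Nat.card {w : G // InD z x w} = 4 := by
    have hS : ∀ w, InD z x w ↔ w ∈ ({1, z, x, z * x} : Finset G) := fun w => by simp [InD]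
    rw [Nat.card_congr (Equiv.subtypeEquivRight hS), Nat.card_eq_fintype_card, Fintype.card_coe]
    have hxz : z * x ≠ z := fun e => L.xX.2.2.1 (mul_eq_left.1 e)
    have hxx : x ≠ z * x := fun e => hc.ne_one (mul_eq_right.1 e.symm)
    simp [Finset.card_insert_of_notMem, Ne.symm hc.ne_one, Ne.symm L.xX.2.2.1, Ne.symm hzx1,
      Ne.symm L.xX.2.2.2, Ne.symm hxz, hxx]
  have hcu : Nat.card (N ⊓ C : Subgroup G) = 192 := by
    have hsplit : Nat.card R = Nat.card {w : G // w ∈ R ∧ w ∉ Q} + Nat.card {w : G // InD z x w} := by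
      rw [← Nat.card_sum]
      refine Nat.card_congr ((Equiv.sumCompl (fun w : R => (w : G) ∉ Q)).symm.trans (Equiv.sumCongr
        ⟨fun w => ⟨w.1, w.1.2, w.2⟩, fun w => ⟨⟨w.1, w.2.1⟩, w.2.2⟩, fun w => rfl, fun w => rfl⟩
        ⟨fun w => ⟨w.1, hRQ _ w.1.2 (not_not.1 w.2)⟩, fun w => ⟨⟨w.1, hDR _ w.2⟩, not_not.2 (inD_Q L.xX hc w.2)⟩,
          fun w => rfl, fun w => rfl⟩))
    have hcl : Nat.card {m : G // ∃ g ∈ N ⊓ C, g * u * g⁻¹ = m} = 12 := by
      rw [hR16, hD4] at hsplit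
      refine Eq.trans ?_ (show Nat.card {w : G // w ∈ R ∧ w ∉ Q} = 12 by omega)
      refine Nat.card_congr (Equiv.subtypeEquivRight fun m => ⟨?_, ?_⟩)
      · rintro ⟨e, he, rfl⟩
        exact ⟨(Subgroup.mem_normalizer_iff.1 he.1 u).1 huR, fun e' => huQ (by
          have := h.norm e⁻¹ (inv_mem he.2) _ e'
          simpa [mul_assoc] using this)⟩
      · rintro ⟨hm, hmQ⟩
        obtain ⟨c', hc', he⟩ := M.outside_conj hc huC hu2 huQ (Subgroup.mem_inf.1 hm).1 (hsq m hm) hmQ
        exact ⟨c', ⟨hnormC c' hc' (he ▸ hm), hc'⟩, he⟩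
    have h1 := class_in (N ⊓ C) (x := u) ⟨hRN huR, huC⟩
    have h2 : N ⊓ C ⊓ Subgroup.centralizer ({u} : Set G) = R := le_antisymm
      (fun m hm => Subgroup.mem_inf.2 ⟨hm.1.2, hm.2⟩)
      (fun m hm => ⟨⟨hRN hm, (Subgroup.mem_inf.1 hm).1⟩, (Subgroup.mem_inf.1 hm).2⟩)
    rw [hcl, h2, hR16] at h1
    exact h1.symm
  -- the orbit of the centre
  set O : Set G := {m | ∃ g ∈ N, g * z * g⁻¹ = m} with hO
  have hOinv : ∀ g ∈ N, ∀ m, m ∉ O → g * m * g⁻¹ ∉ O := by
    intro g' hg' m hm hcon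
    obtain ⟨e, he, hee⟩ := hcon
    refine hm ⟨g'⁻¹ * e, mul_mem (inv_mem hg') he, ?_⟩
    calc g'⁻¹ * e * z * (g'⁻¹ * e)⁻¹ = g'⁻¹ * (e * z * e⁻¹) * g' := by group
      _ = m := by rw [hee]; group
  have hzO : z ∈ O := ⟨1, one_mem _, by group⟩
  have huO : u ∈ O := ⟨k, hkN, hkz⟩
  have hOsub : ∀ m ∈ O, m ∈ R ∧ m ≠ 1 := by
    rintro _ ⟨e, he, rfl⟩
    exact ⟨(Subgroup.mem_normalizer_iff.1 he z).1 hzR, fun e' => hc.ne_one (conj_eq_one_iff.1 e')⟩
  have hmiss : ∀ m ∈ R, m ≠ 1 → m ∉ O → m = x ∨ m = z * x := by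
    intro m hm hm1 hmO
    by_cases hmQ : m ∈ Q
    · rcases hRQ m hm hmQ with e | e | e | e
      · exact absurd e hm1
      · exact absurd (e ▸ hzO) hmO
      · exact Or.inl e
      · exact Or.inr e
    · exact absurd (htr m hm hmQ) hmO
  have hcount : Nat.card {m : G // ∃ g ∈ N, g * z * g⁻¹ = m} * 192 = Nat.card N := by
    have := class_in N (x := z) (hRN hzR)
    rwa [← hC, hcu] at this
  have hall : ∀ m ∈ R, m ≠ 1 → m ∈ O := by
    intro m hm hm1
    by_contra hmO
    have hxx : x * (z * x) = z := by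
      rw [← mul_assoc, hc.zq L.xX.1, mul_assoc, L.xX.2.1, mul_one]
    by_cases hboth : x ∉ O ∧ z * x ∉ O
    · -- both missing: the centre is fixed
      have hzfix : ∀ e ∈ N, e * z * e⁻¹ = z := by
        intro e he
        have h1 := hmiss _ ((Subgroup.mem_normalizer_iff.1 he x).1 hxR)
          (fun e' => L.xX.2.2.1 (conj_eq_one_iff.1 e')) (hOinv e he x hboth.1)
        have h2 := hmiss _ ((Subgroup.mem_normalizer_iff.1 he (z * x)).1 (R.mul_mem hzR hxR))
          (fun e' => hzx1 (conj_eq_one_iff.1 e')) (hOinv e he _ hboth.2)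
        have e1 : e * z * e⁻¹ = (e * x * e⁻¹) * (e * (z * x) * e⁻¹) := by rw [conj_mul, hxx]
        have hne : e * x * e⁻¹ ≠ e * (z * x) * e⁻¹ := fun e' => hc.ne_one
          (mul_eq_right.1 (mul_left_cancel (mul_right_cancel e')).symm)
        rcases h1 with h1 | h1 <;> rcases h2 with h2 | h2
        · exact absurd (h1.trans h2.symm) hne
        · rw [e1, h1, h2, hxx]
        · rw [e1, h1, h2, mul_assoc, L.xX.2.1, mul_one]
        · exact absurd (h1.trans h2.symm) hne
      have h3 := hzfix k hkN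
      rw [hkz] at h3
      exact huQ (h3 ▸ h.mem_z)
    · -- one missing: it is fixed
      have hm' := hmiss m hm hm1 hmO
      have hother : z * m ∈ O := by
        push Not at hboth
        rcases hm' with rfl | rfl
        · exact hboth hmO
        · rw [← mul_assoc, hc.z_sq, one_mul]
          by_contra hx'
          exact hmO (hboth hx')
      have hfix : ∀ e ∈ N, e * m * e⁻¹ = m := by
        intro e he
        rcases hmiss _ ((Subgroup.mem_normalizer_iff.1 he m).1 hm) (fun e' => hm1 (conj_eq_one_iff.1 e'))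
          (hOinv e he m hmO) with e1 | e1 <;> rcases hm' with e2 | e2
        · rw [e1, e2]
        · exfalso; refine hOinv e he m hmO ?_
          rw [e1]; rw [e2, ← mul_assoc, hc.z_sq, one_mul] at hother; exact hother
        · exfalso; refine hOinv e he m hmO ?_
          rw [e1]; rw [e2] at hother; exact hother
        · rw [e1, e2]
      have hle : N ≤ Subgroup.centralizer ({m} : Set G) := fun e he =>
        mem_cent_iff.2 (mul_inv_eq_iff_eq_mul.1 (hfix e he))
      have h1 := Subgroup.card_le_of_le hle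
      have hmC : Nat.card (Subgroup.centralizer ({m} : Set G)) = 1920 := by
        obtain ⟨e, he⟩ := isConj_iff.1 (h.one m (two_iff.2 ⟨hsq m hm, hm1⟩))
        rw [← card_cent_conj e, he, hc.card_C]
      have h13 : 12 ≤ Nat.card {w : G // ∃ g ∈ N, g * z * g⁻¹ = w} := by
        have : Nat.card {w : G // w ∈ R ∧ w ∉ Q} ≤ Nat.card {w : G // ∃ g ∈ N, g * z * g⁻¹ = w} :=
          Nat.card_le_card_of_injective (fun w => ⟨w.1, htr _ w.2.1 w.2.2⟩)
            fun a b e => Subtype.ext (congrArg (fun t : {w : G // ∃ g ∈ N, g * z * g⁻¹ = w} => (t : G)) e)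
        have h2 : Nat.card R = Nat.card {w : G // w ∈ R ∧ w ∉ Q} + Nat.card {w : G // InD z x w} := by
          rw [← Nat.card_sum]
          refine Nat.card_congr ((Equiv.sumCompl (fun w : R => (w : G) ∉ Q)).symm.trans (Equiv.sumCongr
            ⟨fun w => ⟨w.1, w.1.2, w.2⟩, fun w => ⟨⟨w.1, w.2.1⟩, w.2.2⟩, fun w => rfl, fun w => rfl⟩
            ⟨fun w => ⟨w.1, hRQ _ w.1.2 (not_not.1 w.2)⟩, fun w => ⟨⟨w.1, hDR _ w.2⟩, not_not.2 (inD_Q L.xX hc w.2)⟩,
              fun w => rfl, fun w => rfl⟩))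
        rw [hR16, hD4] at h2
        omega
      omega
  have hO15 : Nat.card {m : G // ∃ g ∈ N, g * z * g⁻¹ = m} = 15 := by
    have e1 : ∀ m, (∃ g ∈ N, g * z * g⁻¹ = m) ↔ m ∈ ((R : Set G) \ {1}) := fun m =>
      ⟨fun hm => ⟨(hOsub m hm).1, (hOsub m hm).2⟩, fun hm => hall m hm.1 hm.2⟩
    rw [Nat.card_congr (Equiv.subtypeEquivRight e1), Nat.card_coe_set_eq, Set.ncard_diff (by simp) (Set.toFinite _),
      Set.ncard_singleton, ← Nat.card_coe_set_eq, SetLike.coe_sort_coe, hR16]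
  refine ⟨u, x, R, hR16, fun m hm => ?_, hcomm, hsq, hzR, ?_, hcu, hall⟩
  · exact Subgroup.mem_inf.2 ⟨mem_cent_iff.2 (hm z hzR), mem_cent_iff.2 (hm u huR)⟩
  · rw [← hcount, hO15]

set_option maxHeartbeats 1000000 in
/-- A commuting pair of orders five and three in the normalizer, the first without fixed points, and an
involution of the normalizer stabilizing the subgroup of order five and centralizing one of them. -/
theorem RData.exists_pair_mem [Finite G] {u x : G} {R : Subgroup G} (d : RData z u x R) :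
    ∃ v t : G, orderOf v = 5 ∧ orderOf t = 3 ∧ v * t = t * v ∧
      v ∈ Subgroup.normalizer (R : Set G) ∧ t ∈ Subgroup.normalizer (R : Set G) ∧
      (∀ m ∈ R, v * m = m * v → m = 1) ∧
      ∃ i : G, orderOf i = 2 ∧ i ∈ Subgroup.normalizer (R : Set G) ∧ i * v * i⁻¹ ∈ Subgroup.zpowers v ∧
        (i * v = v * i ∨ i * t = t * i) := by
  classical
  haveI : Fact (Nat.Prime 5) := ⟨by norm_num⟩
  haveI : Fact (Nat.Prime 3) := ⟨by norm_num⟩
  haveI : Fact (Nat.Prime 2) := ⟨by norm_num⟩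
  set N := Subgroup.normalizer (R : Set G) with hN
  have hRN : R ≤ N := Subgroup.le_normalizer
  have hRi : ∀ {g}, g ∈ N → ∀ m ∈ R, g * m * g⁻¹ ∈ R := fun hg m hm => (Subgroup.mem_normalizer_iff.1 hg m).1 hm
  obtain ⟨v0, hv0⟩ := exists_prime_orderOf_dvd_card' (G := N) 5 (by rw [d.normCard]; norm_num)
  rw [← Subgroup.orderOf_coe] at hv0
  set v : G := (v0 : G) with hv
  have hvN : v ∈ N := v0.2
  have hfpf : ∀ m ∈ R, v * m = m * v → m = 1 := by
    intro m hm hc
    by_contra hm1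
    obtain ⟨g, hg, hge⟩ := d.trans m hm hm1
    have hmem : g⁻¹ * v * g ∈ N ⊓ Subgroup.centralizer ({z} : Set G) := by
      refine Subgroup.mem_inf.2 ⟨N.mul_mem (N.mul_mem (N.inv_mem hg) hvN) hg, mem_cent_iff.2 ?_⟩
      calc g⁻¹ * v * g * z = g⁻¹ * (v * (g * z * g⁻¹)) * g := by group
        _ = z * (g⁻¹ * v * g) := by rw [hge, hc, ← hge]; group
    have h1 := Subgroup.orderOf_dvd_natCard _ hmem
    have e := orderOf_conj' g⁻¹ v
    rw [inv_inv] at e
    rw [d.centz, e, hv0] at h1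
    norm_num at h1
  have hfix_false : ∀ s, s * v = v * s → s ∉ R → ∀ r ∈ R, r ≠ 1 → s * r ≠ r * s := fun s hsv hsR r hr hr1 hsr =>
    hsR (d.self s (fix_all d.card hv0 (hRi hvN) hfpf hsv hr hr1 hsr))
  have hnR : ∀ {s : G}, orderOf s = 3 → s ∉ R := fun {s} hs e => by
    have := Subgroup.orderOf_dvd_natCard _ e
    rw [hs, d.card] at this
    norm_num at this
  set N5 := N ⊓ Subgroup.normalizer (Subgroup.zpowers v : Set G) with hN5
  have hvN5 : v ∈ N5 := Subgroup.mem_inf.2 ⟨hvN, Subgroup.le_normalizer (Subgroup.mem_zpowers v)⟩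
  have hconj5 : ∀ {g}, g ∈ N5 → g * v * g⁻¹ ∈ Subgroup.zpowers v := fun hg =>
    (Subgroup.mem_normalizer_iff.1 (Subgroup.mem_inf.1 hg).2 v).1 (Subgroup.mem_zpowers v)
  have hRN5 : ∀ r ∈ R, r ∈ N5 → r = 1 := by
    intro r hr hr5
    refine hfpf r hr ?_
    have h1 : r * v * r⁻¹ * v⁻¹ ∈ Subgroup.zpowers v := mul_mem (hconj5 hr5) (inv_mem (Subgroup.mem_zpowers v))
    have h2 : r * v * r⁻¹ * v⁻¹ ∈ R := by
      rw [show r * v * r⁻¹ * v⁻¹ = r * (v * r⁻¹ * v⁻¹) by group]
      exact R.mul_mem hr (hRi hvN _ (R.inv_mem hr))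
    have h3 : r * v * r⁻¹ * v⁻¹ = 1 := orderOf_eq_one_iff.1 (Nat.eq_one_of_dvd_coprimes
      (by norm_num : Nat.Coprime 5 16)
      (by have := Subgroup.orderOf_dvd_natCard _ h1; rwa [Nat.card_zpowers, hv0] at this)
      (by have := Subgroup.orderOf_dvd_natCard _ h2; rwa [d.card] at this))
    rw [mul_inv_eq_one, mul_inv_eq_iff_eq_mul] at h3
    exact h3.symm
  -- the Sylow subgroup
  obtain ⟨P, hP⟩ : ∃ P : Sylow 5 N, (P : Subgroup N) = Subgroup.zpowers v0 := by
    have hp : IsPGroup 5 (Subgroup.zpowers v0) := IsPGroup.of_card (n := 1)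
      (by rw [Nat.card_zpowers, ← Subgroup.orderOf_coe, hv0, pow_one])
    obtain ⟨P, hP⟩ := hp.exists_le_sylow
    refine ⟨P, (Subgroup.eq_of_le_of_card_ge hP ?_).symm⟩
    have e1 : (2880 : ℕ).factorization 5 = 1 := by
      rw [show (2880 : ℕ) = 5 ^ 1 * 576 by norm_num,
        Nat.factorization_mul (by norm_num) (by norm_num), Finsupp.add_apply,
        (show Nat.Prime 5 by norm_num).factorization_pow, Finsupp.single_eq_same,
        Nat.factorization_eq_zero_of_not_dvd (by norm_num)]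
    rw [P.card_eq_multiplicity, d.normCard, e1, Nat.card_zpowers, ← Subgroup.orderOf_coe, hv0]
    norm_num
  have hnormP : Nat.card (Subgroup.normalizer ((P : Subgroup N) : Set N)) = Nat.card N5 := by
    have hzz : ∀ w : N, w ∈ Subgroup.zpowers v0 ↔ (w : G) ∈ Subgroup.zpowers v := fun w => by
      simp only [Subgroup.mem_zpowers_iff]
      exact ⟨fun ⟨i, hi⟩ => ⟨i, by rw [← hi]; simp [hv]⟩, fun ⟨i, hi⟩ => ⟨i, Subtype.ext (by simpa [hv] using hi)⟩⟩
    rw [hP]
    refine Nat.card_congr ⟨fun g => ⟨(g : N), Subgroup.mem_inf.2 ⟨(g : N).2, ?_⟩⟩,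
      fun g => ⟨⟨g, (Subgroup.mem_inf.1 g.2).1⟩, ?_⟩, fun g => rfl, fun g => rfl⟩
    · refine Subgroup.mem_normalizer_fintype (h := fun w hw => ?_) <;> skip
      have hwN : w ∈ N := (Subgroup.zpowers_le.2 hvN) hw
      exact (hzz (g * ⟨w, hwN⟩ * (g : N)⁻¹)).1
        ((Subgroup.mem_normalizer_iff.1 g.2 ⟨w, hwN⟩).1 ((hzz _).2 hw))
    · refine Subgroup.mem_normalizer_fintype (h := fun w hw => ?_)
      exact (hzz _).2 ((Subgroup.mem_normalizer_iff.1 (Subgroup.mem_inf.1 g.2).2 _).1 ((hzz w).1 hw))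
  have hcount : Nat.card (Sylow 5 N) * Nat.card N5 = 2880 := by
    rw [P.card_eq_index_normalizer, ← hnormP]
    exact (Subgroup.index_mul_card _).trans d.normCard
  have hmod : Nat.card (Sylow 5 N) ≡ 1 [MOD 5] := card_sylow_modEq_one 5 N
  have h5dvd : 5 ∣ Nat.card N5 := hv0 ▸ Subgroup.orderOf_dvd_natCard _ hvN5
  have hN5dvd : Nat.card N5 * 16 ∣ 2880 := by
    rw [← d.normCard, ← d.card]
    have hle : N5 ≤ Subgroup.normalizer (R : Set G) := inf_le_left
    have hd : R ⊔ N5 ≤ N := sup_le hRN inf_le_left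
    refine dvd_trans (dvd_of_eq ?_) (Subgroup.card_dvd_of_le hd)
    rw [← Nat.card_prod]
    refine Nat.card_congr (Equiv.ofBijective (fun p : N5 × R =>
      (⟨(p.2 : G) * p.1, mul_mem ((le_sup_left : R ≤ R ⊔ N5) p.2.2) ((le_sup_right : N5 ≤ R ⊔ N5) p.1.2)⟩ : ↥(R ⊔ N5)))
      ⟨?_, ?_⟩)
    · rintro ⟨a, r⟩ ⟨a', r'⟩ e
      have e' : (r : G) * a = r' * a' := congrArg Subtype.val e
      have h1 : (r' : G)⁻¹ * r = a' * (a : G)⁻¹ := by
        rw [inv_mul_eq_iff_eq_mul, ← mul_assoc, eq_mul_inv_iff_mul_eq, e']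
      have h2 := hRN5 _ (R.mul_mem (R.inv_mem r'.2) r.2) (h1 ▸ N5.mul_mem a'.2 (N5.inv_mem a.2))
      refine Prod.ext (Subtype.ext ?_) (Subtype.ext (inv_mul_eq_one.1 h2).symm)
      exact (mul_inv_eq_one.1 (h1.symm.trans h2)).symm
    · rintro ⟨g, hg⟩
      have hg' : g ∈ (↑(R ⊔ N5) : Set G) := hg
      rw [Subgroup.coe_mul_of_right_le_normalizer_left _ _ hle] at hg'
      obtain ⟨r, hr, a, ha, rfl⟩ := hg'
      exact ⟨(⟨a, ha⟩, ⟨r, hr⟩), Subtype.ext rfl⟩
  have hcases : Nat.card N5 = 5 ∨ Nat.card N5 = 30 ∨ Nat.card N5 = 180 := by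
    obtain ⟨m, hm⟩ := h5dvd
    have hm36 : m ∣ 36 := by
      rw [hm, show (2880 : ℕ) = 5 * 16 * 36 by norm_num, show 5 * m * 16 = 5 * 16 * m by ring] at hN5dvd
      exact Nat.dvd_of_mul_dvd_mul_left (by norm_num) hN5dvd
    have hmle : m ≤ 36 := Nat.le_of_dvd (by norm_num) hm36
    have hs : Nat.card (Sylow 5 N) * m = 576 := by
      rw [hm] at hcount
      exact Nat.eq_of_mul_eq_mul_left (by norm_num : 0 < 5) ((by ring : 5 * (Nat.card (Sylow 5 N) * m) =
        Nat.card (Sylow 5 N) * (5 * m)).trans (hcount.trans (by norm_num)))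
    have hs' : Nat.card (Sylow 5 N) % 5 = 1 := hmod
    interval_cases m <;> omega
  rcases hcases with h5 | h30 | h180
  · -- a normal complement is impossible
    exfalso
    have hPc : Nat.card (P : Subgroup N) = 5 := by rw [hP, Nat.card_zpowers, ← Subgroup.orderOf_coe, hv0]
    have hnc : Subgroup.normalizer ((P : Subgroup N) : Set N) ≤ Subgroup.centralizer ((P : Subgroup N) : Set N) := by
      have heq : (P : Subgroup N) = Subgroup.normalizer ((P : Subgroup N) : Set N) :=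
        Subgroup.eq_of_le_of_card_ge Subgroup.le_normalizer (by rw [hnormP, h5, hPc])
      rw [← heq]
      haveI := isCyclic_of_prime_card hPc
      intro g hg q hq
      exact congrArg Subtype.val (mul_comm' (⟨q, hq⟩ : (P : Subgroup N)) ⟨g, hg⟩)
    have hcomp := MonoidHom.ker_transferSylow_isComplement' P hnc
    set K := (MonoidHom.transferSylow P hnc).ker with hK
    have hKc : Nat.card K = 576 := by
      have := hcomp.card_mul
      rw [hPc, d.normCard] at this
      omega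
    set KG := K.map N.subtype with hKG
    have hKGc : Nat.card KG = 576 := by rw [hKG, Subgroup.card_map_of_injective N.subtype_injective, hKc]
    have hnormK : Subgroup.zpowers v ≤ Subgroup.normalizer (KG : Set G) := by
      refine Subgroup.zpowers_le.2 (Subgroup.mem_normalizer_fintype (h := ?_))
      rintro _ ⟨w, hw, rfl⟩
      exact ⟨v0 * w * v0⁻¹, (inferInstance : K.Normal).conj_mem w hw v0, rfl⟩
    obtain ⟨T, ⟨hTK, hT3, hTidx⟩, hTn⟩ := Cfsg.Agent.Grp.exists_invariant_sylow (Subgroup.zpowers v) KG hnormK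
      (by rw [Nat.card_zpowers, hv0, hKGc]; norm_num) (Or.inl inferInstance) 3
    have hT9 : Nat.card T = 9 := by
      have h1 : T.relIndex KG * Nat.card T = 576 := by
        rw [← Nat.card_congr (Subgroup.subgroupOfEquivOfLe hTK).toEquiv, Subgroup.relIndex,
          Subgroup.index_mul_card, hKGc]
      obtain ⟨j, hj⟩ := IsPGroup.iff_card.1 hT3
      rw [hj] at h1 ⊢
      have hj6 : 3 ^ j ≤ 576 := Nat.le_of_dvd (by norm_num) (Dvd.intro_left _ h1)
      have : j < 6 := (Nat.pow_lt_pow_iff_right (by norm_num : 1 < 3)).1 (lt_of_le_of_lt hj6 (by norm_num))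
      interval_cases j <;> omega
    set F := Subgroup.zpowers v
    letI actT : MulAction F T :=
      { smul := fun k q => ⟨k * q * (k : G)⁻¹, (Subgroup.mem_normalizer_iff.1 (hTn k.2) q).1 q.2⟩
        one_smul := fun q => Subtype.ext (show (1 : G) * q * (1 : G)⁻¹ = q by group)
        mul_smul := fun a b q => Subtype.ext (show ((a : G) * b) * q * ((a : G) * b)⁻¹ = a * (b * q * (b : G)⁻¹) * (a : G)⁻¹ by group) }
    have hF5 : IsPGroup 5 F := IsPGroup.of_card (n := 1) (by rw [Nat.card_zpowers, hv0, pow_one])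
    have hm := hF5.card_modEq_card_fixedPoints T
    have hfix : Nat.card (MulAction.fixedPoints F T) = Nat.card ↥(T ⊓ Subgroup.centralizer ({v} : Set G)) := by
      refine Nat.card_congr
        { toFun := fun q => ⟨(q.1 : G), q.1.2, mem_cent_iff.2 ?_⟩
          invFun := fun q => ⟨⟨q.1, q.2.1⟩, fun k => ?_⟩
          left_inv := fun q => rfl
          right_inv := fun q => rfl }
      · exact (mul_inv_eq_iff_eq_mul.1 (congrArg Subtype.val (q.2 ⟨v, Subgroup.mem_zpowers v⟩))).symm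
      · obtain ⟨j, hj⟩ := k.2
        refine Subtype.ext ?_
        show (k : G) * q.1 * (k : G)⁻¹ = q.1
        rw [← hj, mul_inv_eq_iff_eq_mul]
        exact ((show Commute v q.1 from (mem_cent_iff.1 q.2.2).symm).zpow_left j).eq
    rw [hfix, hT9] at hm
    have hdvd : Nat.card ↥(T ⊓ Subgroup.centralizer ({v} : Set G)) ∣ 9 := hT9 ▸ Subgroup.card_dvd_of_le inf_le_left
    have hle : T ≤ N5 := by
      have heq : T ⊓ Subgroup.centralizer ({v} : Set G) = T := by
        refine Subgroup.eq_of_le_of_card_ge inf_le_left ?_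
        rw [hT9]
        have hle9 := Nat.le_of_dvd (by norm_num) hdvd
        have hm' : 9 % 5 = Nat.card ↥(T ⊓ Subgroup.centralizer ({v} : Set G)) % 5 := hm
        set cT := Nat.card ↥(T ⊓ Subgroup.centralizer ({v} : Set G))
        interval_cases cT <;> omega
      intro t ht
      have htN : t ∈ N := by obtain ⟨w, -, rfl⟩ := hTK ht; exact w.2
      refine Subgroup.mem_inf.2 ⟨htN, Subgroup.mem_normalizer_fintype (h := fun w hw => ?_)⟩
      obtain ⟨j, rfl⟩ := hw
      have hc : Commute t v := mem_cent_iff.1 (heq.symm ▸ ht : t ∈ T ⊓ Subgroup.centralizer ({v} : Set G)).2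
      show t * v ^ j * t⁻¹ ∈ Subgroup.zpowers v
      rw [(hc.zpow_right j).eq, mul_inv_cancel_right]
      exact Subgroup.zpow_mem_zpowers v j
    have := Subgroup.card_dvd_of_le hle
    rw [h5, hT9] at this
    norm_num at this
  · -- the fifteen element
    obtain ⟨t0, ht0⟩ := exists_prime_orderOf_dvd_card' (G := N5) 3 (by rw [h30]; norm_num)
    obtain ⟨i0, hi0⟩ := exists_prime_orderOf_dvd_card' (G := N5) 2 (by rw [h30]; norm_num)
    rw [← Subgroup.orderOf_coe] at ht0 hi0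
    set t : G := (t0 : G)
    set i : G := (i0 : G)
    obtain ⟨hi2, hi1⟩ := two_iff.1 hi0
    have ht3 : t ^ 3 = 1 := ht0 ▸ pow_orderOf_eq_one t
    have hv5 : v ^ 5 = 1 := hv0 ▸ pow_orderOf_eq_one v
    have htv := conj_pow_three hv0 ht3 (hconj5 t0.2)
    refine ⟨v, t, hv0, ht0, htv.symm, hvN, (Subgroup.mem_inf.1 t0.2).1, hfpf, i, hi0,
      (Subgroup.mem_inf.1 i0.2).1, hconj5 i0.2, ?_⟩
    rcases conj_pow_two hv0 hi2 (hconj5 i0.2) with e | hiv
    · exact Or.inl e
    right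
    set g := v * t with hg
    have hgc : Commute v t := htv.symm
    have hg15 : orderOf g = 15 := by
      rw [hg, hgc.orderOf_mul_eq_mul_orderOf_of_coprime (by rw [hv0, ht0]; norm_num), hv0, ht0]
    set C5 := N5 ⊓ Subgroup.centralizer ({v} : Set G) with hC5
    have hgC : g ∈ C5 := Subgroup.mem_inf.2 ⟨mul_mem hvN5 t0.2,
      mem_cent_iff.2 (((Commute.refl v).mul_right hgc).symm).eq⟩
    have hC5eq : Subgroup.zpowers g = C5 := by
      refine Subgroup.eq_of_le_of_card_ge (Subgroup.zpowers_le.2 hgC) ?_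
      rw [Nat.card_zpowers, hg15]
      have hd : Nat.card C5 ∣ 30 := h30 ▸ Subgroup.card_dvd_of_le inf_le_left
      have hne : Nat.card C5 ≠ 30 := fun e => by
        have heq : C5 = N5 := Subgroup.eq_of_le_of_card_ge inf_le_left (by rw [h30, e])
        have hiC : i ∈ C5 := heq ▸ i0.2
        have h1 := mem_cent_iff.1 (Subgroup.mem_inf.1 hiC).2
        rw [h1, mul_inv_cancel_right] at hiv
        have h2 : v ^ 2 = 1 := by rw [pow_two]; nth_rewrite 1 [hiv]; exact inv_mul_cancel v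
        have h3 := orderOf_dvd_of_pow_eq_one h2
        rw [hv0] at h3
        norm_num at h3
      have hle30 := Nat.le_of_dvd (by norm_num) hd
      by_contra hgt
      push Not at hgt
      set c5 := Nat.card C5
      interval_cases c5 <;> omega
    have hit : i * t * i⁻¹ ∈ Subgroup.zpowers g := by
      rw [hC5eq]
      refine Subgroup.mem_inf.2 ⟨mul_mem (mul_mem i0.2 t0.2) (inv_mem i0.2), mem_cent_iff.2 ?_⟩
      have h1 := comm_conj (g := i) htv
      rw [hiv] at h1
      have h2 : Commute (i * t * i⁻¹) v⁻¹ := h1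
      simpa using h2.inv_right.eq
    obtain ⟨k, hk⟩ := hit
    have hk' : g ^ k = i * t * i⁻¹ := hk
    have h3k : (i * t * i⁻¹) ^ 3 = 1 := by rw [conj_pow, ht3]; group
    have hitp : i * t * i⁻¹ = t ^ k ∧ v ^ k = 1 := by
      rw [← hk', hg, hgc.mul_zpow] at h3k ⊢
      rw [((hgc.zpow_zpow k k)).mul_pow] at h3k
      have h5k : (t ^ k) ^ 3 = 1 := by rw [← zpow_natCast, ← zpow_mul, mul_comm, zpow_mul, zpow_natCast, ht3, one_zpow]
      rw [h5k, mul_one] at h3k
      have h55 : (v ^ k) ^ 5 = 1 := by rw [← zpow_natCast, ← zpow_mul, mul_comm, zpow_mul, zpow_natCast, hv5, one_zpow]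
      have h4 := pow_gcd_eq_one.2 ⟨h3k, h55⟩
      rw [show Nat.gcd 3 5 = 1 by norm_num, pow_one] at h4
      exact ⟨by rw [h4, one_mul], h4⟩
    have h3cases : t ^ k = t ∨ t ^ k = t⁻¹ ∨ t ^ k = 1 := by
      rcases three_cases (k : ZMod 3) with e | e | e
      · left
        conv_rhs => rw [← zpow_one t]
        rw [zpow_eq_zpow_iff_modEq, ht0, ← ZMod.intCast_eq_intCast_iff, e, Int.cast_one]
      · right; left
        rw [← zpow_neg_one, zpow_eq_zpow_iff_modEq, ht0, ← ZMod.intCast_eq_intCast_iff, e]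
        push_cast; rfl
      · right; right
        rw [← zpow_zero t, zpow_eq_zpow_iff_modEq, ht0, ← ZMod.intCast_eq_intCast_iff, e, Int.cast_zero]
    rcases h3cases with e | e | e <;> rw [e] at hitp
    · exact mul_inv_eq_iff_eq_mul.1 hitp.1
    rotate_left
    · have h1 : t = 1 := conj_eq_one_iff.1 hitp.1
      rw [h1, orderOf_one] at ht0
      norm_num at ht0
    -- both inverted is impossible
    exfalso
    have hig : i * g * i⁻¹ = g⁻¹ := by
      rw [hg, ← conj_mul, hiv, hitp.1, mul_inv_rev, (hgc.inv_inv).eq]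
    have hgN : g ∈ N := mul_mem hvN (Subgroup.mem_inf.1 t0.2).1
    have hiN : i ∈ N := (Subgroup.mem_inf.1 i0.2).1
    have hreg : ∀ (j : ℕ), ¬ 15 ∣ j → ∀ m ∈ R, m ≠ 1 → g ^ j * m ≠ m * g ^ j := by
      intro j hj m hm hm1 hc
      by_cases h5j : 5 ∣ j
      · obtain ⟨l, rfl⟩ := h5j
        have hgl : g ^ (5 * l) = t ^ (5 * l) := by
          rw [hg, hgc.mul_pow, pow_mul v, hv5, one_pow, one_mul]
        have hl3 : ¬ 3 ∣ l := fun hl => hj (Nat.mul_dvd_mul_left 5 hl)
        have ho : orderOf (t ^ (5 * l)) = 3 := by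
          rw [(Nat.Coprime.orderOf_pow (by
            rw [ht0]; exact (Nat.prime_three.coprime_iff_not_dvd).2 (by
              intro hd; exact hl3 ((Nat.Coprime.dvd_of_dvd_mul_left (by norm_num) hd))))), ht0]
        rw [hgl] at hc
        exact hfix_false _ ((show Commute t v from htv).pow_left _).eq (hnR ho) m hm hm1 hc
      · have hg3 : g ^ (3 * j) = v ^ (3 * j) := by
          rw [hg, hgc.mul_pow, pow_mul t, ht3, one_pow, mul_one]
        have hc3 : Commute (v ^ (3 * j)) m := by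
          rw [← hg3, mul_comm, pow_mul]
          exact (show Commute (g ^ j) m from hc).pow_left 3
        obtain ⟨l, hl⟩ : ∃ l : ℕ, (v ^ (3 * j)) ^ l = v := by
          refine ⟨((((3 * j : ℕ) : ZMod 5))⁻¹).val, ?_⟩
          rw [← pow_mul]
          conv_rhs => rw [← pow_one v]
          rw [pow_eq_pow_iff_modEq, hv0, ← ZMod.natCast_eq_natCast_iff]
          push_cast
          rw [ZMod.natCast_zmod_val]
          refine mul_inv_cancel₀ ?_
          have : ((3 * j : ℕ) : ZMod 5) ≠ 0 := by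
            rw [Ne, ZMod.natCast_eq_zero_iff]
            intro hd
            exact h5j (Nat.Coprime.dvd_of_dvd_mul_left (by norm_num) hd)
          simpa using this
        exact hm1 (hfpf m hm (hl ▸ hc3.pow_left l).eq)
    -- a fixed point of the involution
    obtain ⟨r, hr, hr1, hri⟩ : ∃ r ∈ R, r ≠ 1 ∧ i * r * i⁻¹ = r := by
      obtain ⟨s, hs, hs1⟩ : ∃ s ∈ R, s ≠ 1 := ⟨z, d.zR, fun e => by
        have h192 := d.centz
        rw [e, show Subgroup.centralizer ({(1 : G)} : Set G) = ⊤ by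
          ext; simp [mem_cent_iff], inf_top_eq, d.normCard] at h192
        norm_num at h192⟩
      set s' := i * s * i⁻¹ with hs'
      have hs'R : s' ∈ R := hRi hiN s hs
      by_cases he : s * s' = 1
      · refine ⟨s, hs, hs1, ?_⟩
        rw [← hs', ← inv_eq_of_mul_eq_one_right he, inv_eq_of_mul_eq_one_right (d.sq s hs)]
      · refine ⟨s * s', R.mul_mem hs hs'R, he, ?_⟩
        have e1 : i * s' * i⁻¹ = s := by
          rw [hs', show i * (i * s * i⁻¹) * i⁻¹ = (i * i) * s * (i * i)⁻¹ by group, hi2]; group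
        rw [← conj_mul, ← hs', e1, d.comm s' hs'R s hs]
    let f : Fin 15 → G := fun j => g ^ (j : ℕ) * r * (g ^ (j : ℕ))⁻¹
    have hfR : ∀ j : ℕ, g ^ j * r * (g ^ j)⁻¹ ∈ R := fun j => hRi (pow_mem hgN j) r hr
    have hf_eq : ∀ a b : ℕ, g ^ a * r * (g ^ a)⁻¹ = g ^ b * r * (g ^ b)⁻¹ ↔ a % 15 = b % 15 := by
      have key : ∀ a b : ℕ, a ≤ b → g ^ a * r * (g ^ a)⁻¹ = g ^ b * r * (g ^ b)⁻¹ → a % 15 = b % 15 := by
        intro a b hab e
        by_contra hne
        obtain ⟨l, rfl⟩ := Nat.exists_eq_add_of_le hab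
        refine hreg l (fun hd => hne (by obtain ⟨q, rfl⟩ := hd; omega)) r hr hr1 ?_
        rw [pow_add] at e
        have e2 : r = g ^ l * r * (g ^ l)⁻¹ := by
          have := congrArg (fun w => (g ^ a)⁻¹ * w * g ^ a) e
          simpa [mul_assoc] using this
        exact (mul_inv_eq_iff_eq_mul.1 e2.symm)
      intro a b
      constructor
      · intro e
        rcases le_total a b with hab | hab
        · exact key a b hab e
        · exact (key b a hab e.symm).symm
      · intro e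
        have hp : ∀ a : ℕ, g ^ a = g ^ (a % 15) := fun a => by rw [← hg15, pow_mod_orderOf]
        rw [hp a, hp b, e]
    have hsurj : ∀ m ∈ R, m ≠ 1 → ∃ j : ℕ, g ^ j * r * (g ^ j)⁻¹ = m := by
      intro m hm hm1
      by_contra hcon
      push Not at hcon
      have hsub : Finset.card (insert 1 (insert m (Finset.univ.image f))) ≤ 16 := by
        haveI := Fintype.ofFinite R
        have hh : ∀ w ∈ insert 1 (insert m (Finset.univ.image f)), w ∈ R := by
          intro w hw
          rcases Finset.mem_insert.1 hw with rfl | hw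
          · exact R.one_mem
          rcases Finset.mem_insert.1 hw with rfl | hw
          · exact hm
          obtain ⟨j, -, rfl⟩ := Finset.mem_image.1 hw
          exact hfR _
        calc Finset.card (insert 1 (insert m (Finset.univ.image f)))
            = Nat.card {w // w ∈ insert 1 (insert m (Finset.univ.image f))} := by
              rw [Nat.card_eq_fintype_card, Fintype.card_coe]
          _ ≤ Nat.card R := Nat.card_le_card_of_injective (fun w => (⟨w.1, hh _ w.2⟩ : R))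
              fun a b e => Subtype.ext (congrArg (fun w : R => (w : G)) e)
          _ = 16 := d.card
      rw [Finset.card_insert_of_notMem, Finset.card_insert_of_notMem, Finset.card_image_of_injective,
        Finset.card_univ, Fintype.card_fin] at hsub
      · omega
      · intro a b e
        exact Fin.ext (by have := (hf_eq _ _).1 e; omega)
      · rw [Finset.mem_image]; rintro ⟨j, -, hj⟩; exact hcon j hj
      · rw [Finset.mem_insert, Finset.mem_image]
        rintro (e | ⟨j, -, hj⟩)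
        · exact hm1 e.symm
        · exact hr1 (conj_eq_one_iff.1 hj)
    have hr0 : g ^ 0 * r * (g ^ 0)⁻¹ = r := by group
    have hne01 : r * (g ^ 1 * r * (g ^ 1)⁻¹) ≠ 1 := by
      intro e
      have h1 := (hf_eq 0 1).1 (hr0.trans ((inv_eq_of_mul_eq_one_right (d.sq r hr)).symm.trans (inv_eq_of_mul_eq_one_right e)))
      omega
    obtain ⟨m, hm⟩ := hsurj _ (R.mul_mem hr (hfR 1)) hne01
    have hshift : ∀ a : ℕ, (g ^ a * r * (g ^ a)⁻¹) * (g ^ (a + 1) * r * (g ^ (a + 1))⁻¹) =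
        g ^ (a + m) * r * (g ^ (a + m))⁻¹ := by
      intro a
      calc (g ^ a * r * (g ^ a)⁻¹) * (g ^ (a + 1) * r * (g ^ (a + 1))⁻¹)
          = g ^ a * (r * (g ^ 1 * r * (g ^ 1)⁻¹)) * (g ^ a)⁻¹ := by rw [pow_add]; group
        _ = _ := by rw [← hm, pow_add]; group
    -- apply the involution
    have hconj : ∀ a : ℕ, i * (g ^ a * r * (g ^ a)⁻¹) * i⁻¹ = g ^ (14 * a) * r * (g ^ (14 * a))⁻¹ := by
      intro a
      have e1 : i * g ^ a * i⁻¹ = g ^ (14 * a) := by
        have h14 : g⁻¹ = g ^ 14 := inv_eq_of_mul_eq_one_right (by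
          rw [← pow_succ', show 14 + 1 = orderOf g by rw [hg15], pow_orderOf_eq_one])
        rw [← conj_pow, hig, h14, ← pow_mul]
      rw [← conj_mul, ← conj_mul, hri, ← conj_inv, e1]
    have hm8 : m % 15 = 8 := by
      have e1 : i * (g ^ m * r * (g ^ m)⁻¹) * i⁻¹ = r * (g ^ 14 * r * (g ^ 14)⁻¹) := by
        rw [hm, ← conj_mul, hri, hconj 1, mul_one]
      rw [hconj m] at e1
      have e2 : r * (g ^ 14 * r * (g ^ 14)⁻¹) = g ^ (14 + m) * r * (g ^ (14 + m))⁻¹ := by
        rw [← hshift 14, d.comm _ hr _ (hfR 14)]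
        congr 1
        exact (hr0.symm.trans ((hf_eq 0 15).2 (by norm_num))).trans (by norm_num)
      have := (hf_eq _ _).1 (e1.trans e2)
      omega
    set A0 := g ^ 0 * r * (g ^ 0)⁻¹
    set A1 := g ^ 1 * r * (g ^ 1)⁻¹
    set A2 := g ^ 2 * r * (g ^ 2)⁻¹
    set A8 := g ^ 8 * r * (g ^ 8)⁻¹
    set A9 := g ^ 9 * r * (g ^ 9)⁻¹
    have e0 : A0 * A1 = A8 := (hshift 0).trans ((hf_eq _ _).2 (by omega))
    have e1 : A1 * A2 = A9 := (hshift 1).trans ((hf_eq _ _).2 (by omega))
    have e16 : A8 * A9 = A1 := (hshift 8).trans ((hf_eq _ _).2 (by omega))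
    have h2 : A0 * A2 = A1 :=
      calc A0 * A2 = A0 * (A1 * A1) * A2 := by rw [d.sq A1 (hfR 1), mul_one]
        _ = A0 * A1 * (A1 * A2) := by group
        _ = A1 := by rw [e0, e1, e16]
    have h3 : A2 = A8 := by rw [← e0, ← h2, ← mul_assoc, d.sq A0 (hfR 0), one_mul]
    have := (hf_eq 2 8).1 h3
    omega
  · -- an element of order three fixing the centre
    exfalso
    have hA : Nat.card (N5 ⊓ Subgroup.centralizer ({z} : Set G) : Subgroup G) % 3 = 0 := by
      have hsup : ∀ g ∈ N, ∃ r ∈ R, ∃ a ∈ N5, g = r * a := by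
        have hle : N5 ≤ Subgroup.normalizer (R : Set G) := inf_le_left
        have heq : R ⊔ N5 = N := by
          refine Subgroup.eq_of_le_of_card_ge (sup_le hRN inf_le_left) ?_
          have hinj : Nat.card (N5 × R) ≤ Nat.card ↥(R ⊔ N5) := by
            refine Nat.card_le_card_of_injective (fun p : N5 × R =>
              (⟨(p.2 : G) * p.1, mul_mem ((le_sup_left : R ≤ R ⊔ N5) p.2.2) ((le_sup_right : N5 ≤ R ⊔ N5) p.1.2)⟩ : ↥(R ⊔ N5))) ?_
            rintro ⟨a, r⟩ ⟨a', r'⟩ e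
            have e' : (r : G) * a = r' * a' := congrArg Subtype.val e
            have h1 : (r' : G)⁻¹ * r = a' * (a : G)⁻¹ := by
              rw [inv_mul_eq_iff_eq_mul, ← mul_assoc, eq_mul_inv_iff_mul_eq, e']
            have h2 := hRN5 _ (R.mul_mem (R.inv_mem r'.2) r.2) (h1 ▸ N5.mul_mem a'.2 (N5.inv_mem a.2))
            exact Prod.ext (Subtype.ext (mul_inv_eq_one.1 (h1.symm.trans h2)).symm) (Subtype.ext (inv_mul_eq_one.1 h2).symm)
          rw [Nat.card_prod, h180, d.card] at hinj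
          rw [d.normCard]
          omega
        intro g hg
        have hg' : g ∈ (↑(R ⊔ N5) : Set G) := by rw [heq]; exact hg
        rw [Subgroup.coe_mul_of_right_le_normalizer_left _ _ hle] at hg'
        obtain ⟨r, hr, a, ha, rfl⟩ := hg'
        exact ⟨r, hr, a, ha, rfl⟩
      have horb : ∀ m, (∃ g ∈ N5, g * z * g⁻¹ = m) ↔ (∃ g ∈ N, g * z * g⁻¹ = m) := by
        refine fun m => ⟨fun ⟨g, hg, e⟩ => ⟨g, (Subgroup.mem_inf.1 hg).1, e⟩, fun ⟨g, hg, e⟩ => ?_⟩
        obtain ⟨r, hr, a, ha, rfl⟩ := hsup g hg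
        refine ⟨a, ha, ?_⟩
        have hm : a * z * a⁻¹ ∈ R := hRi (Subgroup.mem_inf.1 ha).1 z d.zR
        rw [← e, show r * a * z * (r * a)⁻¹ = r * (a * z * a⁻¹) * r⁻¹ by group, d.comm r hr _ hm, mul_inv_cancel_right]
      have h1 := class_in N (x := z) (hRN d.zR)
      rw [d.centz, d.normCard] at h1
      have h15 : Nat.card {m : G // ∃ g ∈ N, g * z * g⁻¹ = m} = 15 :=
        Nat.eq_of_mul_eq_mul_right (by norm_num : 0 < 192) (h1.trans (by norm_num))
      have hcl : Nat.card {m : G // ∃ g ∈ N5, g * z * g⁻¹ = m} = 15 := by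
        rw [Nat.card_congr (Equiv.subtypeEquivRight horb), h15]
      have hcard : Nat.card {m : G // ∃ g ∈ N5, g * z * g⁻¹ = m} *
          Nat.card (N5 ⊓ Subgroup.centralizer ({z} : Set G) : Subgroup G) = Nat.card N5 := by
        let f : N5 → {m : G // ∃ g ∈ N5, g * z * g⁻¹ = m} := fun g => ⟨g * z * (g : G)⁻¹, g, g.2, rfl⟩
        have hfs : Function.Surjective f := fun ⟨m, g, hg, e⟩ => ⟨⟨g, hg⟩, Subtype.ext e⟩
        haveI := Fintype.ofFinite G
        symm
        rw [← Nat.card_prod]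
        refine Nat.card_congr (Equiv.trans (Equiv.sigmaFiberEquiv f).symm
          (Equiv.sigmaEquivProdOfEquiv fun m => ?_))
        refine { toFun := fun g => ⟨(hfs m).choose⁻¹ * g.1, ?_⟩, invFun := fun c => ⟨(hfs m).choose * ⟨c, c.2.1⟩, ?_⟩,
                 left_inv := fun g => Subtype.ext (Subtype.ext (by simp)), right_inv := fun c => Subtype.ext (by simp) }
        · have e1 := congrArg Subtype.val g.2
          have e2 := congrArg Subtype.val (hfs m).choose_spec
          refine Subgroup.mem_inf.2 ⟨N5.mul_mem (N5.inv_mem (hfs m).choose.2) g.1.2, mem_cent_iff.2 ?_⟩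
          have e3 : (g.1 : G) * z * (g.1 : G)⁻¹ = ((hfs m).choose : G) * z * ((hfs m).choose : G)⁻¹ := e1.trans e2.symm
          calc ((hfs m).choose : G)⁻¹ * g.1 * z = ((hfs m).choose : G)⁻¹ * ((g.1 : G) * z * (g.1 : G)⁻¹) * g.1 := by group
            _ = z * (((hfs m).choose : G)⁻¹ * g.1) := by rw [e3]; group
        · refine Eq.trans (Subtype.ext ?_) (hfs m).choose_spec
          show ((hfs m).choose : G) * c * z * (((hfs m).choose : G) * c)⁻¹ = _
          calc ((hfs m).choose : G) * c * z * (((hfs m).choose : G) * c)⁻¹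
              = ((hfs m).choose : G) * ((c : G) * z * (c : G)⁻¹) * ((hfs m).choose : G)⁻¹ := by group
            _ = _ := by rw [mem_cent_iff.1 c.2.2, mul_inv_cancel_right]
      rw [hcl, h180] at hcard
      omega
    obtain ⟨s, hs⟩ := exists_prime_orderOf_dvd_card' (G := ↥(N5 ⊓ Subgroup.centralizer ({z} : Set G))) 3
      (Nat.dvd_of_mod_eq_zero hA)
    rw [← Subgroup.orderOf_coe] at hs
    have hs3 : (s : G) ^ 3 = 1 := hs ▸ pow_orderOf_eq_one (s : G)
    have hz1 : z ≠ 1 := fun e => by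
      have h192 := d.centz
      rw [e, show Subgroup.centralizer ({(1 : G)} : Set G) = ⊤ by ext; simp [mem_cent_iff], inf_top_eq, d.normCard] at h192
      norm_num at h192
    exact hfix_false _ (conj_pow_three hv0 hs3 (hconj5 s.2.1)) (hnR hs) z d.zR hz1 (mem_cent_iff.1 s.2.2)

/-- A commuting pair of orders five and three, one of them centralized by an involution. -/
theorem RData.exists_pair [Finite G] {u x : G} {R : Subgroup G} (d : RData z u x R) :
    ∃ v t : G, orderOf v = 5 ∧ orderOf t = 3 ∧ v * t = t * v ∧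
      ∃ i : G, orderOf i = 2 ∧ (i * v = v * i ∨ i * t = t * i) := by
  obtain ⟨v, t, hv, ht, hvt, -, -, -, i, hi, -, -, hor⟩ := d.exists_pair_mem
  exact ⟨v, t, hv, ht, hvt, i, hi, hor⟩

/-- The result of this file: five divides the centralizer of `y`, or three that of `w`. -/
theorem five_or_three [Finite G] [IsSimpleGroup G] (h : Setting z Q) {y a b n w m : G}
    (d : YData z Q y a b n) (W : WData z Q w m) :
    (5 ∣ Nat.card (Subgroup.centralizer ({y} : Set G))) ∨ ∃ t, orderOf t = 3 ∧ t * w = w * t := by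
  obtain ⟨u, x, R, r⟩ := exists_rdata h
  obtain ⟨v, t, hv, ht, hvt, i, hi, hor⟩ := r.exists_pair
  obtain ⟨c, hc⟩ := isConj_iff.1 (h.one i hi)
  rcases hor with hiv | hit
  · right
    obtain ⟨e, he, k, hk⟩ := W.conj_pow (c * v * c⁻¹)
      (mem_cent_iff.2 (by rw [← hc]; exact comm_conj hiv.symm)) (by rw [orderOf_conj', hv])
    have hk' : w ^ k = e * (c * v * c⁻¹) * e⁻¹ := hk
    haveI : Fact (Nat.Prime 5) := ⟨by norm_num⟩
    obtain ⟨j, hj⟩ : ∃ j : ℤ, (w ^ k) ^ j = w := by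
      have hne : (k : ZMod 5) ≠ 0 := fun e0 => by
        have : w ^ k = w ^ (0 : ℤ) := (zpow_five W.w5).2 (by rw [e0, Int.cast_zero])
        rw [hk', zpow_zero, conj_eq_one_iff, conj_eq_one_iff] at this
        rw [this, orderOf_one] at hv
        norm_num at hv
      refine ⟨(((k : ZMod 5)⁻¹).val : ℤ), ?_⟩
      rw [← zpow_mul]
      conv_rhs => rw [← zpow_one w]
      rw [zpow_five W.w5]
      push_cast
      rw [ZMod.natCast_zmod_val, mul_inv_cancel₀ hne]
    refine ⟨e * (c * t * c⁻¹) * e⁻¹, by rw [orderOf_conj', orderOf_conj', ht], ?_⟩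
    rw [← hj, hk']
    exact ((show Commute (e * (c * t * c⁻¹) * e⁻¹) (e * (c * v * c⁻¹) * e⁻¹) from
      comm_conj (comm_conj hvt.symm)).zpow_right j).eq
  · left
    obtain ⟨e, he, hey⟩ := d.conj3 (c * t * c⁻¹) (mem_cent_iff.2 (by rw [← hc]; exact comm_conj hit.symm))
      (by rw [orderOf_conj', ht])
    have hmem : e * (c * v * c⁻¹) * e⁻¹ ∈ Subgroup.centralizer ({y} : Set G) := mem_cent_iff.2 (by
      rw [← hey]; exact comm_conj (comm_conj hvt))
    have := Subgroup.orderOf_dvd_natCard _ hmem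
    rwa [orderOf_conj', orderOf_conj', hv] at this

end Cfsg.Agent.Invol.J3Type
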