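import Cfsg.Agent.Lib.Invol.J3Type.ThreeFusion

/-!
Every element of order three has a centralizer of order divisible by twenty-seven.
-/

set_option autoImplicit false
set_option linter.unusedSectionVars false
set_option linter.style.haveILetI false

namespace Cfsg.Agent.Invol.J3Type

open Cfsg Cfsg.Agent Cfsg.Agent.Invol.HJ

universe u

variable {G : Type u} [Group G] [Finite G] {z : G} {Q : Subgroup G} {y a b n f : G} {R : Subgroup G}

theorem neg_one_not_square : ∀ m : ZMod 3, (-1 : ZMod 3) ≠ m * m := by decide +kernel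

/-- An inverse closed finite set of elements of odd order containing the identity has odd size. -/
theorem odd_of_inv_closed (A : Set G) (h1 : (1 : G) ∈ A) (hinv : ∀ u ∈ A, u⁻¹ ∈ A) (h3 : ∀ u ∈ A, u ^ 3 = 1) :
    Odd (Nat.card A) := by
  classical
  haveI := Fintype.ofFinite G
  have hs : ∑ _x ∈ A.toFinset.erase 1, (1 : ZMod 2) = 0 := by
    refine Finset.sum_involution (fun u _ => u⁻¹) (fun _ _ => by decide) (fun u hu _ e => ?_) (fun u hu => ?_)
      (fun u _ => inv_inv u)
    · have hu' := Finset.mem_erase.1 hu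
      refine hu'.1 ?_
      have h2 : u * u = 1 := by nth_rewrite 1 [← e]; exact inv_mul_cancel u
      have := h3 u (Set.mem_toFinset.1 hu'.2)
      rwa [pow_three, h2, mul_one] at this
    · have hu' := Finset.mem_erase.1 hu
      exact Finset.mem_erase.2 ⟨fun e => hu'.1 (inv_eq_one.1 e), Set.mem_toFinset.2 (hinv u (Set.mem_toFinset.1 hu'.2))⟩
  rw [Finset.sum_const, nsmul_one, ZMod.natCast_eq_zero_iff_even] at hs
  rw [Nat.card_coe_set_eq, Set.ncard_eq_toFinset_card', ← Finset.card_erase_add_one (Set.mem_toFinset.2 h1)]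
  exact hs.add_one

/-- A subgroup of order `243` centralizing a subgroup of order nine. -/
theorem TData.exists_central (d : YData z Q y a b n) (h : Setting z Q) (T : TData y f R)
    (hY : Nat.card (Subgroup.centralizer ({y} : Set G)) = 1080) (hG : Nat.card G = 50232960) :
    ∃ (U : Subgroup G) (P : Sylow 3 G), Nat.card U = 9 ∧ (∀ u ∈ U, ∀ v ∈ U, u * v = v * u) ∧
      ∀ p ∈ (P : Subgroup G), ∀ u ∈ U, p * u = u * p := by
  classical
  haveI : Fact (Nat.Prime 3) := ⟨Nat.prime_three⟩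
  haveI : Fact (Nat.Prime 2) := ⟨Nat.prime_two⟩
  have h5 : 5 ∣ Nat.card (Subgroup.centralizer ({y} : Set G)) := by rw [hY]; norm_num
  have hR := T.comm d.y3 hY hG
  set U := invPart R f hR
  set σ := f * f with hσ
  have hUR : ∀ {u}, u ∈ U → u ∈ R := fun hu => hu.1
  have hy3 := d.y_pow_three
  have hfy : Commute f y := mem_cent_iff.1 T.fC
  have hσy : σ * y * σ⁻¹ = y := by rw [(hfy.mul_left hfy).eq, mul_inv_cancel_right]
  have hσfix : ∀ {s}, s ∈ Subgroup.zpowers y → σ * s * σ⁻¹ = s := by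
    rintro s ⟨i, rfl⟩
    show σ * y ^ i * σ⁻¹ = y ^ i
    rw [← conj_zpow, hσy]
  have hsR : ∀ {s}, s ∈ Subgroup.zpowers y → s ∈ R := fun hs => Subgroup.zpowers_le.2 T.yR hs
  have hs3 : ∀ {s}, s ∈ Subgroup.zpowers y → s ^ 3 = 1 := by
    rintro s ⟨i, rfl⟩
    show (y ^ i) ^ 3 = 1
    rw [← zpow_natCast, ← zpow_mul, mul_comm, zpow_mul, zpow_natCast, hy3, one_zpow]
  have hdisj : ∀ {s}, s ∈ Subgroup.zpowers y → s ∈ U → s = 1 := by
    intro s hs hsU
    have h2 : s * s = 1 := by
      have e := hsU.2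
      rw [← hσ, hσfix hs] at e
      nth_rewrite 1 [e]
      exact inv_mul_cancel s
    have := hs3 hs
    rwa [pow_three, h2, mul_one] at this
  have hdec : ∀ r ∈ R, ∃ u ∈ U, ∃ s ∈ Subgroup.zpowers y, r = u * s := by
    intro r hr
    set s := σ * r * σ⁻¹ * r with hs
    have hsm : s ∈ Subgroup.zpowers y := T.inv r hr
    refine ⟨r * s, ⟨R.mul_mem hr (hsR hsm), eq_inv_of_mul_eq_one_left ?_⟩, s⁻¹, inv_mem hsm,
      (mul_inv_cancel_right r s).symm⟩
    rw [← hσ, ← conj_mul, hσfix hsm]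
    calc σ * r * σ⁻¹ * s * (r * s) = σ * r * σ⁻¹ * (s * r) * s := by group
      _ = σ * r * σ⁻¹ * (r * s) * s := by rw [hR s (hsR hsm) r hr]
      _ = s * s * s := by rw [hs]; group
      _ = s ^ 3 := by rw [pow_three, mul_assoc]
      _ = 1 := hs3 hsm
  have hr3 : ∀ r ∈ R, r ^ 3 = 1 := by
    intro r hr
    obtain ⟨u, hu, s, hs, rfl⟩ := hdec r hr
    have hus : Commute u s := hR u (hUR hu) s (hsR hs)
    rw [hus.mul_pow, hs3 hs, mul_one]
    refine hdisj ?_ (U.pow_mem hu 3)
    have := T.cube u (hUR hu)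
    rwa [pow_three, ← mul_assoc]
  have hyU : y ∉ U := fun e => by
    have := hdisj (Subgroup.mem_zpowers y) e
    have h3 := d.y3
    rw [this, orderOf_one] at h3
    norm_num at h3
  -- coordinates
  let c : Fin 3 × U → R := fun p => ⟨y ^ (p.1 : ℕ) * (p.2 : G), R.mul_mem (R.pow_mem T.yR _) (hUR p.2.2)⟩
  have hc : Function.Bijective c := by
    constructor
    · rintro ⟨i, u⟩ ⟨j, v⟩ e
      have e1 : y ^ (i : ℕ) * (u : G) = y ^ (j : ℕ) * v := congrArg Subtype.val e
      have e2 : (y ^ (j : ℕ))⁻¹ * y ^ (i : ℕ) = (v : G) * (u : G)⁻¹ := by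
        rw [eq_mul_inv_iff_mul_eq, mul_assoc, e1, inv_mul_cancel_left]
      have e3 : (y ^ (j : ℕ))⁻¹ * y ^ (i : ℕ) = 1 :=
        hdisj (mul_mem (inv_mem (pow_mem (Subgroup.mem_zpowers y) _)) (pow_mem (Subgroup.mem_zpowers y) _))
          (e2 ▸ U.mul_mem v.2 (U.inv_mem u.2))
      have hij : i = j := Fin.ext (pow_injOn_Iio_orderOf (by rw [Set.mem_Iio, d.y3]; exact i.2)
        (by rw [Set.mem_Iio, d.y3]; exact j.2) (inv_mul_eq_one.1 e3).symm)
      subst hij
      exact Prod.ext rfl (Subtype.ext (mul_left_cancel e1))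
    · intro r
      obtain ⟨u, hu, s, hs, hrs⟩ := hdec r r.2
      obtain ⟨i, hi⟩ := (Submonoid.mem_powers_iff _ _).1 (mem_powers_iff_mem_zpowers.2 hs)
      subst hi
      refine ⟨(⟨i % 3, Nat.mod_lt _ (by norm_num)⟩, ⟨u, hu⟩), Subtype.ext ?_⟩
      show y ^ (i % 3) * u = r
      rw [hrs, hR u (hUR hu) _ (R.pow_mem T.yR i), ← d.y3, pow_mod_orderOf]
  have hU9 : Nat.card U = 9 := by
    have e := Nat.card_congr (Equiv.ofBijective c hc)
    rw [Nat.card_prod, Nat.card_fin, T.card] at e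
    omega
  -- the normalizer
  set N := Subgroup.normalizer (R : Set G)
  have hRN : R ≤ N := Subgroup.le_normalizer
  have hyN : y ∈ N := hRN T.yR
  have hfN : f ∈ N := mem_normalizer_of T.fnorm
  have hσ1 : σ ≠ 1 := by
    intro e
    have hall : ∀ u ∈ U, u = 1 := fun u hu => by
      have e1 := hu.2
      rw [← hσ, e, one_mul, inv_one, mul_one] at e1
      have h2 : u * u = 1 := by nth_rewrite 1 [e1]; exact inv_mul_cancel u
      have := hr3 u (hUR hu)
      rwa [pow_three, h2, mul_one] at this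
    have : Nat.card U = 1 := by
      rw [Subgroup.card_eq_one, Subgroup.eq_bot_iff_forall]; exact hall
    omega
  have hf4 := T.f4
  have hfo : orderOf f = 4 := orderOf_eq_prime_pow (p := 2) (n := 1)
    (by rw [pow_one, pow_two]; exact hσ1) (by simpa using hf4)
  have hfR : ∀ {k : ℕ}, f ^ k ∈ R → f ^ k = 1 := fun {k} hk => by
    have h3 := hr3 _ hk
    have h4 : (f ^ k) ^ 4 = 1 := by rw [← pow_mul, mul_comm, pow_mul, hf4, one_pow]
    have := pow_gcd_eq_one.2 ⟨h3, h4⟩
    simpa using this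
  have hNY : Nat.card (N ⊓ Subgroup.centralizer ({y} : Set G) : Subgroup G) = 108 := by
    let g : R × Fin 4 → ↥(N ⊓ Subgroup.centralizer ({y} : Set G)) := fun p =>
      ⟨(p.1 : G) * f ^ (p.2 : ℕ), (N ⊓ Subgroup.centralizer ({y} : Set G)).mul_mem ⟨hRN p.1.2, T.le p.1.2⟩
        ((N ⊓ Subgroup.centralizer ({y} : Set G)).pow_mem ⟨hfN, T.fC⟩ _)⟩
    have hg : Function.Bijective g := by
      constructor
      · rintro ⟨r, i⟩ ⟨s, j⟩ e
        have e1 : (r : G) * f ^ (i : ℕ) = s * f ^ (j : ℕ) := congrArg Subtype.val e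
        wlog hij : (j : ℕ) ≤ i generalizing r s i j
        · exact (this s j r i e.symm e1.symm (by omega)).symm
        have e2 : f ^ ((i : ℕ) - j) = (r : G)⁻¹ * s := by
          rw [← mul_left_cancel_iff (a := (r : G)), mul_inv_cancel_left, ← mul_right_cancel_iff (a := f ^ (j : ℕ)),
            mul_assoc, ← pow_add, Nat.sub_add_cancel hij, e1]
        have e3 := hfR (e2 ▸ R.mul_mem (R.inv_mem r.2) s.2)
        have e4 := orderOf_dvd_of_pow_eq_one e3
        rw [hfo] at e4
        have hi : i = j := Fin.ext (by have := i.2; omega)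
        subst hi
        exact Prod.ext (Subtype.ext (mul_right_cancel e1)) rfl
      · rintro ⟨x, hxN, hxY⟩
        obtain ⟨r, hr, k, rfl⟩ := T.norm x hxY fun s hs => norm_conj_mem hxN hs
        refine ⟨(⟨r, hr⟩, ⟨k % 4, Nat.mod_lt _ (by norm_num)⟩), Subtype.ext ?_⟩
        show r * f ^ (k % 4) = r * f ^ k
        rw [← hfo, pow_mod_orderOf]
    rw [← Nat.card_congr (Equiv.ofBijective g hg), Nat.card_prod, T.card, Nat.card_fin]
  -- an element inverting `y`
  obtain ⟨q, hqN, hqy⟩ : ∃ q ∈ N, q * y * q⁻¹ = y⁻¹ := by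
    have hRS : Nat.card (R.subgroupOf (Subgroup.centralizer ({y} : Set G))) =
        3 ^ (Nat.card (Subgroup.centralizer ({y} : Set G))).factorization 3 := by
      rw [Nat.card_congr (Subgroup.subgroupOfEquivOfLe T.le).toEquiv, T.card, hY]
      have e1 : (1080 : ℕ).factorization 3 = 3 := by
        rw [show (1080 : ℕ) = 3 ^ 3 * 40 by norm_num, Nat.factorization_mul (by norm_num) (by norm_num),
          Finsupp.add_apply, Nat.prime_three.factorization_pow, Finsupp.single_eq_same,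
          Nat.factorization_eq_zero_of_not_dvd (by norm_num)]
      rw [e1]; norm_num
    let SR : Sylow 3 (Subgroup.centralizer ({y} : Set G)) := Sylow.ofCard _ hRS
    have hnY : ∀ r ∈ R, n * r * n⁻¹ ∈ Subgroup.centralizer ({y} : Set G) := fun r hr => by
      refine mem_cent_iff.2 ?_
      have hry : Commute r y := mem_cent_iff.1 (T.le hr)
      have h1 : Commute (n * r * n⁻¹) y⁻¹ := by rw [← d.ninv]; exact comm_conj hry.eq
      simpa using h1.inv_right.eq
    let R' : Subgroup (Subgroup.centralizer ({y} : Set G)) :=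
      (R.map (MulAut.conj n).toMonoidHom).subgroupOf (Subgroup.centralizer ({y} : Set G))
    have hR'le : R.map (MulAut.conj n).toMonoidHom ≤ Subgroup.centralizer ({y} : Set G) := by
      rintro _ ⟨r, hr, rfl⟩; exact hnY r hr
    have hR'c : Nat.card R' = 3 ^ (Nat.card (Subgroup.centralizer ({y} : Set G))).factorization 3 := by
      rw [Nat.card_congr (Subgroup.subgroupOfEquivOfLe hR'le).toEquiv,
        Subgroup.card_map_of_injective (MulAut.conj n).injective,
        ← Nat.card_congr (Subgroup.subgroupOfEquivOfLe T.le).toEquiv, hRS]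
    obtain ⟨g, hg⟩ := MulAction.exists_smul_eq (Subgroup.centralizer ({y} : Set G)) (Sylow.ofCard R' hR'c) SR
    refine ⟨(g : G) * n, mem_normalizer_of fun r hr => ?_, ?_⟩
    · have h1 : g * ⟨n * r * n⁻¹, hnY r hr⟩ * g⁻¹ ∈ (SR : Subgroup (Subgroup.centralizer ({y} : Set G))) := by
        rw [← hg, Sylow.coe_subgroup_smul]
        exact ⟨_, ⟨r, hr, rfl⟩, rfl⟩
      have h2 : (g : G) * (n * r * n⁻¹) * (g : G)⁻¹ ∈ R := h1
      rwa [show (g : G) * n * r * ((g : G) * n)⁻¹ = (g : G) * (n * r * n⁻¹) * (g : G)⁻¹ by group]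
    · rw [show (g : G) * n * y * ((g : G) * n)⁻¹ = (g : G) * (n * y * n⁻¹) * (g : G)⁻¹ by group, d.ninv,
        ← conj_inv, mem_cent_iff.1 g.2, mul_inv_cancel_right]
  -- the transitive action on the inverted part
  set N2 := N ⊓ normThree y
  have hR2 : R ≤ N2 := le_inf hRN (T.le.trans cent_le_normThree)
  have hUN2 : ∀ g ∈ N2, ∀ u ∈ U, g * u * g⁻¹ ∈ U := by
    intro g hg u hu
    set τ := g * σ * g⁻¹ with hτ
    have hτN : τ ∈ N := N.mul_mem (N.mul_mem hg.1 (N.mul_mem hfN hfN)) (N.inv_mem hg.1)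
    have hτY : τ ∈ Subgroup.centralizer ({y} : Set G) := by
      refine mem_cent_iff.2 ?_
      have hc' : Commute σ y := hfy.mul_left hfy
      rcases mem_normThree.1 hg.2 with e | e
      · nth_rewrite 1 [← e]
        nth_rewrite 2 [← e]
        exact comm_conj hc'.eq
      · have h1 : Commute τ y⁻¹ := by rw [← e]; exact comm_conj hc'.eq
        simpa using h1.inv_right.eq
    obtain ⟨r, hr, k, hrk⟩ := T.norm τ hτY fun s hs => norm_conj_mem hτN hs
    have hτ2 : τ * τ = 1 := by
      rw [hτ, conj_mul, hσ, show f * f * (f * f) = f ^ 4 by simp [pow_succ, mul_assoc], hf4, mul_one, mul_inv_cancel]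
    have hk2 : f ^ (k + k) = 1 := by
      refine hfR ?_
      have hfk : f ^ k * r * (f ^ k)⁻¹ ∈ R := norm_conj_mem (N.pow_mem hfN k) hr
      have e : r * (f ^ k * r * (f ^ k)⁻¹) * f ^ (k + k) = 1 := by
        rw [← hτ2, hrk, pow_add]; group
      rw [show f ^ (k + k) = (r * (f ^ k * r * (f ^ k)⁻¹))⁻¹ from eq_inv_of_mul_eq_one_right e]
      exact R.inv_mem (R.mul_mem hr hfk)
    have hk4 := orderOf_dvd_of_pow_eq_one hk2
    rw [hfo] at hk4
    have hke : f ^ k = 1 ∨ f ^ k = σ := by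
      rw [← pow_mod_orderOf f k, hfo, hσ]
      rcases (show k % 4 = 0 ∨ k % 4 = 2 by omega) with e | e <;> rw [e]
      · exact Or.inl (pow_zero f)
      · exact Or.inr (pow_two f)
    refine ⟨norm_conj_mem hg.1 (hUR hu), ?_⟩
    rcases hke with e | e
    · exfalso
      rw [e, mul_one] at hrk
      refine hσ1 ?_
      have hτ1 : τ = 1 := by
        have h3 := hr3 r hr
        rw [← hrk] at h3
        rwa [pow_three, hτ2, mul_one] at h3
      exact conj_eq_one_iff.1 hτ1
    · rw [e] at hrk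
      have hτu : τ * (g * u * g⁻¹) * τ⁻¹ = (g * u * g⁻¹)⁻¹ := by
        rw [hτ, show g * σ * g⁻¹ * (g * u * g⁻¹) * (g * σ * g⁻¹)⁻¹ = g * (σ * u * σ⁻¹) * g⁻¹ by group,
          show σ * u * σ⁻¹ = u⁻¹ from hu.2, conj_inv]
      rw [hrk] at hτu
      have hx : σ * (g * u * g⁻¹) * σ⁻¹ ∈ R :=
        norm_conj_mem (N.mul_mem hfN hfN) (norm_conj_mem hg.1 (hUR hu))
      calc f * f * (g * u * g⁻¹) * (f * f)⁻¹
          = r⁻¹ * (r * σ * (g * u * g⁻¹) * (r * σ)⁻¹) * r := by rw [hσ]; group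
        _ = r⁻¹ * (g * u * g⁻¹)⁻¹ * r := by rw [hτu]
        _ = (g * u * g⁻¹)⁻¹ := by
            rw [mul_assoc, hR _ (R.inv_mem (norm_conj_mem hg.1 (hUR hu))) r hr, inv_mul_cancel_left]
  have hN2 : Nat.card N2 = 216 := by
    have e := class_in N2 (hR2 T.yR)
    have e1 : N2 ⊓ Subgroup.centralizer ({y} : Set G) = N ⊓ Subgroup.centralizer ({y} : Set G) :=
      le_antisymm (fun g hg => ⟨hg.1.1, hg.2⟩) (fun g hg => ⟨⟨hg.1, cent_le_normThree hg.2⟩, hg.2⟩)
    have e2 : Nat.card {m : G // ∃ g ∈ N2, g * y * g⁻¹ = m} = 2 := by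
      have hset : {m : G | ∃ g ∈ N2, g * y * g⁻¹ = m} = {y, y⁻¹} := by
        ext m
        constructor
        · rintro ⟨g, hg, rfl⟩
          exact mem_normThree.1 hg.2
        · rintro (rfl | rfl)
          · exact ⟨1, N2.one_mem, by group⟩
          · exact ⟨q, ⟨hqN, Or.inr hqy⟩, hqy⟩
      show Nat.card ({m : G | ∃ g ∈ N2, g * y * g⁻¹ = m} : Set G) = 2
      rw [hset, Nat.card_coe_set_eq, Set.ncard_pair]
      intro e'
      have h2 : y * y = 1 := by nth_rewrite 1 [e']; exact inv_mul_cancel y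
      have := two_iff.2 ⟨h2, fun e'' => hyU (e'' ▸ U.one_mem)⟩
      rw [d.y3] at this
      norm_num at this
    rw [e1, e2, hNY] at e
    omega
  have htrans : ∀ u ∈ U, u ≠ 1 → ∀ v ∈ U, v ≠ 1 → ∃ g ∈ N2, g * u * g⁻¹ = v := by
    intro u hu hu1 v hv hv1
    have e := class_in N2 (hR2 (hUR hu))
    rw [hN2] at e
    set S := N2 ⊓ Subgroup.centralizer ({u} : Set G)
    have hodd : ¬ 2 ∣ Nat.card S := by
      intro h2
      obtain ⟨i, hi⟩ := exists_prime_orderOf_dvd_card' (G := S) 2 h2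
      rw [← Subgroup.orderOf_coe] at hi
      have hiu := mem_cent_iff.1 i.2.2
      have hu3 := hr3 u (hUR hu)
      have huy : u * y = y * u := mem_cent_iff.1 (T.le (hUR hu))
      have hi2 := (two_iff.1 hi).1
      by_cases hiY : (i : G) ∈ Subgroup.centralizer ({y} : Set G)
      · exact hu1 (hdisj (d.three_cent_inner h (mem_cent_iff.1 hiY) hi huy hiu.symm hu3) hu)
      · obtain ⟨g, hg, hge⟩ := d.outer_conj h hY i.2.1.2 hiY hi2
        refine hu1 ?_
        have hgy : g⁻¹ * y * g⁻¹⁻¹ = y := by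
          rw [mem_cent_iff.1 (inv_mem hg), mul_inv_cancel_right]
        have ht := d.three_cent_n h h5 (t := g⁻¹ * u * g⁻¹⁻¹)
          (by nth_rewrite 1 [← hgy]; nth_rewrite 2 [← hgy]; exact comm_conj huy)
          (by
            have e1 : n = g⁻¹ * (i : G) * g⁻¹⁻¹ := by rw [← hge]; group
            rw [e1]; exact comm_conj hiu.symm)
          (by rw [conj_pow, hu3]; group)
        exact conj_eq_one_iff.1 ht
    set orb := {m : G | ∃ g ∈ N2, g * u * g⁻¹ = m}
    have hsub : orb ⊆ ((U : Set G) \ {1}) := by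
      rintro _ ⟨g, hg, rfl⟩
      exact ⟨hUN2 g hg u hu, fun e' => hu1 (conj_eq_one_iff.1 e')⟩
    have h8 : 8 ∣ Nat.card orb := by
      refine Nat.Coprime.dvd_of_dvd_mul_right (n := Nat.card S) ?_ ⟨27, e.trans (by norm_num)⟩
      rw [show 8 = 2 ^ 3 by norm_num]
      exact Nat.Coprime.pow_left _ ((Nat.prime_two.coprime_iff_not_dvd).2 hodd)
    have hcard : ((U : Set G) \ {1}).ncard = 8 := by
      rw [Set.ncard_diff_singleton_of_mem U.one_mem, ← Nat.card_coe_set_eq]
      have : Nat.card (U : Set G) = 9 := hU9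
      omega
    have heq : orb = (U : Set G) \ {1} := by
      refine Set.eq_of_subset_of_ncard_le hsub ?_ (Set.toFinite _)
      rw [hcard, ← Nat.card_coe_set_eq]
      refine Nat.le_of_dvd ?_ h8
      exact Nat.card_pos_iff.2 ⟨⟨⟨u, 1, N2.one_mem, by group⟩⟩, inferInstance⟩
    have : v ∈ orb := heq ▸ ⟨hv, hv1⟩
    exact this
  -- the orbit of `y`
  set O : Set G := {r | ∃ g ∈ N, g * y * g⁻¹ = r}
  have hOR : ∀ r ∈ O, r ∈ R := by
    rintro _ ⟨g, hg, rfl⟩
    exact norm_conj_mem hg T.yR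
  have hOinv : ∀ r ∈ O, r⁻¹ ∈ O := by
    rintro _ ⟨g, hg, rfl⟩
    exact ⟨g * q, N.mul_mem hg hqN, by
      rw [show g * q * y * (g * q)⁻¹ = g * (q * y * q⁻¹) * g⁻¹ by group, hqy, conj_inv]⟩
  have hOconj : ∀ g ∈ N, ∀ r ∈ O, g * r * g⁻¹ ∈ O := by
    rintro g hg _ ⟨k, hk, rfl⟩
    exact ⟨g * k, N.mul_mem hg hk, by group⟩
  have hO1 : (1 : G) ∉ O := by
    rintro ⟨g, -, e⟩
    exact hyU ((conj_eq_one_iff.1 e).symm ▸ U.one_mem)
  have hyO : y ∈ O := ⟨1, N.one_mem, by group⟩
  let cnt : ℕ → ℕ := fun i => Nat.card {u : U // y ^ i * (u : G) ∈ O}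
  have hsum : Nat.card O = cnt 0 + cnt 1 + cnt 2 := by
    have e1 : Nat.card O = Nat.card {p : Fin 3 × U // (c p : G) ∈ O} := by
      refine (Nat.card_congr (Equiv.ofBijective
        (fun p : {p : Fin 3 × U // (c p : G) ∈ O} => (⟨(c p.1 : G), p.2⟩ : O)) ⟨fun p p' e => ?_, fun r => ?_⟩)).symm
      · exact Subtype.ext (hc.1 (Subtype.ext (congrArg (fun t : O => (t : G)) e)))
      · obtain ⟨p, hp⟩ := hc.2 ⟨r, hOR r r.2⟩
        exact ⟨⟨p, by rw [hp]; exact r.2⟩, Subtype.ext (show (c p : G) = r from congrArg Subtype.val hp)⟩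
    rw [e1, Nat.card_congr (Equiv.subtypeProdEquivSigmaSubtype fun (i : Fin 3) (u : U) => y ^ (i : ℕ) * (u : G) ∈ O),
      Nat.card_sigma, Fin.sum_univ_three]
    rfl
  have h21 : cnt 2 = cnt 1 := by
    have hinv : ∀ (i j : ℕ) (u : U), i + j = 3 → y ^ i * (u : G) ∈ O → y ^ j * ((u⁻¹ : U) : G) ∈ O := by
      intro i j u hij hu
      have := hOinv _ hu
      rwa [mul_inv_rev, hR _ (R.inv_mem (hUR u.2)) _ (R.inv_mem (R.pow_mem T.yR i)),
        show (y ^ i)⁻¹ = y ^ j from inv_eq_of_mul_eq_one_right (by rw [← pow_add, hij, hy3])] at this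
    exact Nat.card_congr
      { toFun := fun u => ⟨u.1⁻¹, hinv 2 1 u.1 rfl u.2⟩
        invFun := fun u => ⟨u.1⁻¹, hinv 1 2 u.1 rfl u.2⟩
        left_inv := fun u => Subtype.ext (inv_inv _)
        right_inv := fun u => Subtype.ext (inv_inv _) }
  set A : Set G := {u | u ∈ U ∧ y * u ∈ O}
  have hA : cnt 1 = Nat.card A :=
    Nat.card_congr
      { toFun := fun u => ⟨(u.1 : G), u.1.2, by simpa using u.2⟩
        invFun := fun u => ⟨⟨u.1, u.2.1⟩, by rw [pow_one]; exact u.2.2⟩
        left_inv := fun u => rfl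
        right_inv := fun u => rfl }
  have hAf : ∀ u ∈ A, f * u * f⁻¹ ∈ A := fun u hu => by
    refine ⟨hUN2 f ⟨hfN, cent_le_normThree T.fC⟩ u hu.1, ?_⟩
    have := hOconj f hfN _ hu.2
    rwa [show f * (y * u) * f⁻¹ = (f * y * f⁻¹) * (f * u * f⁻¹) by group, hfy.eq, mul_inv_cancel_right] at this
  have hAinv : ∀ u ∈ A, u⁻¹ ∈ A := fun u hu => by
    have h2 := hAf _ (hAf u hu)
    rwa [show f * (f * u * f⁻¹) * f⁻¹ = f * f * u * (f * f)⁻¹ by group, hu.1.2] at h2
  have hA1 : (1 : G) ∈ A := ⟨U.one_mem, by rw [mul_one]; exact hyO⟩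
  have hAodd := odd_of_inv_closed A hA1 hAinv (fun u hu => hr3 u (hUR hu.1))
  have hA9 : Nat.card A ≤ 9 := hU9 ▸ Nat.card_mono (Set.toFinite _) (fun u hu => hu.1)
  have hA3 : Nat.card A ≠ 3 := by
    intro e
    have hex : ∃ u ∈ A, u ≠ 1 := by
      by_contra hall
      push Not at hall
      have : Nat.card A ≤ Nat.card ({1} : Set G) := Nat.card_mono (Set.toFinite _) fun u hu => hall u hu
      rw [e] at this
      simp at this
    obtain ⟨u, hu, hu1⟩ := hex
    have hne : u⁻¹ ≠ u := fun e' => hu1 (by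
      have h2 : u * u = 1 := by nth_rewrite 1 [← e']; exact inv_mul_cancel u
      have := hr3 u (hUR hu.1)
      rwa [pow_three, h2, mul_one] at this)
    have heq : ({1, u, u⁻¹} : Set G) = A := by
      refine Set.eq_of_subset_of_ncard_le ?_ ?_ (Set.toFinite _)
      · rintro x (rfl | rfl | rfl)
        exacts [hA1, hu, hAinv u hu]
      · rw [← Nat.card_coe_set_eq, e, Set.ncard_insert_of_notMem (by
          rintro (e' | e')
          · exact hu1 e'.symm
          · exact hu1 (inv_eq_one.1 e'.symm)), Set.ncard_pair hne.symm]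
    have hff : f * (f * u * f⁻¹) * f⁻¹ = u⁻¹ := by
      rw [show f * (f * u * f⁻¹) * f⁻¹ = f * f * u * (f * f)⁻¹ by group]; exact hu.1.2
    have hfu := hAf u hu
    rw [← heq] at hfu
    rcases hfu with e' | e' | e'
    · exact hu1 (conj_eq_one_iff.1 e')
    · rw [e', e'] at hff; exact hne hff.symm
    · have e'' : f * u * f⁻¹ = u⁻¹ := e'
      rw [e'', ← conj_inv, e'', inv_inv] at hff
      exact hne hff.symm
  have hOcard : Nat.card N = Nat.card O * 108 := by
    have := class_in N hyN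
    rw [hNY] at this
    exact this.symm
  have h81 : 81 ∣ Nat.card N := by
    obtain ⟨P, hP⟩ := (IsPGroup.of_card (n := 3) (by rw [T.card]; norm_num) : IsPGroup 3 R).exists_le_sylow
    haveI : Group.IsNilpotent (P : Subgroup G) := P.isPGroup'.isNilpotent
    have hlt : R.subgroupOf (P : Subgroup G) < ⊤ := by
      refine lt_top_iff_ne_top.2 fun e => ?_
      have h1 := Nat.card_congr (Subgroup.subgroupOfEquivOfLe hP).toEquiv
      rw [e, Subgroup.card_top, card_three_five hG, T.card] at h1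
      norm_num at h1
    have hn := Group.normalizerCondition_of_isNilpotent (G := (P : Subgroup G)) _ hlt
    set M := Subgroup.normalizer ((R.subgroupOf (P : Subgroup G)) : Set (P : Subgroup G))
    have hMN : M.map (P : Subgroup G).subtype ≤ N := by
      rintro _ ⟨g, hg, rfl⟩
      exact mem_normalizer_of fun r hr => (Subgroup.mem_normalizer_iff.1 hg ⟨r, hP hr⟩).1 hr
    have h27 : Nat.card (R.subgroupOf (P : Subgroup G)) = 27 := by
      rw [Nat.card_congr (Subgroup.subgroupOfEquivOfLe hP).toEquiv, T.card]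
    obtain ⟨j, hj⟩ := IsPGroup.iff_card.1 (P.isPGroup'.to_subgroup M)
    have hlt' : 27 < Nat.card M := by
      rw [← h27]
      refine lt_of_le_of_ne (Subgroup.card_le_of_le hn.le) fun e => hn.ne (Subgroup.eq_of_le_of_card_ge hn.le e.ge)
    have hj4 : 4 ≤ j := by
      by_contra hlt4
      have : 3 ^ j ≤ 3 ^ 3 := Nat.pow_le_pow_right (by norm_num) (by omega)
      omega
    refine dvd_trans ?_ (Subgroup.card_dvd_of_le hMN)
    rw [Subgroup.card_map_of_injective (P : Subgroup G).subtype_injective, hj]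
    exact (show 81 = 3 ^ 4 by norm_num) ▸ pow_dvd_pow 3 hj4
  have hU0 : (cnt 0 = 0 ∧ ∀ u ∈ U, u ∉ O) ∨ (cnt 0 = 8 ∧ ∀ u ∈ U, u ≠ 1 → u ∈ O) := by
    by_cases hex : ∃ u ∈ U, u ∈ O
    · obtain ⟨u, hu, huO⟩ := hex
      have hu1 : u ≠ 1 := fun e => hO1 (e ▸ huO)
      have hall : ∀ v ∈ U, v ≠ 1 → v ∈ O := fun v hv hv1 => by
        obtain ⟨g, hg, rfl⟩ := htrans u hu hu1 v hv hv1
        exact hOconj g hg.1 u huO
      refine Or.inr ⟨?_, hall⟩
      have e1 : cnt 0 = Nat.card ((U : Set G) \ {1} : Set G) :=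
        Nat.card_congr
          { toFun := fun w => ⟨(w.1 : G), w.1.2, fun e' => hO1 (by
              have hw : (w.1 : G) ∈ O := by simpa using w.2
              rw [show (w.1 : G) = 1 from e'] at hw
              exact hw)⟩
            invFun := fun w => ⟨⟨w.1, w.2.1⟩, by rw [pow_zero, one_mul]; exact hall _ w.2.1 w.2.2⟩
            left_inv := fun w => rfl
            right_inv := fun w => rfl }
      rw [e1, Nat.card_coe_set_eq, Set.ncard_diff_singleton_of_mem U.one_mem, ← Nat.card_coe_set_eq]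
      have : Nat.card (U : Set G) = 9 := hU9
      omega
    · push Not at hex
      refine Or.inl ⟨?_, hex⟩
      refine @Nat.card_of_isEmpty _ ⟨fun w => hex w.1 w.1.2 ?_⟩
      simpa using w.2
  have hsum' : Nat.card O = cnt 0 + 2 * Nat.card A := by rw [hsum, h21, hA]; omega
  have hkey : (cnt 0 = 0 ∧ Nat.card A = 9) ∨ (cnt 0 = 8 ∧ Nat.card A = 5) := by
    rw [hOcard, hsum'] at h81
    obtain ⟨t, ht⟩ := hAodd
    rcases hU0 with ⟨e, -⟩ | ⟨e, -⟩
    · rw [e] at h81; exact Or.inl ⟨e, by omega⟩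
    · rw [e] at h81; exact Or.inr ⟨e, by omega⟩
  have hO18 : Nat.card O = 18 := by omega
  obtain ⟨P', hP'⟩ := Sylow.exists_subgroup_card_pow_prime (G := N) 3 (n := 5) (by
    rw [hOcard, hO18]; norm_num)
  set P := P'.map N.subtype
  have hP : Nat.card P = 243 := by rw [Subgroup.card_map_of_injective N.subtype_injective, hP']; norm_num
  have hPN : P ≤ N := Subgroup.map_subtype_le _
  have hord : ∀ r ∈ R, r ≠ 1 → orderOf r = 3 := fun r hr hr1 => orderOf_eq_prime (hr3 r hr) hr1
  rcases hkey with ⟨e0, ea⟩ | ⟨e0, ea⟩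
  · -- the inverted part is normalized
    have hUno : ∀ u ∈ U, u ∉ O := (hU0.resolve_right fun e => by omega).2
    have hAall : ∀ u ∈ U, u ∈ A := by
      have : A = (U : Set G) := Set.eq_of_subset_of_ncard_le (fun u hu => hu.1)
        (by rw [← Nat.card_coe_set_eq, ← Nat.card_coe_set_eq, ea]; exact le_of_eq hU9) (Set.toFinite _)
      intro u hu; rw [this]; exact hu
    have hcase : ∀ r ∈ R, r ∈ U ∨ r ∈ O := by
      intro r hr
      obtain ⟨⟨i, u⟩, hiu⟩ := hc.2 ⟨r, hr⟩
      have e : y ^ (i : ℕ) * (u : G) = r := congrArg Subtype.val hiu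
      rw [← e]
      fin_cases i
      · left; simp
      · right; rw [pow_one]; exact (hAall u u.2).2
      · right
        have h1 := hOinv _ (hAall _ (U.inv_mem u.2)).2
        rw [mul_inv_rev, inv_inv, hR _ (hUR u.2) _ (R.inv_mem T.yR),
          show y⁻¹ = y ^ 2 from inv_eq_of_mul_eq_one_right (by rw [← pow_succ', hy3])] at h1
        exact h1
    have hUconj : ∀ g ∈ N, ∀ u ∈ U, g * u * g⁻¹ ∈ U := by
      intro g hg u hu
      refine (hcase _ (norm_conj_mem hg (hUR hu))).resolve_right fun e => hUno u hu ?_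
      have h1 := hOconj g⁻¹ (N.inv_mem hg) _ e
      simpa [mul_assoc] using h1
    obtain ⟨K, hKP, hK81, hKU⟩ := lines_kernel P hP ((U : Set G) \ {1})
      (by
        rw [Nat.card_coe_set_eq, Set.ncard_diff_singleton_of_mem U.one_mem, ← Nat.card_coe_set_eq]
        have : Nat.card (U : Set G) = 9 := hU9
        omega)
      (fun l hl => ⟨U.inv_mem hl.1, fun e => hl.2 (inv_eq_one.1 e)⟩)
      (fun l hl e => hl.2 (by
        have h2 : l * l = 1 := by nth_rewrite 1 [← e]; exact inv_mul_cancel l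
        have := hr3 l (hUR hl.1)
        rwa [pow_three, h2, mul_one] at this))
      (fun g hg l hl => ⟨hUconj g (hPN hg) l hl.1, fun e => hl.2 (conj_eq_one_iff.1 e)⟩)
      (fun l hl => hord l (hUR hl.1) hl.2)
    have hKU' : ∀ k ∈ K, ∀ u ∈ U, k * u = u * k := fun k hk u hu => by
      by_cases e : u = 1
      · rw [e, mul_one, one_mul]
      · exact hKU k hk u ⟨hu, e⟩
    have hfix : ∀ {k : G}, (∀ u ∈ U, k * u = u * k) → ∀ {u}, u ∈ U → k * u * k⁻¹ = u := fun hk u hu => by
      rw [hk _ hu, mul_inv_cancel_right]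
    let K0 : Subgroup G :=
      { carrier := {k | k ∈ N ∧ (∀ u ∈ U, k * u = u * k) ∧ y⁻¹ * (k * y * k⁻¹) ∈ U}
        one_mem' := ⟨N.one_mem, fun u _ => by group, by simp [U.one_mem]⟩
        mul_mem' := fun {k l} hk hl => by
          refine ⟨N.mul_mem hk.1 hl.1, fun u hu => ?_, ?_⟩
          · exact ((show Commute k u from hk.2.1 u hu).mul_left (hl.2.1 u hu)).eq
          · have e : y⁻¹ * (k * l * y * (k * l)⁻¹) =
                y⁻¹ * (k * y * k⁻¹) * (k * (y⁻¹ * (l * y * l⁻¹)) * k⁻¹) := by group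
            rw [e, hfix hk.2.1 hl.2.2]
            exact U.mul_mem hk.2.2 hl.2.2
        inv_mem' := fun {k} hk => by
          have hki : ∀ u ∈ U, k⁻¹ * u = u * k⁻¹ := fun u hu => (show Commute k u from hk.2.1 u hu).inv_left.eq
          refine ⟨N.inv_mem hk.1, hki, ?_⟩
          have e : y⁻¹ * (k⁻¹ * y * k⁻¹⁻¹) = k⁻¹ * ((y⁻¹ * (k * y * k⁻¹))⁻¹) * k := by
            calc y⁻¹ * (k⁻¹ * y * k⁻¹⁻¹)
                = y⁻¹ * (k⁻¹ * (k * y * k⁻¹ * (y⁻¹ * (k * y * k⁻¹))⁻¹) * k) := by group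
              _ = _ := by group
          rw [e, show k⁻¹ * (y⁻¹ * (k * y * k⁻¹))⁻¹ * k = (y⁻¹ * (k * y * k⁻¹))⁻¹ by
            rw [hki _ (U.inv_mem hk.2.2), inv_mul_cancel_right]]
          exact U.inv_mem hk.2.2 }
    have hKK0 : K ≤ K0 := by
      intro k hk
      have hkN := hPN (hKP hk)
      refine ⟨hkN, hKU' k hk, ?_⟩
      obtain ⟨⟨i, u⟩, hiu⟩ := hc.2 ⟨k * y * k⁻¹, norm_conj_mem hkN T.yR⟩
      have e : y ^ (i : ℕ) * (u : G) = k * y * k⁻¹ := congrArg Subtype.val hiu
      fin_cases i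
      · exfalso
        rw [pow_zero, one_mul] at e
        exact hUno (k * y * k⁻¹) (e ▸ u.2) ⟨k, hkN, rfl⟩
      · rw [pow_one] at e
        rw [← e, inv_mul_cancel_left]
        exact u.2
      · exfalso
        have hku : k * (u : G) * k⁻¹ = u := hfix (hKU' k hk) u.2
        have hsq : Commute (k ^ 2) y := by
          show k ^ 2 * y = y * k ^ 2
          refine mul_inv_eq_iff_eq_mul.1 ?_
          calc k ^ 2 * y * (k ^ 2)⁻¹ = k * (k * y * k⁻¹) * k⁻¹ := by rw [pow_two]; group
            _ = (k * y * k⁻¹) * (k * y * k⁻¹) * (k * (u : G) * k⁻¹) := by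
              nth_rewrite 1 [← e]
              show k * (y ^ 2 * (u : G)) * k⁻¹ = _
              rw [pow_two]; group
            _ = y := by
              rw [hku, ← e]
              show y ^ 2 * (u : G) * (y ^ 2 * u) * u = y
              have hcy : Commute (y ^ 2) (u : G) := hR _ (R.pow_mem T.yR 2) _ (hUR u.2)
              rw [← pow_two (y ^ 2 * (u : G)), hcy.mul_pow, mul_assoc, ← pow_succ, hr3 _ (hUR u.2), mul_one,
                ← pow_mul, show 2 * 2 = 3 + 1 from rfl, pow_succ, hy3, one_mul]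
        have hk243 : k ^ 243 = 1 := by
          have := congrArg Subtype.val (pow_card_eq_one' (x := (⟨k, hKP hk⟩ : P)))
          rw [hP] at this
          simpa using this
        have hky : k * y = y * k := by
          have := (hsq.pow_left 122).eq
          rwa [← pow_mul, show 2 * 122 = 243 + 1 from rfl, pow_succ, hk243, one_mul] at this
        rw [hky, mul_inv_cancel_right] at e
        refine hyU ?_
        have : (u : G) = y⁻¹ := by
          rw [eq_comm, inv_eq_iff_mul_eq_one, ← mul_left_cancel_iff (a := y), mul_one]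
          calc y * (y * u) = y ^ 2 * u := by rw [pow_two, mul_assoc]
            _ = y := e
        simpa [this] using U.inv_mem u.2
    let ψ : K0 →* U :=
      { toFun := fun k => ⟨y⁻¹ * ((k : G) * y * (k : G)⁻¹), k.2.2.2⟩
        map_one' := Subtype.ext (by simp)
        map_mul' := fun k l => Subtype.ext (by
          show y⁻¹ * (((k : G) * l) * y * ((k : G) * l)⁻¹) =
            y⁻¹ * ((k : G) * y * (k : G)⁻¹) * (y⁻¹ * ((l : G) * y * (l : G)⁻¹))
          conv_rhs => arg 2; rw [← hfix k.2.2.1 l.2.2.2]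
          group) }
    have hψf : ∀ v ∈ ψ.range, ∃ w ∈ ψ.range, (w : G) = f * (v : G) * f⁻¹ := by
      rintro _ ⟨k, rfl⟩
      have hk' : f * (k : G) * f⁻¹ ∈ K0 := by
        refine ⟨N.mul_mem (N.mul_mem hfN k.2.1) (N.inv_mem hfN), fun u hu => ?_, ?_⟩
        · have hu' : f⁻¹ * u * f⁻¹⁻¹ ∈ U := hUN2 f⁻¹ (N2.inv_mem ⟨hfN, cent_le_normThree T.fC⟩) u hu
          rw [show f * (k : G) * f⁻¹ * u = f * ((k : G) * (f⁻¹ * u * f⁻¹⁻¹)) * f⁻¹ by group, k.2.2.1 _ hu']
          group
        · have e : y⁻¹ * (f * (k : G) * f⁻¹ * y * (f * k * f⁻¹)⁻¹) =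
              f * (y⁻¹ * ((k : G) * y * (k : G)⁻¹)) * f⁻¹ := by
            have h1 : f⁻¹ * y * f = y := by rw [mul_assoc, ← hfy.eq, inv_mul_cancel_left]
            have h2 : f * y⁻¹ = y⁻¹ * f := hfy.inv_right.eq
            calc y⁻¹ * (f * (k : G) * f⁻¹ * y * (f * k * f⁻¹)⁻¹)
                = (y⁻¹ * f) * ((k : G) * (f⁻¹ * y * f) * (k : G)⁻¹) * f⁻¹ := by group
              _ = f * (y⁻¹ * ((k : G) * y * (k : G)⁻¹)) * f⁻¹ := by rw [h1, ← h2]; group
          rw [e]
          exact hUN2 f ⟨hfN, cent_le_normThree T.fC⟩ _ k.2.2.2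
      refine ⟨ψ ⟨_, hk'⟩, ⟨_, rfl⟩, ?_⟩
      have h1 : f⁻¹ * y * f = y := by rw [mul_assoc, ← hfy.eq, inv_mul_cancel_left]
      have h2 : f * y⁻¹ = y⁻¹ * f := hfy.inv_right.eq
      show y⁻¹ * (f * (k : G) * f⁻¹ * y * (f * k * f⁻¹)⁻¹) = f * (y⁻¹ * ((k : G) * y * (k : G)⁻¹)) * f⁻¹
      calc y⁻¹ * (f * (k : G) * f⁻¹ * y * (f * k * f⁻¹)⁻¹)
          = (y⁻¹ * f) * ((k : G) * (f⁻¹ * y * f) * (k : G)⁻¹) * f⁻¹ := by group
        _ = f * (y⁻¹ * ((k : G) * y * (k : G)⁻¹)) * f⁻¹ := by rw [h1, ← h2]; group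
    have hrange : ψ.range = ⊤ := by
      obtain ⟨v, hvr, hv1⟩ : ∃ v ∈ ψ.range, v ≠ 1 := by
        by_contra hall
        push Not at hall
        have hle : K ≤ Subgroup.centralizer ({y} : Set G) := fun k hk => by
          have h1 := hall (ψ ⟨k, hKK0 hk⟩) ⟨_, rfl⟩
          have h2 : y⁻¹ * (k * y * k⁻¹) = 1 := congrArg Subtype.val h1
          rw [inv_mul_eq_one, eq_comm, mul_inv_eq_iff_eq_mul] at h2
          exact mem_cent_iff.2 h2
        have := dvd_trans hK81 (Subgroup.card_dvd_of_le hle)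
        rw [hY] at this
        norm_num at this
      obtain ⟨w, hwr, hwe⟩ := hψf v hvr
      have hd : Nat.card ψ.range ∣ 9 := hU9 ▸ Subgroup.card_subgroup_dvd_card _
      by_contra hne
      have hlt : Nat.card ψ.range ≠ 9 := fun e => hne (Subgroup.card_eq_iff_eq_top ψ.range |>.1 (e.trans hU9.symm))
      have hvo : orderOf v = 3 := orderOf_eq_prime (Subtype.ext (by push_cast; exact hr3 _ (hUR v.2))) hv1
      have h3 : Subgroup.zpowers v = ψ.range := by
        refine Subgroup.eq_of_le_of_card_ge (Subgroup.zpowers_le.2 hvr) ?_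
        rw [Nat.card_zpowers, hvo]
        have := Nat.le_of_dvd (by norm_num) hd
        set cr := Nat.card ψ.range
        interval_cases cr <;> omega
      rw [← h3] at hwr
      obtain ⟨i, hi⟩ := hwr
      have hi' : (v : G) ^ i = f * (v : G) * f⁻¹ := by rw [← hwe, ← hi]; push_cast; rfl
      have hv3 : orderOf (v : G) = 3 := by rwa [Subgroup.orderOf_coe]
      have hsq : f * f * (v : G) * (f * f)⁻¹ = (v : G) ^ (i * i) := by
        calc f * f * (v : G) * (f * f)⁻¹ = f * (f * (v : G) * f⁻¹) * f⁻¹ := by group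
          _ = _ := by rw [← hi', ← conj_zpow, ← hi', ← zpow_mul]
      rw [v.2.2, ← zpow_neg_one, zpow_eq_zpow_iff_modEq, hv3, ← ZMod.intCast_eq_intCast_iff] at hsq
      push_cast at hsq
      exact neg_one_not_square _ hsq
    have h243 : 243 ∣ Nat.card K0 := by
      have h1 := ψ.ker.card_mul_index
      rw [Subgroup.index_ker, hrange, Subgroup.card_top, hU9] at h1
      have hRk : R.subgroupOf K0 ≤ ψ.ker := fun r hr => Subtype.ext (by
        show y⁻¹ * ((r : G) * y * (r : G)⁻¹) = 1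
        rw [hR r hr y T.yR, mul_inv_cancel_right, inv_mul_cancel])
      have hRK0 : R ≤ K0 := fun r hr => ⟨hRN hr, fun u hu => hR r hr u (hUR hu), by
        rw [hR r hr y T.yR, mul_inv_cancel_right, inv_mul_cancel]; exact U.one_mem⟩
      have h27 : 27 ∣ Nat.card ψ.ker := by
        have := Subgroup.card_dvd_of_le hRk
        rwa [Nat.card_congr (Subgroup.subgroupOfEquivOfLe hRK0).toEquiv, T.card] at this
      rw [← h1]
      exact mul_dvd_mul h27 (dvd_refl 9)
    obtain ⟨S', hS'⟩ := Sylow.exists_subgroup_card_pow_prime (G := K0) 3 (n := 5) (by simpa using h243)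
    obtain ⟨S, hS⟩ := (IsPGroup.of_card (n := 5)
      (by rw [Subgroup.card_map_of_injective K0.subtype_injective, hS']) : IsPGroup 3 (S'.map K0.subtype)).exists_le_sylow
    have hSeq : S'.map K0.subtype = (S : Subgroup G) := Subgroup.eq_of_le_of_card_ge hS
      (by rw [card_three_five hG, Subgroup.card_map_of_injective K0.subtype_injective, hS']; norm_num)
    refine ⟨U, S, hU9, fun u hu v hv => hR u (hUR hu) v (hUR hv), fun p hp u hu => ?_⟩
    rw [← hSeq] at hp
    obtain ⟨k, -, rfl⟩ := hp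
    exact k.2.2.1 u hu
  · -- an orbit of eight elements generating the whole subgroup
    exfalso
    set L : Set G := ((R : Set G) \ insert 1 O)
    have hL8 : Nat.card L = 8 := by
      have hsub : insert (1 : G) O ⊆ (R : Set G) := Set.insert_subset R.one_mem hOR
      rw [Nat.card_coe_set_eq, Set.ncard_sdiff hsub (Set.toFinite _), Set.ncard_insert_of_notMem hO1 (Set.toFinite _),
        ← Nat.card_coe_set_eq, ← Nat.card_coe_set_eq, hO18]
      have : Nat.card (R : Set G) = 27 := T.card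
      omega
    have hLinv : ∀ l ∈ L, l⁻¹ ∈ L := fun l hl => ⟨R.inv_mem hl.1, fun e => hl.2 (by
      rcases e with e | e
      · exact Or.inl (inv_eq_one.1 e)
      · exact Or.inr (by simpa using hOinv _ e))⟩
    obtain ⟨K, hKP, hK81, hKL⟩ := lines_kernel P hP L hL8 hLinv
      (fun l hl e => hl.2 (Or.inl (by
        have h2 : l * l = 1 := by nth_rewrite 1 [← e]; exact inv_mul_cancel l
        have := hr3 l hl.1
        rwa [pow_three, h2, mul_one] at this)))
      (fun g hg l hl => ⟨norm_conj_mem (hPN hg) hl.1, fun e => hl.2 (by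
        rcases e with e | e
        · exact Or.inl (conj_eq_one_iff.1 e)
        · exact Or.inr (by simpa [mul_assoc] using hOconj g⁻¹ (N.inv_mem (hPN hg)) _ e))⟩)
      (fun l hl => hord l hl.1 fun e => hl.2 (Or.inl e))
    obtain ⟨w, hwU, hwA⟩ : ∃ w ∈ U, w ∉ A := by
      by_contra hall
      push Not at hall
      have h9 : Nat.card U ≤ Nat.card A := Nat.card_mono (Set.toFinite _) fun u hu => hall u hu
      omega
    have hmem : ∀ v ∈ U, v ∉ A → y * v ∈ L := fun v hv hvA => ⟨R.mul_mem T.yR (hUR hv), fun e => by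
      rcases e with e | e
      · exact hyU ((mul_eq_one_iff_eq_inv.1 e) ▸ U.inv_mem hv)
      · exact hvA ⟨hv, e⟩⟩
    have hle : K ≤ Subgroup.centralizer ({y} : Set G) := fun k hk => by
      have h1 : Commute k (y * w) := hKL k hk _ (hmem w hwU hwA)
      have h2 : Commute k (y * w⁻¹) := hKL k hk _ (hmem _ (U.inv_mem hwU) fun e => hwA (by simpa using hAinv _ e))
      have h3 := (h1.mul_right h2).pow_right 2
      have e : (y * w * (y * w⁻¹)) ^ 2 = y := by
        have hwy : w * y = y * w := hR w (hUR hwU) y T.yR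
        have e1 : y * w * (y * w⁻¹) = y * y := by
          calc y * w * (y * w⁻¹) = y * (w * y) * w⁻¹ := by group
            _ = y * y := by rw [hwy]; group
        rw [e1, ← pow_two, ← pow_mul, show 2 * 2 = 3 + 1 from rfl, pow_succ, hy3, one_mul]
      rw [e] at h3
      exact mem_cent_iff.2 h3.eq
    have := dvd_trans hK81 (Subgroup.card_dvd_of_le hle)
    rw [hY] at this
    norm_num at this

/-- Every element of order three has a centralizer of order divisible by twenty-seven. -/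
theorem three_big [IsSimpleGroup G] (h : Setting z Q) {t : G} (ht : orderOf t = 3) :
    27 ∣ Nat.card (Subgroup.centralizer ({t} : Set G)) := by
  haveI : Fact (Nat.Prime 3) := ⟨Nat.prime_three⟩
  obtain ⟨w, k, m, N⟩ := exists_ndata h
  obtain ⟨y, a, b, n, d⟩ := exists_three_data h
  have hY : Nat.card (Subgroup.centralizer ({y} : Set G)) = 1080 := by
    obtain ⟨c, hc⟩ := isConj_iff.1 (h.one m (two_iff.2 ⟨N.m2, N.m1⟩))
    obtain ⟨e, -, hey⟩ := d.conj3 (c * k * c⁻¹) (mem_cent_iff.2 (by rw [← hc]; exact comm_conj N.mkc.symm))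
      (by rw [orderOf_conj', N.k3])
    rw [← hey, card_cent_conj, card_cent_conj, N.cent_k]
  obtain ⟨f, R, T⟩ := d.exists_tdata h (by rw [hY]; norm_num)
  obtain ⟨U, P, hU, hUc, hP⟩ := T.exists_central d h hY (order_eq h)
  obtain ⟨P', hP'⟩ := (IsPGroup.of_card (n := 1) (p := 3) (by rw [Nat.card_zpowers, ht, pow_one]) :
    IsPGroup 3 (Subgroup.zpowers t)).exists_le_sylow
  obtain ⟨g, hg⟩ := MulAction.exists_smul_eq G P' P
  have htP : g * t * g⁻¹ ∈ (P : Subgroup G) := by
    rw [← hg, Sylow.coe_subgroup_smul]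
    exact ⟨t, hP' (Subgroup.mem_zpowers t), rfl⟩
  rw [← card_cent_conj g]
  set s := g * t * g⁻¹
  have hs : orderOf s = 3 := by rw [orderOf_conj', ht]
  by_cases hsU : s ∈ U
  · have hle : (P : Subgroup G) ≤ Subgroup.centralizer ({s} : Set G) := fun p hp => mem_cent_iff.2 (hP p hp s hsU)
    have := Subgroup.card_dvd_of_le hle
    rw [card_three_five (order_eq h)] at this
    exact dvd_trans (by norm_num) this
  · have hsC : ∀ u ∈ U, Commute u s := fun u hu => (hP s htP u hu).symm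
    let φ : U × Subgroup.zpowers s →* G := U.subtype.noncommCoprod (Subgroup.zpowers s).subtype fun u p => by
      obtain ⟨i, hi⟩ := p.2
      show Commute (u : G) (p : G)
      rw [← hi]
      exact (hsC u u.2).zpow_right i
    have hinj : Function.Injective φ := by
      refine (injective_iff_map_eq_one _).2 fun ⟨u, p⟩ e => ?_
      have e' : (u : G) * (p : G) = 1 := e
      have hp : p = 1 := by
        by_contra hp1
        have hgen : Subgroup.zpowers (p : G) = Subgroup.zpowers s :=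
          Subgroup.eq_of_le_of_card_ge (Subgroup.zpowers_le.2 p.2) (by
            rw [Nat.card_zpowers, Nat.card_zpowers, hs]
            have hd := orderOf_dvd_natCard p
            rw [Nat.card_zpowers, hs] at hd
            rw [Subgroup.orderOf_coe]
            rcases (Nat.dvd_prime Nat.prime_three).1 hd with r | r
            · exact absurd (orderOf_eq_one_iff.1 r) hp1
            · rw [r])
        refine hsU ?_
        have hpU : (p : G) ∈ U := by
          rw [← inv_eq_of_mul_eq_one_right e']; exact U.inv_mem u.2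
        obtain ⟨i, hi⟩ := (hgen.symm ▸ Subgroup.mem_zpowers s : s ∈ Subgroup.zpowers (p : G))
        rw [← hi]
        exact U.zpow_mem hpU i
      subst hp
      exact Prod.ext (Subtype.ext (by simpa using e')) rfl
    have hle : φ.range ≤ Subgroup.centralizer ({s} : Set G) := by
      rintro _ ⟨⟨u, p⟩, rfl⟩
      obtain ⟨i, hi⟩ := p.2
      refine mem_cent_iff.2 ?_
      show ((u : G) * (p : G)) * s = s * ((u : G) * (p : G))
      rw [← hi]
      exact ((hsC u u.2).mul_left ((Commute.refl s).zpow_left i)).eq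
    have := Subgroup.card_dvd_of_le hle
    rwa [Nat.card_congr (MonoidHom.ofInjective hinj).toEquiv.symm, Nat.card_prod, hU, Nat.card_zpowers, hs] at this

end Cfsg.Agent.Invol.J3Type
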