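import Cfsg.Agent.Lib.Invol.J3Type.Order
import Cfsg.Agent.Lib.Invol.J3Type.A6Three

/-!
The elementary abelian Sylow subgroup of order twenty-seven of the centralizer of an element of
order three.
-/

set_option autoImplicit false
set_option linter.unusedSectionVars false
set_option linter.style.haveILetI false

namespace Cfsg.Agent.Invol.J3Type

open Cfsg Cfsg.Agent Cfsg.Agent.Invol.HJ

universe u

variable {G : Type u} [Group G] [Finite G] {z : G} {Q : Subgroup G} {y a b n : G}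

/-- A conjugation mapping a finite subgroup into itself normalizes it. -/
theorem mem_normalizer_of {R : Subgroup G} {g : G} (h : ∀ r ∈ R, g * r * g⁻¹ ∈ R) :
    g ∈ Subgroup.normalizer (R : Set G) := by
  have hle : R.map (MulAut.conj g).toMonoidHom ≤ R := by
    rintro _ ⟨r, hr, rfl⟩; exact h r hr
  have heq := Subgroup.eq_of_le_of_card_ge hle
    (le_of_eq (Subgroup.card_map_of_injective (MulAut.conj g).injective).symm)
  refine Subgroup.mem_normalizer_iff.2 fun r => ⟨h r, fun hr => ?_⟩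
  rw [← heq] at hr
  obtain ⟨s, hs, e⟩ := hr
  have e' : g * s * g⁻¹ = g * r * g⁻¹ := e
  rwa [← mul_left_cancel (mul_right_cancel e')]

theorem norm_conj_mem {R : Subgroup G} {g r : G} (hg : g ∈ Subgroup.normalizer (R : Set G)) (hr : r ∈ R) :
    g * r * g⁻¹ ∈ R := (Subgroup.mem_normalizer_iff.1 hg r).1 hr

/-- No nontrivial element of order three of the centralizer of `y` commutes with the outer involution. -/
theorem YData.three_cent_n (d : YData z Q y a b n) (h : Setting z Q)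
    (h5 : 5 ∣ Nat.card (Subgroup.centralizer ({y} : Set G))) {t : G} (hty : t * y = y * t) (htn : t * n = n * t)
    (ht3 : t ^ 3 = 1) : t = 1 := by
  by_contra hne
  haveI : Fact (Nat.Prime 3) := ⟨Nat.prime_three⟩
  haveI : Fact (Nat.Prime 5) := ⟨by norm_num⟩
  have ht : orderOf t = 3 := orderOf_eq_prime ht3 hne
  obtain ⟨v, hv5, hvy, hvn⟩ := d.exists_five_comm h h5
  have hc := h.toCore
  obtain ⟨c, hcn⟩ := isConj_iff.1 (h.one n (two_iff.2 ⟨d.n2, fun e => d.nQ (e ▸ Q.one_mem)⟩))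
  set H := Subgroup.centralizer ({y} : Set G) ⊓ Subgroup.centralizer ({n} : Set G)
  have htH : t ∈ H := ⟨mem_cent_iff.2 hty, mem_cent_iff.2 htn⟩
  have hvH : v ∈ H := ⟨mem_cent_iff.2 hvy, mem_cent_iff.2 hvn⟩
  have hzH : z ∈ H := ⟨d.z_mem hc, mem_cent_iff.2 (hc.cz d.nC).symm⟩
  have hH : Nat.card ↥(H ⊓ Subgroup.centralizer ({z} : Set G)) ≤ 2 := by
    have hsub : ((H ⊓ Subgroup.centralizer ({z} : Set G) : Subgroup G) : Set G) ⊆ {1, z} := by
      intro g hg
      obtain ⟨e, j, rfl⟩ := d.exists_psi hc hg.2 (mem_cent_iff.1 hg.1.1)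
      have hcn' := mem_cent_iff.1 hg.1.2
      have h1 : n * (d.psi hc e * y ^ j) * n⁻¹ = d.psi hc e * y ^ j := by rw [← hcn', mul_inv_cancel_right]
      rw [← conj_mul, d.conj_psi, ← conj_pow, d.ninv, inv_pow] at h1
      obtain ⟨k, hk⟩ : ∃ k : ℕ, (y ^ j)⁻¹ = y ^ k := ⟨2 * j, by
        rw [inv_eq_iff_mul_eq_one, ← pow_add, show j + 2 * j = 3 * j by ring, pow_mul, d.y_pow_three, one_pow]⟩
      rw [hk] at h1
      obtain ⟨he, hyy⟩ := d.psi_y_inj hc h1
      rw [← hk] at hyy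
      have hy1 : y ^ j = 1 := by
        have h2 : (y ^ j) ^ 2 = 1 := by rw [pow_two]; nth_rewrite 1 [← hyy]; exact inv_mul_cancel _
        have h3 : (y ^ j) ^ 3 = 1 := by rw [← pow_mul, mul_comm, pow_mul, d.y_pow_three, one_pow]
        have h4 := pow_gcd_eq_one.2 ⟨h2, h3⟩
        rwa [show Nat.gcd 2 3 = 1 by norm_num, pow_one] at h4
      rw [hy1, mul_one]
      rcases (show ∀ g : DihedralGroup 4, phi8 g = g → g = 1 ∨ g = .r 2 by decide +kernel) e he with r | r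
      · left; rw [r, map_one]
      · right; rw [r, d.psi_r2]; rfl
    calc Nat.card ↥(H ⊓ Subgroup.centralizer ({z} : Set G)) ≤ Nat.card ({1, z} : Set G) :=
          Nat.card_mono (Set.toFinite _) hsub
      _ ≤ 2 := by rw [Nat.card_coe_set_eq]; exact (Set.ncard_insert_le _ _).trans (by simp)
  have h4 : ¬ 4 ∣ Nat.card H := not_four_dvd hzH h.hz fun hd => by
    have := Nat.le_of_dvd Nat.card_pos hd
    omega
  obtain ⟨O, hOH, hOodd, hHcard, hOmem⟩ := odd_part H (h.hz ▸ Subgroup.orderOf_dvd_natCard _ hzH) h4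
  have hdH : Nat.card H ∣ 1920 := by
    have := Subgroup.card_dvd_of_le (inf_le_right : H ≤ Subgroup.centralizer ({n} : Set G))
    rwa [← card_cent_conj c, hcn, hc.card_C] at this
  have hO : Nat.card O ∣ 15 := by
    have h1 : Nat.card O ∣ 128 * 15 := dvd_trans (Subgroup.card_dvd_of_le hOH) hdH
    refine Nat.Coprime.dvd_of_dvd_mul_left ?_ h1
    rw [show 128 = 2 ^ 7 by norm_num]
    exact Nat.Coprime.pow_right _ (Nat.coprime_two_right.2 hOodd)
  have hvO : v ∈ O := (hOmem v hvH).2 (by rw [hv5]; exact ⟨2, rfl⟩)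
  have htO : t ∈ O := (hOmem t htH).2 (by rw [ht]; exact ⟨1, rfl⟩)
  have h15 : Nat.card O = 15 := Nat.dvd_antisymm hO
    (Nat.Coprime.mul_dvd_of_dvd_of_dvd (m := 5) (n := 3) (by norm_num)
      (hv5 ▸ Subgroup.orderOf_dvd_natCard _ hvO) (ht ▸ Subgroup.orderOf_dvd_natCard _ htO))
  have hvt : v * t = t * v := by
    haveI hnor : (Subgroup.zpowers (⟨v, hvO⟩ : O)).Normal := by
      refine Subgroup.normal_of_index_eq_minFac_card ?_
      have h1 := (Subgroup.zpowers (⟨v, hvO⟩ : O)).card_mul_index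
      rw [Nat.card_zpowers, Subgroup.orderOf_mk, hv5, h15] at h1
      rw [h15, show (Subgroup.zpowers (⟨v, hvO⟩ : O)).index = 3 by omega]
      norm_num
    have hn : t * v * t⁻¹ ∈ Subgroup.zpowers v := by
      obtain ⟨k, hk⟩ := hnor.conj_mem ⟨v, hvO⟩ (Subgroup.mem_zpowers _) ⟨t, htO⟩
      exact ⟨k, by simpa using congrArg Subtype.val hk⟩
    exact (conj_pow_three hv5 ht3 hn).symm
  obtain ⟨i, hi⟩ := d.no_fifteen h h5 hvy hty hvt hv5 ht3
  have hi' : y ^ i = t := hi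
  have h1 : n * t * n⁻¹ = t := by rw [← htn, mul_inv_cancel_right]
  rw [← hi', ← conj_zpow, d.ninv, inv_zpow, hi'] at h1
  have h2 : t ^ 2 = 1 := by rw [pow_two]; nth_rewrite 1 [← h1]; exact inv_mul_cancel t
  have := orderOf_dvd_of_pow_eq_one h2
  rw [ht] at this
  norm_num at this

/-- A commuting involution in the centralizer of `y` only centralizes powers of `y`. -/
theorem YData.three_cent_inner (d : YData z Q y a b n) (h : Setting z Q) {i t : G} (hiy : i * y = y * i)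
    (hi : orderOf i = 2) (hty : t * y = y * t) (hti : t * i = i * t) (ht3 : t ^ 3 = 1) :
    t ∈ Subgroup.zpowers y := by
  obtain ⟨g, hg, hge⟩ := d.invol_conj_z h hiy hi
  have hgy : g * y * g⁻¹ = y := by rw [mem_cent_iff.1 hg, mul_inv_cancel_right]
  obtain ⟨e, j, hj⟩ := d.exists_psi h.toCore (c := g * t * g⁻¹) (mem_cent_iff.2 (hge ▸ comm_conj hti))
    (by nth_rewrite 1 [← hgy]; nth_rewrite 2 [← hgy]; exact comm_conj hty)
  have h3 : d.psi h.toCore (e ^ 3) * y ^ (j * 3) = d.psi h.toCore 1 * y ^ 0 := by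
    rw [map_pow, pow_mul, ← ((d.psi_comm h.toCore e).pow_right j).mul_pow, ← hj, conj_pow, ht3, map_one,
      pow_zero]
    group
  obtain ⟨he3, -⟩ := d.psi_y_inj h.toCore h3
  have he : e = 1 := (show ∀ e : DihedralGroup 4, e ^ 3 = 1 → e = 1 by decide +kernel) e he3
  rw [he, map_one, one_mul] at hj
  have hgc : Commute g (y ^ j) := (show Commute g y from mem_cent_iff.1 hg).pow_right j
  refine ⟨j, ?_⟩
  show y ^ (j : ℤ) = t
  rw [zpow_natCast]
  calc y ^ j = g⁻¹ * (g * y ^ j) := (inv_mul_cancel_left g _).symm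
    _ = g⁻¹ * y ^ j * g := by rw [hgc.eq, mul_assoc]
    _ = t := by rw [← hj]; group

/-- A Sylow three-subgroup of the centralizer of `y` with an element of order four normalizing it. -/
structure TData (y f : G) (R : Subgroup G) : Prop where
  card : Nat.card R = 27
  yR : y ∈ R
  le : R ≤ Subgroup.centralizer ({y} : Set G)
  fC : f ∈ Subgroup.centralizer ({y} : Set G)
  f4 : f ^ 4 = 1
  fnorm : ∀ r ∈ R, f * r * f⁻¹ ∈ R
  inv : ∀ r ∈ R, f * f * r * (f * f)⁻¹ * r ∈ Subgroup.zpowers y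
  norm : ∀ g ∈ Subgroup.centralizer ({y} : Set G), (∀ r ∈ R, g * r * g⁻¹ ∈ R) → ∃ r ∈ R, ∃ k : ℕ, g = r * f ^ k
  quot : ∀ r ∈ R, ∀ s ∈ R, r * s * r⁻¹ * s⁻¹ ∈ Subgroup.zpowers y
  cube : ∀ r ∈ R, r * r * r ∈ Subgroup.zpowers y

theorem YData.exists_tdata (d : YData z Q y a b n) (h : Setting z Q)
    (h5 : 5 ∣ Nat.card (Subgroup.centralizer ({y} : Set G))) : ∃ f R, TData y f R := by
  obtain ⟨hs, -, -⟩ := d.quot_simple h
  haveI := hs
  obtain ⟨-, h360⟩ := d.card_of_five h h5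
  obtain ⟨e⟩ := Cfsg.Agent.S0497.result h360
  set Y := Subgroup.centralizer ({y} : Set G)
  set N := (Subgroup.zpowers y).subgroupOf Y
  let π : Y →* alternatingGroup (Fin 6) := e.toMonoidHom.comp (QuotientGroup.mk' N)
  have hsurj : Function.Surjective π := e.surjective.comp (QuotientGroup.mk'_surjective N)
  have hker : ∀ g : Y, π g = 1 ↔ (g : G) ∈ Subgroup.zpowers y := fun g => by
    show e (QuotientGroup.mk' N g) = 1 ↔ _
    rw [MulEquiv.map_eq_one_iff, QuotientGroup.mk'_apply, QuotientGroup.eq_one_iff]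
    rfl
  have hyle : Subgroup.zpowers y ≤ Y := Subgroup.zpowers_le.2 (mem_cent_iff.2 rfl)
  set R0 : Subgroup Y := T6.comap π
  have hR0 : Nat.card R0 = 27 := by
    let r : R0 →* T6 := (π.comp R0.subtype).codRestrict T6 fun g => g.2
    have hr : Function.Surjective r := fun t => by
      obtain ⟨g, hg⟩ := hsurj t
      exact ⟨⟨g, show π g ∈ T6 by rw [hg]; exact t.2⟩, Subtype.ext hg⟩
    have h1 := r.ker.card_mul_index
    rw [Subgroup.index_ker, MonoidHom.range_eq_top.2 hr, Subgroup.card_top, card_T6] at h1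
    have h2 : Nat.card r.ker = 3 := by
      refine Eq.trans (Nat.card_congr (Equiv.ofBijective
        (fun k : r.ker => (⟨((k : R0) : Y), (hker _).1 (congrArg Subtype.val k.2)⟩ : Subgroup.zpowers y))
        ⟨fun k l e' => ?_, fun t => ?_⟩)) (by rw [Nat.card_zpowers, d.y3])
      · have e'' := congrArg (fun t : Subgroup.zpowers y => (t : G)) e'
        exact Subtype.ext (Subtype.ext (Subtype.ext e''))
      · have h0 : π ⟨t, hyle t.2⟩ = 1 := (hker _).2 t.2
        exact ⟨⟨⟨⟨t, hyle t.2⟩, show π _ ∈ T6 by rw [h0]; exact one_mem _⟩, Subtype.ext h0⟩, rfl⟩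
    rw [← h1, h2]
  set R := R0.map Y.subtype
  have hmem : ∀ (g : G) (hg : g ∈ Y), g ∈ R ↔ InT (π ⟨g, hg⟩) := fun g hg => by
    rw [← mem_T6]
    exact ⟨fun ⟨k, hk, e'⟩ => (show k = ⟨g, hg⟩ from Subtype.ext e') ▸ hk, fun h' => ⟨⟨g, hg⟩, h', rfl⟩⟩
  have hle : R ≤ Y := Subgroup.map_subtype_le _
  obtain ⟨f0, hf0⟩ := hsurj f6⁻¹
  have hfour : π (f0 ^ 4) = 1 := by
    rw [map_pow, hf0, inv_pow, show f6 ^ 4 = 1 by
      rw [show 4 = 2 + 2 from rfl, pow_add, pow_two]; exact f6_pow.1, inv_one]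
  set fY : Y := f0 ^ 3
  have hπf : π fY = f6 := by
    rw [map_pow, hf0, ← mul_left_inj f6⁻¹, ← pow_succ, inv_pow, show f6 ^ (3 + 1) = 1 by
      rw [show 3 + 1 = 2 + 2 from rfl, pow_add, pow_two]; exact f6_pow.1, inv_one, mul_inv_cancel]
  refine ⟨fY, R, ?_, ?_, hle, fY.2, ?_, ?_, ?_, ?_, ?_, fun r hr => ?_⟩
  · rw [Subgroup.card_map_of_injective Y.subtype_injective, hR0]
  · refine (hmem y (mem_cent_iff.2 rfl)).2 ?_
    rw [(hker _).2 (Subgroup.mem_zpowers y), ← mem_T6]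
    exact one_mem _
  · obtain ⟨i, hi⟩ := (hker _).1 hfour
    have hi' : y ^ i = ((f0 : G)) ^ 4 := hi
    show ((f0 : G) ^ 3) ^ 4 = 1
    rw [← pow_mul, mul_comm, pow_mul, ← hi', ← zpow_natCast, ← zpow_mul, mul_comm, zpow_mul, zpow_natCast,
      d.y_pow_three, one_zpow]
  · intro r hr
    refine (hmem _ (mul_mem (mul_mem fY.2 (hle hr)) (inv_mem fY.2))).2 ?_
    show InT (π (fY * ⟨r, hle hr⟩ * fY⁻¹))
    rw [map_mul, map_mul, map_inv, hπf]
    exact (f6_norm ⟨_, (hmem r (hle hr)).1 hr⟩).1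
  · intro r hr
    refine (hker (fY * fY * ⟨r, hle hr⟩ * (fY * fY)⁻¹ * ⟨r, hle hr⟩)).1 ?_
    rw [map_mul, map_mul, map_inv, map_mul, map_mul, hπf,
      (f6_norm ⟨_, (hmem r (hle hr)).1 hr⟩).2, inv_mul_cancel]
  · intro g hg hgR
    have hin : ∀ t, InT t → InT (π ⟨g, hg⟩ * t * (π ⟨g, hg⟩)⁻¹) := by
      intro t ht
      obtain ⟨r, rfl⟩ := hsurj t
      rw [← map_inv, ← map_mul, ← map_mul]
      exact (hmem _ (mul_mem (mul_mem hg r.2) (inv_mem hg))).1 (hgR r ((hmem r r.2).2 ht))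
    obtain ⟨k, hk⟩ := t6_normalizer _ (hin a6 t6_self.1) (hin b6 t6_self.2)
    refine ⟨g * (fY : G) ^ (k : ℕ), (hmem _ (mul_mem hg (pow_mem fY.2 _))).2 ?_, 3 * (k : ℕ), ?_⟩
    · show InT (π (⟨g, hg⟩ * fY ^ (k : ℕ)))
      rw [map_mul, map_pow, hπf]
      exact hk
    · have h4 : (fY : G) ^ 4 = 1 := by
        obtain ⟨i, hi⟩ := (hker _).1 hfour
        have hi' : y ^ i = ((f0 : G)) ^ 4 := hi
        show ((f0 : G) ^ 3) ^ 4 = 1
        rw [← pow_mul, mul_comm, pow_mul, ← hi', ← zpow_natCast, ← zpow_mul, mul_comm, zpow_mul, zpow_natCast,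
          d.y_pow_three, one_zpow]
      rw [mul_assoc, ← pow_add, show (k : ℕ) + 3 * (k : ℕ) = 4 * (k : ℕ) by ring, pow_mul, h4, one_pow, mul_one]
  · intro r hr s hs
    refine (hker (⟨r, hle hr⟩ * ⟨s, hle hs⟩ * ⟨r, hle hr⟩⁻¹ * ⟨s, hle hs⟩⁻¹)).1 ?_
    rw [map_mul, map_mul, map_mul, map_inv, map_inv,
      (t6_comm ⟨_, (hmem r (hle hr)).1 hr⟩ ⟨_, (hmem s (hle hs)).1 hs⟩).1]
    group
  · refine (hker (⟨r, hle hr⟩ * ⟨r, hle hr⟩ * ⟨r, hle hr⟩)).1 ?_
    rw [map_mul, map_mul]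
    exact (t6_comm ⟨_, (hmem r (hle hr)).1 hr⟩ ⟨_, (hmem r (hle hr)).1 hr⟩).2

end Cfsg.Agent.Invol.J3Type
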